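import Cfsg.Agent.H5.Green
import Cfsg.Agent.H5.Second2
import Cfsg.Agent.H5.Third
import Cfsg.Agent.H5.Contr

/-!
# Miscellaneous block statements
-/

set_option autoImplicit false
open Cfsg MonoidAlgebra
open CfsgH4 hiding centralChar sum_conj

namespace CfsgH5

open scoped ComplexConjugate

variable {G : Type*} [Group G] [Fintype G] {p : ℕ} [hp : Fact p.Prime]

/-- a combination of irreducible characters with integral coefficients vanishing at the nontrivial elements of `P` -/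
theorem one_of_vanish {a : IrrCharacter G → ℂ} (ha : ∀ χ, IsIntegral ℤ (a χ)) (P : Subgroup G) [Fintype P]
    (h : ∀ u ∈ P, u ≠ 1 → ∑ χ : IrrCharacter G, a χ * (χ : G → ℂ) u = 0) :
    ∃ w : ℂ, IsIntegral ℤ w ∧ ∑ χ : IrrCharacter G, a χ * (χ : G → ℂ) 1 = (Nat.card P : ℂ) * w := by
  classical
  obtain ⟨m, hm⟩ := exists_mult P
  refine ⟨∑ χ : IrrCharacter G, a χ * m χ, ?_, ?_⟩
  · refine IsIntegral.sum _ fun χ _ => IsIntegral.mul (ha χ) ?_
    exact isIntegral_algebraMap (R := ℤ) (A := ℂ) (x := (m χ : ℤ)) |> fun h => by simpa using h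
  · have h1 : ∑ u : P, ∑ χ : IrrCharacter G, a χ * (χ : G → ℂ) (u : G)⁻¹ = ∑ χ : IrrCharacter G, a χ * (χ : G → ℂ) 1 := by
      rw [Finset.sum_eq_single (1 : P)]
      · simp
      · intro u _ hu
        apply h _ (P.inv_mem u.2)
        intro h2
        apply hu
        rw [inv_eq_one] at h2
        exact Subtype.ext h2
      · intro h2; exact absurd (Finset.mem_univ _) h2
    rw [← h1, Finset.sum_comm, Finset.mul_sum]
    refine Finset.sum_congr rfl fun χ _ => ?_
    rw [← Finset.mul_sum, hm]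
    ring

/-- S4731 -/
theorem two_blocks {q : ℕ} [hq : Fact q.Prime] {Mp Mq : Ideal AlgInt} (hMp : IsPModular p Mp) (hMq : IsPModular q Mq)
    (hpq : p ≠ q) (hno : ∀ g : G, orderOf g ≠ p * q) {Bp Bq : Set (IrrCharacter G)} (hBp : IsPBlock Mp Bp) (hBq : IsPBlock Mq Bq)
    {y : G} (hy : p ∣ orderOf y) : ∃ w : ℂ, IsIntegral ℤ w ∧
      ∑ᶠ χ ∈ Bp ∩ Bq, (charDegree (χ : G → ℂ) : ℂ) * (χ : G → ℂ) y = (q : ℂ) ^ (Nat.card G).factorization q * w := by
  classical
  haveI := IsPModular.isPrime hMp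
  haveI := IsPModular.isPrime hMq
  set a : IrrCharacter G → ℂ := fun χ => if χ ∈ Bp ∩ Bq then (χ : G → ℂ) y else 0 with ha
  obtain ⟨P⟩ : Nonempty (Sylow q G) := inferInstance
  haveI := Fintype.ofFinite (P : Subgroup G)
  -- the auxiliary class function
  set θ : G → ℂ := fun g => ∑ χ : IrrCharacter G, (if χ ∈ Bp then (χ : G → ℂ) y else 0) * (χ : G → ℂ) g with hθ
  have hθcf : IsClassFunction G θ := by
    intro g x
    show ∑ χ : IrrCharacter G, _ * (χ : G → ℂ) (x * g * x⁻¹) = _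
    exact Finset.sum_congr rfl fun χ _ => by rw [IsIrr.isClassFunction χ.2]
  have hsing : ∀ u : G, q ∣ orderOf u → ¬ p ∣ orderOf u := by
    intro u hqu hpu
    have h1 : p * q ∣ orderOf u := (Nat.Coprime.mul_dvd_of_dvd_of_dvd ((Nat.coprime_primes hp.out hq.out).2 hpq) hpu hqu)
    obtain ⟨m, hm⟩ := h1
    have hm0 : m ≠ 0 := by
      rintro rfl
      rw [mul_zero] at hm
      exact (orderOf_pos u).ne' hm
    apply hno (u ^ m)
    rw [orderOf_pow_of_dvd hm0 (hm ▸ Dvd.intro_left _ rfl), hm, Nat.mul_div_cancel _ (Nat.pos_of_ne_zero hm0)]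
  have hθ0 : ∀ u : G, q ∣ orderOf u → θ u = 0 := by
    intro u hu
    have h1 := weak_orth hMp (inS_eSet hBp) (hsing u hu) (y := y⁻¹) (by rw [orderOf_inv]; exact hy)
    rw [inv_inv] at h1
    refine Eq.trans (Finset.sum_congr rfl fun χ _ => ?_) h1
    split_ifs
    · ring
    · rw [zero_mul]
  have hinn : ∀ χ : IrrCharacter G, classInner θ (χ : G → ℂ) = if χ ∈ Bp then (χ : G → ℂ) y else 0 := by
    intro χ
    have h1 : θ = ∑ ψ : IrrCharacter G, (if ψ ∈ Bp then (ψ : G → ℂ) y else 0) • (ψ : G → ℂ) := by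
      funext g
      rw [Finset.sum_apply]
      rfl
    rw [h1]
    exact classInner_sum_smul _ χ
  have hvan : ∀ u : G, q ∣ orderOf u → ∑ χ : IrrCharacter G, a χ * (χ : G → ℂ) u = 0 := by
    intro u hu
    obtain ⟨z, hz⟩ := exists_ppart (p := q) u
    have hz1 : z ≠ 1 := by
      rintro rfl
      exact regular_of_ppart_one hz hu
    have h1 := blockPart_section hMq hθcf (x := z) (fun u' z' hu' hzz' => by
      apply hθ0
      by_contra hcon
      have h2 := ppart_of_regular hcon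
      have h3 := ppart_unique hu' h2
      rw [h3, isConj_comm] at hzz'
      exact hz1 (isConj_one_right.1 hzz')) hBq hz (IsConj.refl z)
    rw [blockPart_sum] at h1
    rw [← h1]
    refine Finset.sum_congr rfl fun χ _ => ?_
    rw [hinn]
    simp only [ha]
    by_cases h2 : χ ∈ Bp <;> by_cases h3 : χ ∈ Bq <;> simp [h2, h3]
  obtain ⟨w, hw, h⟩ := one_of_vanish (a := a) (by
    intro χ
    simp only [ha]
    split_ifs
    · exact IsCharacter.isIntegral (IsIrr.isCharacter χ.2) y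
    · exact isIntegral_zero) (P : Subgroup G) (by
    intro u hu hu1
    apply hvan
    obtain ⟨k, hk⟩ : ∃ k, orderOf u = q ^ k := by
      obtain ⟨k, hk⟩ := P.2 ⟨u, hu⟩
      have h1 : u ^ q ^ k = 1 := congrArg Subtype.val hk
      obtain ⟨m, -, hm⟩ := (Nat.dvd_prime_pow hq.out).1 (orderOf_dvd_of_pow_eq_one h1)
      exact ⟨m, hm⟩
    rcases Nat.eq_zero_or_pos k with rfl | hk0
    · rw [pow_zero, orderOf_eq_one_iff] at hk
      exact absurd hk hu1
    · rw [hk]; exact dvd_pow_self q hk0.ne')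
  refine ⟨w, hw, ?_⟩
  rw [P.card_eq_multiplicity] at h
  push_cast at h
  rw [← h, finsum_mem_eq_finite_toFinset_sum _ (Set.toFinite _), ← Finset.sum_filter_add_sum_filter_not Finset.univ (fun χ => χ ∈ Bp ∩ Bq)]
  rw [show ∑ χ ∈ Finset.univ.filter (fun χ => ¬ χ ∈ Bp ∩ Bq), a χ * (χ : G → ℂ) 1 = 0 from Finset.sum_eq_zero fun χ hχ => by
    rw [Finset.mem_filter] at hχ
    simp only [ha]
    rw [if_neg hχ.2, zero_mul], add_zero]
  apply Finset.sum_congr
  · ext χ; simp
  · intro χ hχ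
    rw [Finset.mem_filter] at hχ
    simp only [ha]
    rw [if_pos hχ.2, (IsIrr.one_eq χ.2).1]
    ring

end CfsgH5
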