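import Cfsg.Agent.H4.Dec1
import Cfsg.Agent.H4.BrauerC
import Cfsg.Agent.H5.Weak
import Cfsg.Agent.H5.Second2
import Cfsg.Agent.H5.Misc1

/-!
# Blocks of defect zero and the number of irreducible Brauer characters
-/

set_option autoImplicit false
open Cfsg MonoidAlgebra
open CfsgH4 hiding centralChar sum_conj regInner_symm

namespace CfsgH5

open scoped ComplexConjugate

variable {G : Type*} [Group G] [Fintype G] {p : ℕ} [hp : Fact p.Prime] {M : Ideal AlgInt}

/-- a character of full `p`-degree is alone in its block -/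
theorem dz_alone (hM : IsPModular p M) {B : Set (IrrCharacter G)} (hB : IsPBlock M B) {χ ψ : IrrCharacter G} (hχ : χ ∈ B)
    (hψ : ψ ∈ B) (h0 : (charDegree (χ : G → ℂ)).factorization p = (Nat.card G).factorization p) : ψ = χ := by
  classical
  haveI := IsPModular.isPrime hM
  by_contra hne
  have hS : InS M (eSet ({χ} : Set (IrrCharacter G))) := by
    intro g
    rw [coeff_eSet, blockCoeff_eq, Finset.sum_eq_single χ]
    · rw [if_pos (Set.mem_singleton χ)]
      by_cases hg : p ∣ orderOf g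
      · have h1 : (χ : G → ℂ) g⁻¹ = 0 := by
          apply defect_zero_vanish χ.2 hp.out (n := (Nat.card G).factorization p) (d := charDegree (χ : G → ℂ))
            (Nat.ordProj_dvd _ _) (Nat.pow_succ_factorization_not_dvd Nat.card_pos.ne' hp.out) (IsIrr.one_eq χ.2).1
          · rw [← h0]; exact Nat.ordProj_dvd _ _
          · rw [orderOf_inv]; exact hg
        rw [h1, mul_zero, mul_zero]
        exact memLocalRing_zero
      · have h1 : (Nat.card G : ℂ)⁻¹ * ((χ : G → ℂ) 1 * (χ : G → ℂ) g⁻¹) =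
            ((charDegree (χ : G → ℂ) : ℂ) / (Nat.card G : ℂ)) * (χ : G → ℂ) g⁻¹ := by
          rw [(IsIrr.one_eq χ.2).1]; ring
        rw [h1]
        exact MemLocalRing.mul (memLocalRing_div hM (charDegree_ne_zero χ) Nat.card_pos.ne' h0.symm.le)
          (memLocalRing_char (IsIrr.isCharacter χ.2) _)
    · intro φ _ hφ
      rw [if_neg (fun h => hφ (Set.mem_singleton_iff.1 h))]
    · intro h; exact absurd (Finset.mem_univ _) h
  have h1 := sameBlock_om (M := M) χ.2 ψ.2 ((IsPBlock.mem_iff hB hχ).1 hψ) (isCen_eSet ({χ} : Set (IrrCharacter G))) hS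
  rw [om_eSet, om_eSet, if_pos (Set.mem_singleton χ), if_neg (fun h => hne (Set.mem_singleton_iff.1 h)), sub_zero] at h1
  exact not_memLocalIdeal_one h1

theorem degree_defect (hM : IsPModular p M) {B : Set (IrrCharacter G)} (hB : IsPBlock M B) (h0 : blockDefect p B = 0) :
    ∃ χ ∈ B, (charDegree (χ : G → ℂ)).factorization p = (Nat.card G).factorization p := by
  haveI := IsPModular.isPrime hM
  obtain ⟨χ, hχ, hχ1⟩ := exists_min_degree (IsPBlock.nonempty hB) p
  refine ⟨χ, hχ, ?_⟩
  have h1 := (Nat.factorization_le_iff_dvd (charDegree_ne_zero χ) (Nat.card_pos (α := G)).ne').2 (charDegree_dvd χ) p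
  rw [blockDefect, ← hχ1] at h0
  omega

theorem blockRank_le {B : Set (IrrCharacter G)} : blockRank p B ≤ Nat.card B := by
  classical
  haveI := Fintype.ofFinite B
  have h1 := finrank_range_le_card (R := ℂ) (fun χ : B => pRegularPart p ((χ : IrrCharacter G) : G → ℂ))
  have h2 : Set.range (fun χ : B => pRegularPart p ((χ : IrrCharacter G) : G → ℂ)) =
      (fun χ : IrrCharacter G => pRegularPart p (χ : G → ℂ)) '' B := by
    ext f
    constructor
    · rintro ⟨χ, rfl⟩
      exact ⟨χ, χ.2, rfl⟩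
    · rintro ⟨χ, hχ, rfl⟩
      exact ⟨⟨χ, hχ⟩, rfl⟩
  rw [Set.finrank, h2] at h1
  rw [blockRank, Nat.card_eq_fintype_card]
  exact h1

theorem dz_one (hM : IsPModular p M) {B : Set (IrrCharacter G)} (hB : IsPBlock M B) (h0 : blockDefect p B = 0) :
    Nat.card B = 1 ∧ blockRank p B = 1 := by
  obtain ⟨χ, hχ, hχ0⟩ := degree_defect hM hB h0
  constructor
  · rw [Nat.card_eq_one_iff_unique]
    exact ⟨⟨fun a b => Subtype.ext ((dz_alone hM hB hχ a.2 hχ0).trans (dz_alone hM hB hχ b.2 hχ0).symm)⟩, ⟨⟨χ, hχ⟩⟩⟩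
  · apply rank_one_of hχ
    intro ψ hψ
    exact ⟨1, by rw [one_smul, dz_alone hM hB hχ hψ hχ0]⟩

theorem dz_of_eq (hM : IsPModular p M) {B : Set (IrrCharacter G)} (hB : IsPBlock M B) (h : Nat.card B = blockRank p B) :
    blockDefect p B = 0 := by
  classical
  haveI := IsPModular.isPrime hM
  haveI := Fintype.ofFinite B
  have h2 : Set.range (fun χ : B => pRegularPart p ((χ : IrrCharacter G) : G → ℂ)) =
      (fun χ : IrrCharacter G => pRegularPart p (χ : G → ℂ)) '' B := by
    ext f
    constructor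
    · rintro ⟨χ, rfl⟩
      exact ⟨χ, χ.2, rfl⟩
    · rintro ⟨χ, hχ, rfl⟩
      exact ⟨⟨χ, hχ⟩, rfl⟩
  have hli : LinearIndependent ℂ (fun χ : B => pRegularPart p ((χ : IrrCharacter G) : G → ℂ)) := by
    rw [linearIndependent_iff_card_eq_finrank_span, Set.finrank, h2, ← Nat.card_eq_fintype_card, h]
    rfl
  have hvan : ∀ χ ∈ B, ∀ y : G, p ∣ orderOf y → (χ : G → ℂ) y = 0 := by
    intro χ hχ y hy
    have h3 : ∑ ψ : B, ((ψ : IrrCharacter G) : G → ℂ) y • pRegularPart p ((ψ : IrrCharacter G) : G → ℂ) = 0 := by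
      ext x
      rw [Finset.sum_apply]
      by_cases hx : p ∣ orderOf x
      · simp [rho_sing hx]
      · have h4 := weak_orth hM (inS_eSet hB) (x := x) (y := y⁻¹) hx (by rw [orderOf_inv]; exact hy)
        rw [inv_inv] at h4
        simp only [Pi.smul_apply, rho_reg hx, smul_eq_mul, Pi.zero_apply]
        rw [← h4, ← Finset.sum_filter, Finset.sum_subtype (Finset.univ.filter (fun χ : IrrCharacter G => χ ∈ B)) (p := fun χ => χ ∈ B) (by simp)]
        exact Finset.sum_congr rfl fun ψ _ => mul_comm _ _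
    exact (Fintype.linearIndependent_iff.1 hli) (fun ψ => ((ψ : IrrCharacter G) : G → ℂ) y) h3 ⟨χ, hχ⟩
  obtain ⟨χ, hχ⟩ := IsPBlock.nonempty hB
  -- the degree is divisible by the full power
  obtain ⟨P⟩ : Nonempty (Sylow p G) := inferInstance
  haveI := Fintype.ofFinite (P : Subgroup G)
  obtain ⟨w, hw, hw1⟩ := one_of_vanish (a := fun ψ : IrrCharacter G => if ψ = χ then (1 : ℂ) else 0)
    (fun ψ => by split_ifs; exacts [isIntegral_one, isIntegral_zero]) (P : Subgroup G) (by
      intro u hu hu1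
      rw [Finset.sum_eq_single χ]
      · rw [if_pos rfl, one_mul]
        apply hvan χ hχ
        obtain ⟨k, hk⟩ := (IsPGroup.iff_orderOf.1 P.isPGroup' ⟨u, hu⟩)
        rw [Subgroup.orderOf_mk] at hk
        rw [hk]
        apply dvd_pow_self
        rintro rfl
        rw [pow_zero, orderOf_eq_one_iff] at hk
        exact hu1 hk
      · intro ψ _ hne; rw [if_neg hne, zero_mul]
      · intro h; exact absurd (Finset.mem_univ _) h)
  rw [Finset.sum_eq_single χ] at hw1
  · rw [if_pos rfl, one_mul, (IsIrr.one_eq χ.2).1] at hw1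
    have hP0 : Nat.card P ≠ 0 := Nat.card_pos.ne'
    have h5 : Nat.card P ∣ charDegree (χ : G → ℂ) := by
      apply dvd_of_isIntegral_div hP0
      rw [hw1]
      have h6 : (Nat.card P : ℂ) ≠ 0 := by exact_mod_cast hP0
      rw [mul_div_cancel_left₀ _ h6]
      exact hw
    have h6 : (Nat.card G).factorization p ≤ (charDegree (χ : G → ℂ)).factorization p := by
      rw [P.card_eq_multiplicity] at h5
      exact (Nat.Prime.pow_dvd_iff_le_factorization hp.out (charDegree_ne_zero χ)).1 h5
    have h7 : ∀ χ ∈ B, (Nat.card G).factorization p ≤ (charDegree (χ : G → ℂ)).factorization p := by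
      intro ψ hψ
      have h8 := (Nat.factorization_le_iff_dvd (charDegree_ne_zero χ) (Nat.card_pos (α := G)).ne').2 (charDegree_dvd χ) p
      rw [dz_alone hM hB hχ hψ (le_antisymm h8 h6)]
      exact h6
    obtain ⟨ψ, hψ, hψ1⟩ := exists_min_degree (IsPBlock.nonempty hB) p
    rw [blockDefect, ← hψ1]
    have := h7 ψ hψ
    omega
  · intro ψ _ hne; rw [if_neg hne, zero_mul]
  · intro h; exact absurd (Finset.mem_univ _) h

end CfsgH5
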