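import Cfsg.Agent.H5.BSd

/-!
# The Brauer–Suzuki theorem: commutator subgroup version
-/

set_option autoImplicit false
open scoped ComplexConjugate commutatorElement
open Cfsg MonoidAlgebra
open CfsgH4 hiding centralChar sum_conj

universe u

namespace CfsgH5

section Comm

variable {G : Type*} [Group G] [Finite G] {P : Subgroup G} {a d : G} {k : ℕ}

theorem QG.a_four (h : QG P a k) : 4 ∣ orderOf a := by
  rw [h.ord]
  exact (pow_dvd_pow 2 (by omega : 2 ≤ k + 3))

theorem QG.div_mem (h : QG P a k) {u v : G} (hu : u ∈ P) (hv : v ∈ P) (hua : u ∉ Subgroup.zpowers a)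
    (hva : v ∉ Subgroup.zpowers a) : v * u⁻¹ ∈ Subgroup.zpowers a := by
  by_contra hcon
  have h1 := (h.out _ (mul_mem hv (inv_mem hu)) hcon).1
  have hu' : u⁻¹ * a * u = a⁻¹ := inv_conj_of (h.out u hu hua).1
  have h2 : v * u⁻¹ * a * (v * u⁻¹)⁻¹ = a := by
    calc v * u⁻¹ * a * (v * u⁻¹)⁻¹ = v * (u⁻¹ * a * u) * v⁻¹ := by group
      _ = (v * a * v⁻¹)⁻¹ := by rw [hu', conj_inv]
      _ = a := by rw [(h.out v hv hva).1, inv_inv]
  rw [h2] at h1
  exact inv_ne_self_of_four h.a_four h1.symm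

theorem QG.commutator_eq (h : QG P a k) : ⁅P, P⁆ = Subgroup.zpowers (a ^ 2) := by
  have hsq : ∀ w ∈ Subgroup.zpowers a, w * w ∈ Subgroup.zpowers (a ^ 2) := by
    intro w hw
    obtain ⟨i, rfl⟩ := Subgroup.mem_zpowers_iff.1 hw
    refine Subgroup.mem_zpowers_iff.2 ⟨i, ?_⟩
    rw [← zpow_natCast, ← zpow_mul, ← zpow_add]; congr 1; push_cast; ring
  apply le_antisymm
  · rw [Subgroup.commutator_le]
    intro u hu v hv
    rw [commutatorElement_def]
    by_cases hua : u ∈ Subgroup.zpowers a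
    · by_cases hva : v ∈ Subgroup.zpowers a
      · obtain ⟨i, rfl⟩ := Subgroup.mem_zpowers_iff.1 hua
        obtain ⟨j, rfl⟩ := Subgroup.mem_zpowers_iff.1 hva
        have : a ^ i * a ^ j * (a ^ i)⁻¹ * (a ^ j)⁻¹ = 1 := by group
        rw [this]; exact one_mem _
      · have h1 := h.conj hv hva (inv_mem hua)
        rw [inv_inv] at h1
        have h2 : u * v * u⁻¹ * v⁻¹ = u * u := by
          calc u * v * u⁻¹ * v⁻¹ = u * (v * u⁻¹ * v⁻¹) := by group
            _ = u * u := by rw [h1]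
        rw [h2]; exact hsq u hua
    · by_cases hva : v ∈ Subgroup.zpowers a
      · have h1 := h.conj hu hua hva
        rw [h1]
        exact hsq _ (inv_mem hva)
      · obtain ⟨w, hw⟩ : ∃ w, w = v * u⁻¹ := ⟨_, rfl⟩
        have hwa : w ∈ Subgroup.zpowers a := by rw [hw]; exact h.div_mem hu hv hua hva
        have h1 := h.conj hu hua hwa
        have h2 : v = w * u := by rw [hw]; group
        have h3 : u * v * u⁻¹ * v⁻¹ = w⁻¹ * w⁻¹ := by
          calc u * v * u⁻¹ * v⁻¹ = (u * w * u⁻¹) * w⁻¹ := by rw [h2]; group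
            _ = w⁻¹ * w⁻¹ := by rw [h1]
        rw [h3]; exact hsq _ (inv_mem hwa)
  · rw [Subgroup.zpowers_le]
    obtain ⟨x, hx, hxa⟩ := h.exists_out
    have h1 : ⁅x, a⁆ ∈ ⁅P, P⁆ := Subgroup.commutator_mem_commutator hx h.mem
    rw [commutatorElement_def, (h.out x hx hxa).1] at h1
    have h2 := inv_mem h1
    have h3 : (a⁻¹ * a⁻¹)⁻¹ = a ^ 2 := by rw [mul_inv_rev, inv_inv, pow_two]
    rwa [h3] at h2

theorem QG.sq_order (h : QG P a k) : orderOf (a ^ 2) = 2 ^ (k + 2) := by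
  rw [orderOf_pow, h.ord, Nat.gcd_eq_right (dvd_pow_self 2 (by omega)), pow_succ, Nat.mul_div_cancel _ (by norm_num)]

theorem QG.sq_four (h : QG P a k) : 4 ∣ orderOf (a ^ 2) := by
  rw [h.sq_order]
  exact (pow_dvd_pow 2 (by omega : 2 ≤ k + 2))

omit [Finite G] in
theorem centralizer_zpowers (d : G) : Subgroup.centralizer (Subgroup.zpowers d : Set G) = Subgroup.centralizer ({d} : Set G) := by
  ext x
  rw [Subgroup.mem_centralizer_iff, Subgroup.mem_centralizer_singleton_iff]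
  constructor
  · intro h; exact (h d (Subgroup.mem_zpowers d)).symm
  · rintro h w hw
    obtain ⟨i, rfl⟩ := Subgroup.mem_zpowers_iff.1 hw
    exact ((show Commute x d from h).zpow_right i).symm.eq

theorem QG.center (h : QG P a k) {c : G} (hc : c ∈ P) (hcc : ∀ x ∈ P, c * x = x * c) : c = 1 ∨ c = a ^ 2 ^ (k + 2) := by
  apply h.invol hc
  by_cases hca : c ∈ Subgroup.zpowers a
  · obtain ⟨x, hx, hxa⟩ := h.exists_out
    have h1 := h.conj hx hxa hca
    rw [← hcc x hx, mul_inv_cancel_right] at h1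
    nth_rewrite 1 [h1]
    exact inv_mul_cancel c
  · exfalso
    have h1 := (h.out c hc hca).1
    rw [hcc a h.mem, mul_inv_cancel_right] at h1
    exact inv_ne_self_of_four h.a_four h1.symm

/-- the structure of the normalizer of the commutator subgroup -/
theorem QG.norm_struct (h : QG P a k) (hP : CfsgH7.IsSyl 2 P ⊤) (hd : d ∈ Subgroup.zpowers a) (h4 : 4 ∣ orderOf d) :
    ∃ K : Subgroup G, Odd (Nat.card K) ∧ K ≤ Subgroup.centralizer ({d} : Set G) ∧
      Subgroup.normalizer (Subgroup.zpowers d : Set G) ≤ Subgroup.normalizer (K : Set G) ∧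
      K ⊔ P = Subgroup.normalizer (Subgroup.zpowers d : Set G) ∧
      K ⊔ (P ⊓ Subgroup.centralizer ({d} : Set G)) = Subgroup.centralizer ({d} : Set G) ∧
      ((Subgroup.centralizer ({d} : Set G)).subgroupOf (Subgroup.normalizer (Subgroup.zpowers d : Set G))).index = 2 := by
  have hnpc := h.npc_cen hP hd h4
  obtain ⟨lam, l1, l2, l3⟩ := h.exists_lam hP hd h4
  obtain ⟨K, hK⟩ : ∃ K : Subgroup G, K = (Cfsg.pResidual 2 (Subgroup.centralizer ({d} : Set G))).map (Subgroup.subtype _) := ⟨_, rfl⟩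
  have hmem : ∀ g : G, g ∈ K ↔ g ∈ Subgroup.centralizer ({d} : Set G) ∧ (orderOf g).Coprime 2 := by
    intro g
    rw [hK]
    constructor
    · rintro ⟨c, hc, rfl⟩
      refine ⟨c.2, ?_⟩
      have := (CfsgH3.HasNPC.mem_iff hnpc c).1 hc
      rw [← orderOf_submonoid] at this
      exact this
    · rintro ⟨hg, ho⟩
      refine ⟨⟨g, hg⟩, ?_, rfl⟩
      apply (CfsgH3.HasNPC.mem_iff hnpc _).2
      rw [Subgroup.orderOf_mk]; exact ho
  obtain ⟨x, hx, hxa⟩ := h.exists_out
  have hdecC : ∀ c ∈ Subgroup.centralizer ({d} : Set G), ∃ m ∈ K, ∃ a' ∈ Subgroup.zpowers a, c = m * a' := by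
    intro c hc
    obtain ⟨m, a', hm, ha', hc'⟩ := l3 ⟨c, hc⟩
    refine ⟨m, (hmem _).2 ⟨m.2, by rw [orderOf_submonoid]; exact hm⟩, a', ha', congrArg Subtype.val hc'⟩
  have hKN : Subgroup.normalizer (Subgroup.zpowers d : Set G) ≤ Subgroup.normalizer (K : Set G) := by
    intro n hn
    rw [Subgroup.mem_normalizer_iff]
    intro g
    rw [hmem, hmem, CfsgH3.orderOf_conj]
    rw [Subgroup.mem_normalizer_iff.1 (norm_le_norm_cen hn) g]
  refine ⟨K, ?_, fun g hg => ((hmem g).1 hg).1, hKN, ?_, ?_, ?_⟩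
  · have h1 := (CfsgH3.hasNPC_iff_card (p := 2)).1 hnpc
    have h2 : Nat.card K = Nat.card (Cfsg.pResidual 2 (Subgroup.centralizer ({d} : Set G))) := by
      rw [hK]
      exact Nat.card_congr ((Subgroup.equivMapOfInjective _ _ (Subgroup.subtype_injective _)).symm).toEquiv
    rw [h2, ← Nat.coprime_two_right]
    exact h1
  · apply le_antisymm
    · exact sup_le (fun g hg => cen_le_norm ((hmem g).1 hg).1) (h.le_norm hd)
    · intro n hn
      by_cases hnC : n ∈ Subgroup.centralizer ({d} : Set G)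
      · obtain ⟨m, hm, a', ha', rfl⟩ := hdecC n hnC
        exact mul_mem (Subgroup.mem_sup_left hm) (Subgroup.mem_sup_right (h.le ha'))
      · have h1 := (h.mul_mem_iff hP hd h4 hx hxa n).1 ⟨hn, hnC⟩
        obtain ⟨m, hm, a', ha', h2⟩ := hdecC _ h1
        have h3 : n = x⁻¹ * (m * a') := by rw [← h2]; group
        rw [h3]
        exact mul_mem (inv_mem (Subgroup.mem_sup_right hx)) (mul_mem (Subgroup.mem_sup_left hm) (Subgroup.mem_sup_right (h.le ha')))
  · rw [h.inf_cen hd h4]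
    apply le_antisymm
    · exact sup_le (fun g hg => ((hmem g).1 hg).1) (h.syl_cen hP hd h4).le
    · intro c hc
      obtain ⟨m, hm, a', ha', rfl⟩ := hdecC c hc
      exact mul_mem (Subgroup.mem_sup_left hm) (Subgroup.mem_sup_right ha')
  · rw [Subgroup.index_eq_two_iff]
    refine ⟨⟨x⁻¹, inv_mem (h.le_norm hd hx)⟩, fun b => ?_⟩
    rw [Subgroup.mem_subgroupOf, Subgroup.mem_subgroupOf]
    have key : (b : G)⁻¹ ∈ Subgroup.centralizer ({d} : Set G) ↔ (b : G) ∈ Subgroup.centralizer ({d} : Set G) := inv_mem_iff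
    have h1 := h.mul_mem_iff hP hd h4 hx hxa (b : G)⁻¹
    have h2 : (b : G) * x⁻¹ ∈ Subgroup.centralizer ({d} : Set G) ↔ x * (b : G)⁻¹ ∈ Subgroup.centralizer ({d} : Set G) := by
      rw [← inv_mem_iff]
      have : ((b : G) * x⁻¹)⁻¹ = x * (b : G)⁻¹ := by group
      rw [this]
    have h3 : (b : G)⁻¹ ∈ Subgroup.normalizer (Subgroup.zpowers d : Set G) := inv_mem b.2
    show Xor (((b : G) * x⁻¹) ∈ Subgroup.centralizer ({d} : Set G)) ((b : G) ∈ Subgroup.centralizer ({d} : Set G))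
    rw [h2, ← h1, key]
    by_cases hb : (b : G) ∈ Subgroup.centralizer ({d} : Set G)
    · exact Or.inr ⟨hb, fun h => h.2 hb⟩
    · exact Or.inl ⟨⟨h3, hb⟩, hb⟩

end Comm

section Cen

variable {G : Type*} [Group G] [Finite G] {P : Subgroup G} {z : G}

theorem QG.ui {a : G} {k : ℕ} (h : QG P a k) : UI P (a ^ 2 ^ (k + 2)) :=
  ⟨pow_mem h.mem _, h.z_ne, h.z_sq, fun _ hx hxx => h.invol hx hxx⟩

/-- if `O(G) = 1` and the centre of `P` has order 2, then so has the centre of `G` -/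
theorem card_center_of (hP : CfsgH7.IsSyl 2 P ⊤) (hU : UI P z) (hO : ∀ N : Subgroup G, N.Normal → Odd (Nat.card N) → N = ⊥)
    (hcen : ∀ c ∈ P, (∀ x ∈ P, c * x = x * c) → c = 1 ∨ c = z) : Nat.card (Subgroup.center G) = 2 := by
  have hO' : pPrimeCore 2 G = ⊥ := by
    apply hO _ inferInstance
    rw [← Nat.coprime_two_right]
    exact CfsgH2.coprime_card_pPrimeCore 2
  have hz : z ∈ Subgroup.center G := by
    rw [Subgroup.mem_center_iff]
    intro g
    have h1 := brauer_suzuki hP hU g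
    rw [hO', Subgroup.mem_bot] at h1
    rw [mul_inv_eq_one, mul_inv_eq_iff_eq_mul] at h1
    exact h1.symm
  have hp : IsPGroup 2 (Subgroup.center G) := by
    intro c
    obtain ⟨s, t, hs, hst, hcm, ⟨k, hk⟩, ht⟩ := exists_decomp (p := 2) c
    have ht1 : t = 1 := by
      have h1 : (Subgroup.zpowers (t : G)).Normal := by
        refine ⟨fun w hw g => ?_⟩
        have h2 : w ∈ Subgroup.center G := (Subgroup.zpowers_le.2 t.2) hw
        rw [Subgroup.mem_center_iff.1 h2 g, mul_inv_cancel_right]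
        exact hw
      have h2 := hO _ h1 (by
        rw [Nat.card_zpowers, ← Nat.not_even_iff_odd, even_iff_two_dvd, orderOf_submonoid]; exact ht)
      rw [Subgroup.zpowers_eq_bot] at h2
      exact Subtype.ext h2
    refine ⟨k, ?_⟩
    rw [← hst, ht1, mul_one, ← hk, pow_orderOf_eq_one]
  have hle : Subgroup.center G ≤ P := by
    obtain ⟨g, -, hg⟩ := hP.exists_conj_le hp le_top
    intro c hc
    have h1 := hg (CfsgH7.conj_mem_cj (g := g) hc)
    rwa [Subgroup.mem_center_iff.1 hc g, mul_inv_cancel_right] at h1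
  have heq : Subgroup.center G = Subgroup.zpowers z := by
    apply le_antisymm
    · intro c hc
      rcases hcen c (hle hc) (fun x _ => (Subgroup.mem_center_iff.1 hc x).symm) with h | h
      · rw [h]; exact one_mem _
      · rw [h]; exact Subgroup.mem_zpowers z
    · exact (Subgroup.zpowers_le).2 hz
  rw [heq, Nat.card_zpowers]
  exact orderOf_eq_prime (by rw [pow_two]; exact hU.sq) hU.ne

theorem one_of_commutator_le {χ : G → ℂ} (hχ : IsIrrCharacter G χ) (h : ∀ n ∈ commutator G, χ n = χ 1) : χ 1 = 1 := by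
  obtain ⟨ψ, hψ, rfl⟩ := exists_irr_of_ker (commutator G) hχ h
  obtain ⟨f, rfl⟩ := IsIrr.linear_of_comm (G := G ⧸ commutator G) (fun a b => mul_comm (G := Abelianization G) a b) hψ
  simp

/-- 2-subgroups of the subgroup generated by the involutions -/
theorem cyclic_of_invol (hP : CfsgH7.IsSyl 2 P ⊤) (hU : UI P z) (Q : Subgroup (Subgroup.closure {g : G | orderOf g = 2}))
    (hQ : IsPGroup 2 Q) : IsCyclic Q := by
  have hR : Subgroup.closure {g : G | orderOf g = 2} ≤ pPrimeCore 2 G ⊔ Subgroup.zpowers z := by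
    rw [Subgroup.closure_le]
    intro g hg
    have hg2 : orderOf g = 2 := hg
    have hgg : g * g = 1 := by
      have := pow_orderOf_eq_one g
      rwa [hg2, pow_two] at this
    have hg1 : g ≠ 1 := by
      rintro rfl
      rw [orderOf_one] at hg2
      norm_num at hg2
    obtain ⟨c, -, hc⟩ := hP.exists_conj_le (isPGroup_invol hgg) le_top
    have h1 := hc (CfsgH7.conj_mem_cj (g := c) (Subgroup.mem_zpowers g))
    have h2 : c * g * c⁻¹ = z := by
      refine (hU.inv _ h1 ?_).resolve_left fun h => hg1 (conj_eq_one h)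
      calc c * g * c⁻¹ * (c * g * c⁻¹) = c * (g * g) * c⁻¹ := by group
        _ = 1 := by rw [hgg]; group
    have h3 := brauer_suzuki hP hU c⁻¹
    have h4 : g = (z * c⁻¹ * z⁻¹ * c⁻¹⁻¹)⁻¹ * z := by
      calc g = c⁻¹ * (c * g * c⁻¹) * c := by group
        _ = (z * c⁻¹ * z⁻¹ * c⁻¹⁻¹)⁻¹ * z := by rw [h2]; group
    rw [h4]
    exact mul_mem (Subgroup.mem_sup_left (inv_mem h3)) (Subgroup.mem_sup_right (Subgroup.mem_zpowers z))
  have hdec : ∀ q : Q, q ≠ 1 → ∃ n ∈ pPrimeCore 2 G, ((q : Subgroup.closure {g : G | orderOf g = 2}) : G) = n * z := by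
    intro q hq
    have h1 := hR (q : Subgroup.closure {g : G | orderOf g = 2}).2
    rw [Subgroup.mem_sup_of_normal_left] at h1
    obtain ⟨n, hn, w, hw, hnw⟩ := h1
    obtain ⟨i, rfl⟩ := Subgroup.mem_zpowers_iff.1 hw
    rcases Int.even_or_odd' i with ⟨j, rfl | rfl⟩
    · exfalso
      apply hq
      rw [zpow_mul, zpow_ofNat, pow_two, hU.sq, one_zpow, mul_one] at hnw
      obtain ⟨k, hk⟩ := hQ q
      have h2 : ((q : Subgroup.closure {g : G | orderOf g = 2}) : G) ^ 2 ^ k = 1 := by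
        have := congrArg (fun w : Q => ((w : Subgroup.closure {g : G | orderOf g = 2}) : G)) hk
        simpa using this
      rw [← hnw] at h2
      have h3 : orderOf n ∣ 2 ^ k := orderOf_dvd_of_pow_eq_one h2
      have h4 : orderOf n ∣ Nat.card (pPrimeCore 2 G) := by
        have := orderOf_dvd_natCard (⟨n, hn⟩ : pPrimeCore 2 G)
        rwa [Subgroup.orderOf_mk] at this
      have h5 := Nat.dvd_gcd h3 h4
      have h6 : (2 ^ k).gcd (Nat.card (pPrimeCore 2 G)) = 1 := Nat.Coprime.pow_left k (CfsgH2.coprime_card_pPrimeCore 2).symm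
      rw [h6, Nat.dvd_one, orderOf_eq_one_iff] at h5
      apply Subtype.ext; apply Subtype.ext
      rw [← hnw, h5]; rfl
    · refine ⟨n, hn, ?_⟩
      rw [← hnw, zpow_add, zpow_mul, zpow_ofNat, pow_two, hU.sq, one_zpow, one_mul, zpow_one]
  have htriv : ∀ q : Q, ((q : Subgroup.closure {g : G | orderOf g = 2}) : G) ∈ pPrimeCore 2 G → q = 1 := by
    intro q hq
    by_contra hq1
    obtain ⟨n, hn, h1⟩ := hdec q hq1
    have h2 : z ∈ pPrimeCore 2 G := by
      have h3 : z = n⁻¹ * ((q : Subgroup.closure {g : G | orderOf g = 2}) : G) := by rw [h1]; group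
      rw [h3]; exact mul_mem (inv_mem hn) hq
    have h4 : orderOf z ∣ Nat.card (pPrimeCore 2 G) := by
      have := orderOf_dvd_natCard (⟨z, h2⟩ : pPrimeCore 2 G)
      rwa [Subgroup.orderOf_mk] at this
    rw [orderOf_eq_prime (by rw [pow_two]; exact hU.sq) hU.ne] at h4
    exact ((Nat.Prime.coprime_iff_not_dvd Nat.prime_two).1 (CfsgH2.coprime_card_pPrimeCore (G := G) 2).symm) h4
  have huniq : ∀ q q' : Q, q ≠ 1 → q' ≠ 1 → q = q' := by
    intro q q' hq hq'
    obtain ⟨n, hn, h1⟩ := hdec q hq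
    obtain ⟨n', hn', h1'⟩ := hdec q' hq'
    have h2 : q * q'⁻¹ = 1 := by
      apply htriv
      have h3 : (((q * q'⁻¹ : Q) : Subgroup.closure {g : G | orderOf g = 2}) : G) = n * n'⁻¹ := by
        push_cast
        rw [h1, h1']; group
      rw [h3]; exact mul_mem hn (inv_mem hn')
    exact mul_inv_eq_one.1 h2
  by_cases hex : ∃ q : Q, q ≠ 1
  · obtain ⟨q, hq⟩ := hex
    refine ⟨⟨q, fun x => ?_⟩⟩
    by_cases hx : x = 1
    · rw [hx]; exact one_mem (Subgroup.zpowers q)
    · rw [huniq x q hx hq]; exact Subgroup.mem_zpowers q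
  · push Not at hex
    exact ⟨⟨1, fun x => by rw [hex x]; exact one_mem (Subgroup.zpowers (1 : Q))⟩⟩

theorem Q8In.ui (h : Q8In P z) : UI P z := ⟨h.mem, h.ne, h.sq, h.inv⟩

theorem Q8In.center (h : Q8In P z) {c : G} (hc : c ∈ P) (hcc : ∀ x ∈ P, c * x = x * c) : c = 1 ∨ c = z := by
  apply h.inv c hc
  by_contra hcon
  obtain ⟨y, hy, hyc⟩ := h.real c hc hcon
  rw [← hcc y hy, mul_inv_cancel_right] at hyc
  apply hcon
  nth_rewrite 1 [hyc]
  exact inv_mul_cancel c

end Cen

end CfsgH5
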