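import Cfsg.Agent.H5.Green
import Cfsg.Agent.H5.Second2
import Cfsg.Agent.H5.Contr
import Cfsg.Agent.H5.Princ2
import Cfsg.Agent.H4.Bp5
import Cfsg.Agent.H4.Extend
import Cfsg.Agent.H5.Third

/-!
# Blocks with central defect group
-/

set_option autoImplicit false
open Cfsg MonoidAlgebra
open CfsgH4 hiding centralChar sum_conj

namespace CfsgH5

open scoped ComplexConjugate

section sect

variable {G : Type*} [Group G] [Finite G] {p : ℕ} [hp : Fact p.Prime]

/-- the standard exponent for `p`-parts -/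
def IsPExp (p κ : ℕ) (G : Type*) [Group G] : Prop := ∀ g x : G, IsPPart p g x ↔ x = g ^ κ

theorem IsPExp.one {κ : ℕ} (hκ : IsPExp p κ G) {x : G} (hx : ¬ p ∣ orderOf x) : x ^ κ = 1 :=
  ((hκ _ _).1 (ppart_of_regular hx)).symm

theorem IsPExp.mul {κ : ℕ} (hκ : IsPExp p κ G) {z x : G} (hz : ∃ k, orderOf z = p ^ k) (hx : ¬ p ∣ orderOf x)
    (hc : Commute z x) : (z * x) ^ κ = z :=
  ((hκ _ _).1 ⟨x, rfl, hc, hz, hx⟩).symm

theorem IsPExp.reg {κ : ℕ} (hκ : IsPExp p κ G) (g : G) : ¬ p ∣ orderOf ((g ^ κ)⁻¹ * g) := by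
  obtain ⟨y, hy, hc, -, hy'⟩ := (hκ g (g ^ κ)).2 rfl
  have : (g ^ κ)⁻¹ * g = y := by rw [inv_mul_eq_iff_eq_mul]; exact hy.symm
  rwa [this]

theorem orderOf_of_mem_pgroup {Z : Subgroup G} (hZ : IsPGroup p Z) {z : G} (hz : z ∈ Z) : ∃ k, orderOf z = p ^ k := by
  obtain ⟨k, hk⟩ := hZ ⟨z, hz⟩
  have h1 : z ^ p ^ k = 1 := congrArg Subtype.val hk
  obtain ⟨m, -, hm⟩ := (Nat.dvd_prime_pow hp.out).1 (orderOf_dvd_of_pow_eq_one h1)
  exact ⟨m, hm⟩

open Classical in
theorem section_sum [Fintype G] {κ : ℕ} (hκ : IsPExp p κ G) {Z : Subgroup G} [Fintype Z] (hZp : IsPGroup p Z)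
    (hZ : ∀ z ∈ Z, ∀ x : G, ¬ p ∣ orderOf x → Commute z x) (F : G → ℂ) :
    ∑ g : G, (if g ^ κ ∈ Z then F g else 0) = ∑ x : G, if p ∣ orderOf x then 0 else ∑ z : Z, F (z * x) := by
  have h1 : ∑ x : G, (if p ∣ orderOf x then 0 else ∑ z : Z, F (z * x)) = ∑ a ∈ (Finset.univ : Finset (G × Z)).filter (fun a => ¬ p ∣ orderOf a.1), F (a.2 * a.1) := by
    rw [Finset.sum_filter, ← Finset.univ_product_univ, Finset.sum_product]
    refine Finset.sum_congr rfl fun x _ => ?_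
    by_cases hx : p ∣ orderOf x
    · simp [hx]
    · simp [hx]
  rw [h1, ← Finset.sum_filter]
  symm
  refine Finset.sum_bij (fun a _ => (a.2 : G) * a.1) ?_ ?_ ?_ ?_
  · rintro ⟨x, z⟩ ha
    rw [Finset.mem_filter] at ha
    rw [Finset.mem_filter]
    refine ⟨Finset.mem_univ _, ?_⟩
    have h2 := hκ.mul (orderOf_of_mem_pgroup hZp z.2) ha.2 (hZ z z.2 x ha.2)
    simp only
    rw [h2]; exact z.2
  · rintro ⟨x, z⟩ ha ⟨y, w⟩ hb h
    rw [Finset.mem_filter] at ha hb
    have h2 := hκ.mul (orderOf_of_mem_pgroup hZp z.2) ha.2 (hZ z z.2 x ha.2)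
    have h3 := hκ.mul (orderOf_of_mem_pgroup hZp w.2) hb.2 (hZ w w.2 y hb.2)
    simp only at h
    rw [h, h3] at h2
    have h4 : w = z := Subtype.ext h2
    subst h4
    have h5 := mul_left_cancel h
    simp [h5]
  · intro g hg
    rw [Finset.mem_filter] at hg
    refine ⟨((g ^ κ)⁻¹ * g, ⟨g ^ κ, hg.2⟩), ?_, ?_⟩
    · rw [Finset.mem_filter]
      exact ⟨Finset.mem_univ _, hκ.reg g⟩
    · simp
  · rintro ⟨x, z⟩ _
    rfl

/-- twist of `f` by a function on `Z` -/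
noncomputable def tw (κ : ℕ) (Z : Subgroup G) (lam : Z → ℂ) (f : G → ℂ) : G → ℂ := by
  classical exact fun g => if h : g ^ κ ∈ Z then lam ⟨g ^ κ, h⟩ * f ((g ^ κ)⁻¹ * g) else 0

omit [Finite G] in
theorem tw_of_mem {κ : ℕ} {Z : Subgroup G} (lam : Z → ℂ) (f : G → ℂ) {g : G} (h : g ^ κ ∈ Z) :
    tw κ Z lam f g = lam ⟨g ^ κ, h⟩ * f ((g ^ κ)⁻¹ * g) := dif_pos h

omit [Finite G] in
theorem tw_of_notMem {κ : ℕ} {Z : Subgroup G} (lam : Z → ℂ) (f : G → ℂ) {g : G} (h : g ^ κ ∉ Z) :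
    tw κ Z lam f g = 0 := dif_neg h

theorem tw_mul {κ : ℕ} (hκ : IsPExp p κ G) {Z : Subgroup G} (hZp : IsPGroup p Z) (lam : Z → ℂ) (f : G → ℂ) (z : Z) {x : G}
    (hx : ¬ p ∣ orderOf x) (hc : Commute (z : G) x) : tw κ Z lam f (z * x) = lam z * f x := by
  have h2 := hκ.mul (orderOf_of_mem_pgroup hZp z.2) hx hc
  have h3 : ((z : G) * x) ^ κ ∈ Z := by rw [h2]; exact z.2
  rw [tw_of_mem lam f h3]
  have h4 : (⟨((z : G) * x) ^ κ, h3⟩ : Z) = z := Subtype.ext h2
  rw [h4, h2]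
  congr 2
  group

theorem tw_isClassFunction {κ : ℕ} {Z : Subgroup G} (hZ : Z ≤ Subgroup.center G) (lam : Z → ℂ) {f : G → ℂ} (hf : IsClassFunction G f) :
    IsClassFunction G (tw κ Z lam f) := by
  intro g c
  have h1 : (c * g * c⁻¹) ^ κ = c * g ^ κ * c⁻¹ := conj_pow
  by_cases h : g ^ κ ∈ Z
  · have h2 : c * g ^ κ * c⁻¹ = g ^ κ := by
      have := Subgroup.mem_center_iff.1 (hZ h) c
      rw [this, mul_inv_cancel_right]
    have h3 : (c * g * c⁻¹) ^ κ = g ^ κ := h1.trans h2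
    have h4 : (c * g * c⁻¹) ^ κ ∈ Z := by rw [h3]; exact h
    rw [tw_of_mem _ _ h4, tw_of_mem _ _ h]
    have h5 : (⟨(c * g * c⁻¹) ^ κ, h4⟩ : Z) = ⟨g ^ κ, h⟩ := Subtype.ext h3
    rw [h5, h3]
    congr 1
    have h6 : (g ^ κ)⁻¹ * (c * g * c⁻¹) = c * ((g ^ κ)⁻¹ * g) * c⁻¹ := by
      have := Subgroup.mem_center_iff.1 (Subgroup.inv_mem _ (hZ h)) c
      calc (g ^ κ)⁻¹ * (c * g * c⁻¹) = ((g ^ κ)⁻¹ * c) * g * c⁻¹ := by group
        _ = (c * (g ^ κ)⁻¹) * g * c⁻¹ := by rw [this]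
        _ = _ := by group
    rw [h6, hf]
  · have h4 : (c * g * c⁻¹) ^ κ ∉ Z := by
      rw [h1]
      intro h5
      apply h
      have h6 := Subgroup.mem_center_iff.1 (hZ h5) c
      have h7 : g ^ κ = c * g ^ κ * c⁻¹ := by
        have h8 : c * (c * g ^ κ * c⁻¹) = c * g ^ κ := by rw [h6]; group
        exact (mul_left_cancel h8).symm
      rw [h7]; exact h5
    rw [tw_of_notMem _ _ h4, tw_of_notMem _ _ h]

/-- inner products of twists -/
theorem inner_tw [Fintype G] {κ : ℕ} (hκ : IsPExp p κ G) {Z : Subgroup G} [Fintype Z] (hZp : IsPGroup p Z) (hZ : Z ≤ Subgroup.center G)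
    (lam : Z → ℂ) (f : G → ℂ) (μ : Z → ℂ) {ψ : G → ℂ} (hψ : ∀ (z : Z) (x : G), ψ (z * x) = μ z * ψ x) :
    (Nat.card G : ℂ) * classInner (tw κ Z lam f) ψ = (∑ z : Z, lam z * conj (μ z)) * regInner p f ψ := by
  classical
  rw [classInner, ← mul_assoc, mul_inv_cancel₀ (by exact_mod_cast Nat.card_pos.ne'), one_mul]
  have hcomm : ∀ z ∈ Z, ∀ x : G, ¬ p ∣ orderOf x → Commute z x := fun z hz x _ => (Subgroup.mem_center_iff.1 (hZ hz) x).symm
  have h1 : ∀ g : G, tw κ Z lam f g * conj (ψ g) = if g ^ κ ∈ Z then tw κ Z lam f g * conj (ψ g) else 0 := by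
    intro g
    split_ifs with h
    · rfl
    · rw [tw_of_notMem _ _ h, zero_mul]
  rw [Finset.sum_congr rfl fun g _ => h1 g, section_sum hκ hZp hcomm (fun g => tw κ Z lam f g * conj (ψ g)), regInner, Finset.mul_sum]
  refine Finset.sum_congr rfl fun x _ => ?_
  split_ifs with hx
  · rw [mul_zero]
  · rw [Finset.sum_mul]
    refine Finset.sum_congr rfl fun z _ => ?_
    rw [tw_mul hκ hZp lam f z hx (hcomm z z.2 x hx), hψ, map_mul]
    ring

end sect

section main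

variable {G : Type*} [Group G] [Fintype G] {p : ℕ} [hp : Fact p.Prime] {M : Ideal AlgInt}

open Classical in
theorem sum_hom_mul {Z : Type*} [Group Z] [Fintype Z] (lam μ : Z →* ℂˣ) :
    ∑ z : Z, (lam z : ℂ) * conj (μ z : ℂ) = if lam = μ then (Nat.card Z : ℂ) else 0 := by
  have h1 := classInner_irr' ⟨fun z => (lam z : ℂ), isCharacter_one_dim lam⟩ ⟨fun z => (μ z : ℂ), isCharacter_one_dim μ⟩
  rw [classInner] at h1
  have h2 : (Nat.card Z : ℂ) ≠ 0 := by exact_mod_cast Nat.card_pos.ne'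
  have h3 : ∑ z : Z, (lam z : ℂ) * conj (μ z : ℂ) = (Nat.card Z : ℂ) * ((Nat.card Z : ℂ)⁻¹ * ∑ z : Z, (lam z : ℂ) * conj (μ z : ℂ)) := by
    rw [← mul_assoc, mul_inv_cancel₀ h2, one_mul]
  rw [h3]
  have h4 : (Nat.card Z : ℂ)⁻¹ * ∑ z : Z, (lam z : ℂ) * conj (μ z : ℂ) = if lam = μ then 1 else 0 := by
    rw [← show _ = _ from h1.symm]
    congr 1
    rw [Subtype.mk.injEq]
    exact propext ⟨fun h => linHom_injective h, fun h => by rw [h]⟩
  rw [h4]
  split_ifs <;> simp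

theorem pos_of_mul_pos_of_pos_left' {a b : ℤ} (h : 0 < a * b) (ha : 0 < a) : 0 < b := by
  rcases lt_trichotomy b 0 with h1 | h1 | h1
  · nlinarith
  · rw [h1, mul_zero] at h; exact absurd h (lt_irrefl _)
  · exact h1

/-- the numerical consequences of relative defect zero -/
theorem cent_int (hM : IsPModular p M) {Z : Subgroup G} (hZp : IsPGroup p Z) {B : Set (IrrCharacter G)} (hB : IsPBlock M B)
    {χ : IrrCharacter G} (hχ : χ ∈ B) (hdeg : (charDegree (χ : G → ℂ)).factorization p + (Nat.card Z).factorization p = (Nat.card G).factorization p) :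
    ∃ n : IrrCharacter G → ℤ, (∀ ψ : IrrCharacter G, (Nat.card Z : ℂ) * regInner p (χ : G → ℂ) (ψ : G → ℂ) = (Nat.card G : ℂ) * n ψ) ∧
      (0 < n χ) ∧ ∀ ψ ∈ B, blockHeight p B (ψ : G → ℂ) = 0 → n ψ ≠ 0 := by
  obtain ⟨A, h1, -, -, h4, -, h6, -, h8, -⟩ := contr hM hB hχ
  have hd := degree_eq (p := p) hχ
  obtain ⟨k, hk⟩ := IsPGroup.iff_card.1 hZp
  have hk' : (Nat.card Z).factorization p = k := by
    rw [hk, Nat.factorization_pow, Finsupp.smul_apply, Nat.Prime.factorization_self hp.out, smul_eq_mul, mul_one]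
  have hde : blockDefect p B = k + blockHeight p B (χ : G → ℂ) := by omega
  choose n hn using h6
  have hp0 : (p : ℂ) ≠ 0 := by exact_mod_cast hp.out.ne_zero
  refine ⟨n, fun ψ => ?_, ?_, fun ψ hψ h0 hn0 => ?_⟩
  · have h9 := h1 ψ
    rw [hn ψ, hde, pow_add] at h9
    rw [hk]
    push_cast at h9 ⊢
    have h10 : (p : ℂ) ^ blockHeight p B (χ : G → ℂ) ≠ 0 := pow_ne_zero _ hp0
    apply mul_left_cancel₀ h10
    linear_combination h9
  · rw [hn χ] at h4
    have : (0 : ℤ) < (p : ℤ) ^ blockHeight p B (χ : G → ℂ) := pow_pos (by exact_mod_cast hp.out.pos) _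
    exact pos_of_mul_pos_of_pos_left' h4 this
  · apply h8 ψ hψ h0
    rw [hn ψ, hn0, mul_zero]
    exact dvd_zero _

theorem exists_lam {Z : Subgroup G} (hZ : Z ≤ Subgroup.center G) (ψ : IrrCharacter G) :
    ∃ lam : Z →* ℂˣ, ∀ (z : Z) (x : G), (ψ : G → ℂ) (z * x) = lam z * (ψ : G → ℂ) x := by
  obtain ⟨lam, h⟩ := exists_central_char ψ.2 Z hZ
  refine ⟨lam, fun z x => ?_⟩
  rw [← h z x, Subgroup.mem_center_iff.1 (hZ z.2) x]

/-- `n χ = 1` -/
theorem cent_one (hM : IsPModular p M) {κ : ℕ} (hκ : IsPExp p κ G) {Z : Subgroup G} (hZp : IsPGroup p Z) (hZ : Z ≤ Subgroup.center G)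
    {χ : IrrCharacter G} (hdeg : (charDegree (χ : G → ℂ)).factorization p + (Nat.card Z).factorization p = (Nat.card G).factorization p) :
    (Nat.card Z : ℂ) * regInner p (χ : G → ℂ) (χ : G → ℂ) = (Nat.card G : ℂ) := by
  classical
  haveI := Fintype.ofFinite Z
  haveI := IsPModular.isPrime hM
  obtain ⟨n, h1, h2, -⟩ := cent_int hM hZp (isPBlock_blockOf χ) (mem_blockOf_self χ) hdeg
  obtain ⟨lam, hlam⟩ := exists_lam hZ χ
  have h3 := inner_tw hκ hZp hZ (fun z => (lam z : ℂ)) (χ : G → ℂ) (fun z => (lam z : ℂ)) hlam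
  rw [sum_hom_mul, if_pos rfl, h1 χ] at h3
  have hG : (Nat.card G : ℂ) ≠ 0 := by exact_mod_cast Nat.card_pos.ne'
  have h4 : classInner (tw κ Z (fun z => (lam z : ℂ)) (χ : G → ℂ)) (χ : G → ℂ) = n χ := mul_left_cancel₀ hG h3
  -- the twist is a truncation of `χ`
  have h5 : ∀ g : G, tw κ Z (fun z => (lam z : ℂ)) (χ : G → ℂ) g = if g ^ κ ∈ Z then (χ : G → ℂ) g else 0 := by
    intro g
    split_ifs with h
    · rw [tw_of_mem _ _ h, ← hlam ⟨g ^ κ, h⟩]
      congr 1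
      simp
    · rw [tw_of_notMem _ _ h]
  have h6 : (n χ : ℝ) ≤ 1 := by
    have h7 : (Nat.card G : ℂ) * (n χ : ℂ) = ((∑ g : G, if g ^ κ ∈ Z then ‖(χ : G → ℂ) g‖ ^ 2 else 0 : ℝ) : ℂ) := by
      rw [← h4, classInner, ← mul_assoc, mul_inv_cancel₀ hG, one_mul]
      push_cast
      refine Finset.sum_congr rfl fun g _ => ?_
      rw [h5]
      split_ifs
      · rw [Complex.mul_conj, Complex.normSq_eq_norm_sq]
      · simp
    have h8 : (Nat.card G : ℂ) = ((∑ g : G, ‖(χ : G → ℂ) g‖ ^ 2 : ℝ) : ℂ) := by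
      have h9 := classInner_irr' χ χ
      rw [if_pos rfl, classInner] at h9
      have h10 : (Nat.card G : ℂ) = (Nat.card G : ℂ) * ((Nat.card G : ℂ)⁻¹ * ∑ g : G, (χ : G → ℂ) g * conj ((χ : G → ℂ) g)) := by
        rw [h9, mul_one]
      rw [h10, ← mul_assoc, mul_inv_cancel₀ hG, one_mul]
      push_cast
      refine Finset.sum_congr rfl fun g _ => ?_
      rw [Complex.mul_conj, Complex.normSq_eq_norm_sq]; push_cast; rfl
    have h11 : (Nat.card G : ℝ) * (n χ : ℝ) ≤ (Nat.card G : ℝ) := by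
      have e1 : (Nat.card G : ℝ) * (n χ : ℝ) = ∑ g : G, if g ^ κ ∈ Z then ‖(χ : G → ℂ) g‖ ^ 2 else 0 := by exact_mod_cast h7
      have e2 : (Nat.card G : ℝ) = ∑ g : G, ‖(χ : G → ℂ) g‖ ^ 2 := by exact_mod_cast h8
      rw [e1]
      conv_rhs => rw [e2]
      refine Finset.sum_le_sum fun g _ => ?_
      split_ifs
      · exact le_rfl
      · positivity
    have hGp : (0 : ℝ) < Nat.card G := by exact_mod_cast Nat.card_pos
    nlinarith
  have h12 : n χ = 1 := by
    have : n χ ≤ 1 := by exact_mod_cast h6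
    omega
  rw [h1 χ, h12]; simp

theorem inner_one_pos (χ : IrrCharacter G) : 0 < ((χ : G → ℂ) 1).re := by
  rw [(IsIrr.one_eq χ.2).1, Complex.natCast_re]
  exact_mod_cast Nat.pos_of_ne_zero (charDegree_ne_zero χ)

/-- the twists are irreducible characters -/
theorem cent_irr (hM : IsPModular p M) {κ : ℕ} (hκ : IsPExp p κ G) {Z : Subgroup G} (hZp : IsPGroup p Z) (hZ : Z ≤ Subgroup.center G)
    {χ : IrrCharacter G} (hdeg : (charDegree (χ : G → ℂ)).factorization p + (Nat.card Z).factorization p = (Nat.card G).factorization p)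
    (lam : Z →* ℂˣ) : IsIrrCharacter G (tw κ Z (fun z => (lam z : ℂ)) (χ : G → ℂ)) := by
  classical
  haveI := Fintype.ofFinite Z
  haveI := IsPModular.isPrime hM
  obtain ⟨n, h1, h2, -⟩ := cent_int hM hZp (isPBlock_blockOf χ) (mem_blockOf_self χ) hdeg
  have hG : (Nat.card G : ℂ) ≠ 0 := by exact_mod_cast Nat.card_pos.ne'
  have hcomm : ∀ z ∈ Z, ∀ x : G, ¬ p ∣ orderOf x → Commute z x := fun z hz x _ => (Subgroup.mem_center_iff.1 (hZ hz) x).symm
  set θ := tw κ Z (fun z => (lam z : ℂ)) (χ : G → ℂ) with hθ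
  have hgen : IsGeneralizedCharacter G θ := by
    rw [isGen_iff]
    refine ⟨tw_isClassFunction hZ _ (IsIrr.isClassFunction χ.2), fun ψ hψ => ?_⟩
    obtain ⟨μ, hμ⟩ := exists_lam hZ ⟨ψ, hψ⟩
    have h3 := inner_tw hκ hZp hZ (fun z => (lam z : ℂ)) (χ : G → ℂ) (fun z => (μ z : ℂ)) hμ
    rw [sum_hom_mul] at h3
    split_ifs at h3
    · rw [h1] at h3
      exact ⟨_, mul_left_cancel₀ hG h3⟩
    · rw [zero_mul] at h3
      exact ⟨0, by rw [Int.cast_zero]; exact (mul_eq_zero.1 h3).resolve_left hG⟩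
  have hnorm : classInner θ θ = 1 := by
    have h3 : (Nat.card G : ℂ) * classInner θ θ = (Nat.card Z : ℂ) * regInner p (χ : G → ℂ) (χ : G → ℂ) := by
      rw [classInner, ← mul_assoc, mul_inv_cancel₀ hG, one_mul]
      have h4 : ∀ g : G, θ g * conj (θ g) = if g ^ κ ∈ Z then θ g * conj (θ g) else 0 := by
        intro g
        split_ifs with h
        · rfl
        · rw [hθ, tw_of_notMem _ _ h, zero_mul]
      rw [Finset.sum_congr rfl fun g _ => h4 g, section_sum hκ hZp hcomm (fun g => θ g * conj (θ g)), regInner, Finset.mul_sum]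
      refine Finset.sum_congr rfl fun x _ => ?_
      split_ifs with hx
      · rw [mul_zero]
      · have h5 : ∀ z : Z, θ (z * x) * conj (θ (z * x)) = (χ : G → ℂ) x * conj ((χ : G → ℂ) x) := by
          intro z
          rw [hθ, tw_mul hκ hZp _ _ z hx (hcomm z z.2 x hx), map_mul]
          have h6 : (lam z : ℂ) * conj (lam z : ℂ) = 1 := by
            rw [Complex.mul_conj, Complex.normSq_eq_norm_sq, norm_unit_of_finite]; norm_num
          linear_combination ((χ : G → ℂ) x * conj ((χ : G → ℂ) x)) * h6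
        rw [Finset.sum_congr rfl fun z _ => h5 z, Finset.sum_const, Finset.card_univ, nsmul_eq_mul, Nat.card_eq_fintype_card]
    rw [cent_one hM hκ hZp hZ hdeg] at h3
    apply mul_left_cancel₀ hG
    rw [h3, mul_one]
  have hθ1 : θ 1 = (χ : G → ℂ) 1 := by
    have h3 := tw_mul hκ hZp (fun z => (lam z : ℂ)) (χ : G → ℂ) (1 : Z) (x := 1) (by simpa using hp.out.one_lt.ne') (Commute.one_right _)
    simp only [Subgroup.coe_one, mul_one, map_one, Units.val_one, one_mul] at h3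
    exact h3
  rcases IsGen.norm_one hgen hnorm with h | h
  · exact h
  · exfalso
    have h3 := inner_one_pos ⟨-θ, h⟩
    have h4 := inner_one_pos χ
    have h5 : ((-θ) 1).re = - ((χ : G → ℂ) 1).re := by
      rw [Pi.neg_apply, hθ1, Complex.neg_re]
    rw [show (((⟨-θ, h⟩ : IrrCharacter G) : G → ℂ) 1) = (-θ) 1 from rfl, h5] at h3
    linarith

/-- the structure of the block of a character of relative defect zero over a central `p`-subgroup -/
theorem cent_main (hM : IsPModular p M) {κ : ℕ} (hκ : IsPExp p κ G) {Z : Subgroup G} (hZp : IsPGroup p Z) (hZ : Z ≤ Subgroup.center G)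
    {B : Set (IrrCharacter G)} (hB : IsPBlock M B) {χ : IrrCharacter G} (hχ : χ ∈ B)
    (hdeg : (charDegree (χ : G → ℂ)).factorization p + (Nat.card Z).factorization p = (Nat.card G).factorization p) :
    IsDefectGroup p M B Z ∧ (∀ ψ : IrrCharacter G, ψ ∈ B ↔ ∃ lam : Z →* ℂˣ, (ψ : G → ℂ) = tw κ Z (fun z => (lam z : ℂ)) (χ : G → ℂ)) := by
  classical
  haveI := Fintype.ofFinite Z
  haveI := IsPModular.isPrime hM
  have hG : (Nat.card G : ℂ) ≠ 0 := by exact_mod_cast Nat.card_pos.ne'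
  have hZc : (Nat.card Z : ℂ) ≠ 0 := by exact_mod_cast Nat.card_pos.ne'
  have hcomm : ∀ z ∈ Z, ∀ x : G, ¬ p ∣ orderOf x → Commute z x := fun z hz x _ => (Subgroup.mem_center_iff.1 (hZ hz) x).symm
  obtain ⟨n, h1, h2, h3⟩ := cent_int hM hZp hB hχ hdeg
  -- characters not orthogonal to `χ` on regular elements
  have key : ∀ ψ : IrrCharacter G, regInner p (χ : G → ℂ) (ψ : G → ℂ) ≠ 0 →
      ∃ lam : Z →* ℂˣ, (ψ : G → ℂ) = tw κ Z (fun z => (lam z : ℂ)) (χ : G → ℂ) := by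
    intro ψ hψ
    obtain ⟨μ, hμ⟩ := exists_lam hZ ψ
    have h4 := inner_tw hκ hZp hZ (fun z => (μ z : ℂ)) (χ : G → ℂ) (fun z => (μ z : ℂ)) hμ
    rw [sum_hom_mul, if_pos rfl] at h4
    have h5 : classInner (tw κ Z (fun z => (μ z : ℂ)) (χ : G → ℂ)) (ψ : G → ℂ) ≠ 0 := by
      intro h6
      rw [h6, mul_zero] at h4
      exact mul_ne_zero hZc hψ h4.symm
    have h6 := classInner_irr' ⟨_, cent_irr hM hκ hZp hZ hdeg μ⟩ ψ
    refine ⟨μ, ?_⟩
    by_contra hne
    rw [if_neg (fun h => hne (congrArg Subtype.val h).symm)] at h6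
    exact h5 h6
  have hone : ∀ (lam : Z →* ℂˣ) (ψ : IrrCharacter G), (ψ : G → ℂ) = tw κ Z (fun z => (lam z : ℂ)) (χ : G → ℂ) →
      ∀ x : G, ¬ p ∣ orderOf x → (ψ : G → ℂ) x = (χ : G → ℂ) x := by
    intro lam ψ h x hx
    have h4 := tw_mul hκ hZp (fun z => (lam z : ℂ)) (χ : G → ℂ) (1 : Z) hx (Commute.one_left _)
    simp only [Subgroup.coe_one, one_mul, map_one, Units.val_one] at h4
    rw [h, h4]
  have hreg : regInner p (χ : G → ℂ) (χ : G → ℂ) ≠ 0 := by
    intro h4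
    have := cent_one hM hκ hZp hZ hdeg
    rw [h4, mul_zero] at this
    exact hG this.symm
  -- `χ` has height zero
  have h0 : blockHeight p B (χ : G → ℂ) = 0 := by
    obtain ⟨ψ, hψ, hψ0⟩ := exists_height_zero p (B := B) (IsPBlock.nonempty hB)
    have h4 : regInner p (χ : G → ℂ) (ψ : G → ℂ) ≠ 0 := by
      intro h5
      apply h3 ψ hψ hψ0
      have h6 := h1 ψ
      rw [h5, mul_zero] at h6
      have := (mul_eq_zero.1 h6.symm).resolve_left hG
      exact_mod_cast this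
    obtain ⟨lam, hlam⟩ := key ψ h4
    have h5 := hone lam ψ hlam 1 (by simpa using hp.out.one_lt.ne')
    rw [blockHeight, charDegree] at hψ0 ⊢
    rw [h5] at hψ0
    exact hψ0
  refine ⟨?_, fun ψ => ⟨fun hψ => key ψ ?_, ?_⟩⟩
  · -- the defect group
    have h4 : br Z (idB M B) ≠ 0 := by
      have h5 : br Z (idB M B) = idB M B := by
        apply br_of_sup
        intro g hg
        exfalso
        apply hg
        rw [Subgroup.mem_centralizer_iff]
        intro z hz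
        exact (Subgroup.mem_center_iff.1 (hZ hz) g).symm
      rw [h5]; exact idB_ne_zero hB
    obtain ⟨D, hD, hZD⟩ := (br_idB_ne_zero_iff hM hB hZp).1 h4
    have h5 := defectGroup_card hM hB hD
    have h6 := degree_eq (p := p) hχ
    rw [h0] at h6
    have h7 : blockDefect p B = (Nat.card Z).factorization p := by omega
    obtain ⟨k, hk⟩ := IsPGroup.iff_card.1 hZp
    have hk' : (Nat.card Z).factorization p = k := by
      rw [hk, Nat.factorization_pow, Finsupp.smul_apply, Nat.Prime.factorization_self hp.out, smul_eq_mul, mul_one]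
    have h8 : Z = D := Subgroup.eq_of_le_of_card_ge hZD (by rw [h5, h7, hk', hk])
    rw [h8]; exact hD
  · -- nonvanishing of the regular inner product
    obtain ⟨A, a1, -, -, -, -, -, -, a8, -⟩ := contr hM hB hψ
    have a9 := a8 χ hχ h0
    intro h4
    rw [regInner_symm (IsIrr.isCharacter χ.2) (IsIrr.isCharacter ψ.2)] at h4
    have h5 := a1 χ
    rw [h4, mul_zero] at h5
    have h6 : A χ = 0 := by
      have := (mul_eq_zero.1 h5.symm).resolve_left hG
      exact_mod_cast this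
    rw [h6] at a9
    exact a9 (dvd_zero _)
  · rintro ⟨lam, hlam⟩
    by_contra hψ
    have h4 := regInner_eq_zero' hM (inS_eSet hB) hχ hψ
    apply hreg
    rw [← h4, regInner, regInner]
    refine Finset.sum_congr rfl fun x _ => ?_
    split_ifs with hx
    · rfl
    · rw [hone lam ψ hlam x hx]

end main

end CfsgH5
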