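import Mathlib

/-!
# Class numbers of extensions of abelian groups
-/

set_option autoImplicit false

namespace CfsgH5

section Ab

variable {V : Type*} [CommGroup V] [Finite V]

/-- two commuting automorphisms generating a group of order prime to `|V|` -/
theorem ab_count {A : Type*} [Group A] [Finite A] (c : A →* MulAut V) (g h : A) (hgen : Subgroup.closure {g, h} = (⊤ : Subgroup A))
    (hcop : (Nat.card A).Coprime (Nat.card V)) :
    Nat.card {vw : V × V // vw.1 * c g vw.2 = vw.2 * c h vw.1} =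
      Nat.card V * Nat.card {x : V // c g x = x ∧ c h x = x} := by
  classical
  haveI := Fintype.ofFinite A
  set f : V × V →* V :=
    { toFun := fun x => x.1 * (c h x.1)⁻¹ * (c g x.2 * x.2⁻¹)
      map_one' := by simp
      map_mul' := by
        intro x y
        simp only [Prod.fst_mul, Prod.snd_mul, map_mul, mul_inv]
        simp only [mul_comm, mul_left_comm, mul_assoc] } with hf
  have hfa : ∀ v w, f (v, w) = v * (c h v)⁻¹ * (c g w * w⁻¹) := fun v w => rfl
  have h1 : Nat.card {vw : V × V // vw.1 * c g vw.2 = vw.2 * c h vw.1} = Nat.card f.ker := by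
    apply Nat.card_congr
    apply Equiv.subtypeEquivRight
    rintro ⟨v, w⟩
    rw [MonoidHom.mem_ker, hfa]
    constructor
    · intro h2
      have h3 : v * (c h v)⁻¹ * (c g w * w⁻¹) = (v * c g w) * (w * c h v)⁻¹ := by
        rw [mul_inv]; simp only [mul_comm, mul_left_comm, mul_assoc]
      rw [h3, h2, mul_inv_cancel]
    · intro h2
      have h3 : v * (c h v)⁻¹ * (c g w * w⁻¹) = (v * c g w) * (w * c h v)⁻¹ := by
        rw [mul_inv]; simp only [mul_comm, mul_left_comm, mul_assoc]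
      rw [h3, mul_inv_eq_one] at h2
      exact h2
  set C : Subgroup V :=
    { carrier := {x | c g x = x ∧ c h x = x}
      one_mem' := ⟨map_one _, map_one _⟩
      mul_mem' := fun {a b} ha hb => ⟨by rw [map_mul, ha.1, hb.1], by rw [map_mul, ha.2, hb.2]⟩
      inv_mem' := fun {a} ha => ⟨by rw [map_inv, ha.1], by rw [map_inv, ha.2]⟩ } with hC
  have hCmem : ∀ x, x ∈ C ↔ c g x = x ∧ c h x = x := fun x => Iff.rfl
  have hCA : ∀ x ∈ C, ∀ a : A, c a x = x := by
    intro x hx a
    have ha : a ∈ Subgroup.closure {g, h} := by rw [hgen]; trivial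
    induction ha using Subgroup.closure_induction with
    | mem y hy =>
      rcases hy with rfl | hy
      · exact hx.1
      · rw [Set.mem_singleton_iff] at hy; rw [hy]; exact hx.2
    | one => simp
    | mul y z _ _ hy hz => rw [map_mul, MulAut.mul_apply, hz, hy]
    | inv y _ hy => rw [map_inv]; exact (MulEquiv.symm_apply_eq _).2 hy.symm
  have hR : ∀ a : A, ∀ v : V, v * (c a v)⁻¹ ∈ f.range := by
    intro a
    have ha : a ∈ Subgroup.closure {g, h} := by rw [hgen]; trivial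
    induction ha using Subgroup.closure_induction with
    | mem y hy =>
      intro v
      rcases hy with rfl | hy
      · refine ⟨(1, v⁻¹), ?_⟩
        rw [hfa]; simp [mul_comm]
      · rw [Set.mem_singleton_iff] at hy; rw [hy]
        refine ⟨(v, 1), ?_⟩
        rw [hfa]; simp
    | one => intro v; simp
    | mul y z _ _ hy hz =>
      intro v
      have h2 : v * (c (y * z) v)⁻¹ = (v * (c z v)⁻¹) * ((c z v) * (c y (c z v))⁻¹) := by
        rw [map_mul, MulAut.mul_apply]; group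
      rw [h2]
      exact f.range.mul_mem (hz v) (hy _)
    | inv y _ hy =>
      intro v
      have h2 : c y (c y⁻¹ v) = v := by
        rw [← MulAut.mul_apply, ← map_mul, mul_inv_cancel, map_one, MulAut.one_apply]
      have h3 := f.range.inv_mem (hy (c y⁻¹ v))
      rw [h2] at h3
      have h4 : v * (c y⁻¹ v)⁻¹ = (c y⁻¹ v * v⁻¹)⁻¹ := by group
      rw [h4]; exact h3
  -- the norm
  set N : V →* V := ∏ a : A, (c a : V →* V) with hN
  have hNa : ∀ v, N v = ∏ a : A, c a v := by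
    intro v
    rw [hN, MonoidHom.finset_prod_apply]
    rfl
  have hNc : ∀ b v, N (c b v) = N v := by
    intro b v
    rw [hNa, hNa]
    refine Fintype.prod_equiv (Equiv.mulRight b) _ _ fun a => ?_
    show c a (c b v) = c (a * b) v
    rw [map_mul, MulAut.mul_apply]
  have hNR : ∀ x ∈ f.range, N x = 1 := by
    rintro _ ⟨⟨v, w⟩, rfl⟩
    rw [hfa, map_mul, map_mul, map_mul, map_inv, map_inv, hNc, hNc]
    simp
  have hNC : ∀ x ∈ C, N x = x ^ Nat.card A := by
    intro x hx
    rw [hNa, Finset.prod_congr rfl fun a _ => hCA x hx a, Finset.prod_const, Finset.card_univ, Nat.card_eq_fintype_card]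
  have hdis : Disjoint f.range C := by
    rw [Subgroup.disjoint_def]
    intro x hx hxC
    have h2 : x ^ Nat.card A = 1 := by rw [← hNC x hxC, hNR x hx]
    have h3 : orderOf x ∣ Nat.card A := orderOf_dvd_of_pow_eq_one h2
    have h4 : orderOf x ∣ 1 := by rw [← hcop.gcd_eq_one]; exact Nat.dvd_gcd h3 (orderOf_dvd_natCard x)
    exact orderOf_eq_one_iff.1 (Nat.dvd_one.1 h4)
  have hsup : ∀ v : V, v ∈ f.range ⊔ C := by
    intro v
    have h2 : v ^ Nat.card A ∈ f.range ⊔ C := by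
      have h3 : v ^ Nat.card A = (∏ a : A, (v * (c a v)⁻¹)) * N v := by
        rw [hNa, ← Finset.prod_mul_distrib, Finset.prod_congr rfl fun a _ => by rw [inv_mul_cancel_right], Finset.prod_const, Finset.card_univ,
          Nat.card_eq_fintype_card]
      rw [h3]
      refine Subgroup.mul_mem _ ((le_sup_left : f.range ≤ f.range ⊔ C) (Subgroup.prod_mem _ fun a _ => hR a v)) ?_
      apply (le_sup_right : C ≤ f.range ⊔ C)
      rw [hCmem]
      have h4 : ∀ b, c b (N v) = N v := by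
        intro b
        rw [hNa, map_prod]
        refine Fintype.prod_equiv (Equiv.mulLeft b) _ _ fun a => ?_
        show c b (c a v) = c (b * a) v
        rw [map_mul, MulAut.mul_apply]
      exact ⟨h4 g, h4 h⟩
    obtain ⟨m, hm⟩ := exists_pow_eq_self_of_coprime (Nat.Coprime.coprime_dvd_right (orderOf_dvd_natCard v) hcop)
    rw [← hm]
    exact Subgroup.pow_mem _ h2 m
  have hcompl : Subgroup.IsComplement' f.range C := by
    apply Subgroup.isComplement'_of_disjoint_and_mul_eq_univ hdis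
    ext v
    simp only [Set.mem_univ, iff_true]
    have h2 := hsup v
    rw [Subgroup.mem_sup] at h2
    obtain ⟨a, ha, b, hb, hab⟩ := h2
    exact ⟨a, ha, b, hb, hab⟩
  have h2 := hcompl.card_mul
  have h3 : Nat.card (V × V) = Nat.card f.ker * Nat.card f.range := by
    rw [mul_comm, ← Nat.card_congr (QuotientGroup.quotientKerEquivRange f).toEquiv]
    exact Subgroup.card_eq_card_quotient_mul_card_subgroup _
  rw [Nat.card_prod] at h3
  have h4 : Nat.card {x : V // c g x = x ∧ c h x = x} = Nat.card C := rfl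
  rw [h1, h4]
  have h5 : 0 < Nat.card f.range := Nat.card_pos
  apply Nat.eq_of_mul_eq_mul_right h5
  rw [← h3, mul_assoc, mul_comm (Nat.card C), h2]

end Ab

section S4965

variable {X : Type*} [Group X] [Finite X]

theorem card_le_split (V : Subgroup X) [V.Normal] (φ : X ⧸ V →* MulAut ↥V)
    (hφ : ∀ (x : X) (v : ↥V), ((φ (QuotientGroup.mk x) v : ↥V) : X) = x * v * x⁻¹) (hab : ∀ a ∈ V, ∀ b ∈ V, a * b = b * a) :
    Nat.card (ConjClasses X) ≤ Nat.card (ConjClasses (SemidirectProduct ↥V (X ⧸ V) φ)) := by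
  classical
  haveI : Finite (SemidirectProduct ↥V (X ⧸ V) φ) := Finite.of_equiv _ SemidirectProduct.equivProd.symm
  have hc1 := card_comm_eq_card_conjClasses_mul_card X
  have hc2 := card_comm_eq_card_conjClasses_mul_card (SemidirectProduct ↥V (X ⧸ V) φ)
  have hcard : Nat.card (SemidirectProduct ↥V (X ⧸ V) φ) = Nat.card X := by
    rw [Nat.card_congr SemidirectProduct.equivProd, Nat.card_prod, mul_comm]
    exact (Subgroup.card_eq_card_quotient_mul_card_subgroup V).symm
  have hφ' : ∀ (t : X ⧸ V) (a : X) (_ : (a : X ⧸ V) = t) (v : V), ((φ t v : V) : X) = a * v * a⁻¹ := by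
    rintro _ a rfl v
    exact hφ a v
  -- lifts
  let P : (X ⧸ V) × (X ⧸ V) → {p : X × X // Commute p.1 p.2} → Prop := fun t r => (r.1.1 : X ⧸ V) = t.1 ∧ (r.1.2 : X ⧸ V) = t.2
  let lift : (X ⧸ V) × (X ⧸ V) → {p : X × X // Commute p.1 p.2} := fun t =>
    if h : ∃ r, P t r then h.choose else ⟨(1, 1), Commute.refl _⟩
  have hlift : ∀ q : {p : X × X // Commute p.1 p.2}, P ((q.1.1 : X ⧸ V), (q.1.2 : X ⧸ V)) (lift ((q.1.1 : X ⧸ V), (q.1.2 : X ⧸ V))) := by
    intro q
    have h : ∃ r, P ((q.1.1 : X ⧸ V), (q.1.2 : X ⧸ V)) r := ⟨q, rfl, rfl⟩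
    show P _ (dite _ _ _)
    rw [dif_pos h]
    exact h.choose_spec
  have hmem1 : ∀ q : {p : X × X // Commute p.1 p.2}, q.1.1 * (lift ((q.1.1 : X ⧸ V), (q.1.2 : X ⧸ V))).1.1⁻¹ ∈ V := by
    intro q
    have h1 := (hlift q).1
    rw [← QuotientGroup.eq_one_iff, QuotientGroup.mk_mul, QuotientGroup.mk_inv, h1, mul_inv_cancel]
  have hmem2 : ∀ q : {p : X × X // Commute p.1 p.2}, q.1.2 * (lift ((q.1.1 : X ⧸ V), (q.1.2 : X ⧸ V))).1.2⁻¹ ∈ V := by
    intro q
    have h1 := (hlift q).2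
    rw [← QuotientGroup.eq_one_iff, QuotientGroup.mk_mul, QuotientGroup.mk_inv, h1, mul_inv_cancel]
  let F : {p : X × X // Commute p.1 p.2} → {p : SemidirectProduct ↥V (X ⧸ V) φ × SemidirectProduct ↥V (X ⧸ V) φ // Commute p.1 p.2} := fun q =>
    ⟨(⟨⟨_, hmem1 q⟩, (q.1.1 : X ⧸ V)⟩, ⟨⟨_, hmem2 q⟩, (q.1.2 : X ⧸ V)⟩), by
      have hq : q.1.1 * q.1.2 = q.1.2 * q.1.1 := q.2
      have hr : (lift ((q.1.1 : X ⧸ V), (q.1.2 : X ⧸ V))).1.1 * (lift ((q.1.1 : X ⧸ V), (q.1.2 : X ⧸ V))).1.2 =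
        (lift ((q.1.1 : X ⧸ V), (q.1.2 : X ⧸ V))).1.2 * (lift ((q.1.1 : X ⧸ V), (q.1.2 : X ⧸ V))).1.1 :=
        (lift ((q.1.1 : X ⧸ V), (q.1.2 : X ⧸ V))).2
      have h1 := hlift q
      set x := q.1.1
      set y := q.1.2
      set a := (lift ((x : X ⧸ V), (y : X ⧸ V))).1.1
      set b := (lift ((x : X ⧸ V), (y : X ⧸ V))).1.2
      have ha : (a : X ⧸ V) = (x : X ⧸ V) := h1.1
      have hb : (b : X ⧸ V) = (y : X ⧸ V) := h1.2
      apply SemidirectProduct.ext
      · show (⟨_, hmem1 q⟩ : V) * φ (x : X ⧸ V) ⟨_, hmem2 q⟩ = (⟨_, hmem2 q⟩ : V) * φ (y : X ⧸ V) ⟨_, hmem1 q⟩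
        apply Subtype.ext
        show x * a⁻¹ * ((φ (x : X ⧸ V) ⟨_, hmem2 q⟩ : V) : X) = y * b⁻¹ * ((φ (y : X ⧸ V) ⟨_, hmem1 q⟩ : V) : X)
        rw [hφ' _ a ha, hφ' _ b hb]
        show x * a⁻¹ * (a * (y * b⁻¹) * a⁻¹) = y * b⁻¹ * (b * (x * a⁻¹) * b⁻¹)
        have h2 : a⁻¹ * b⁻¹ = b⁻¹ * a⁻¹ := by rw [← mul_inv_rev, ← mul_inv_rev, hr]
        calc x * a⁻¹ * (a * (y * b⁻¹) * a⁻¹) = x * y * (b⁻¹ * a⁻¹) := by group
          _ = y * x * (a⁻¹ * b⁻¹) := by rw [hq, h2]
          _ = y * b⁻¹ * (b * (x * a⁻¹) * b⁻¹) := by group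
      · show (x : X ⧸ V) * (y : X ⧸ V) = (y : X ⧸ V) * (x : X ⧸ V)
        rw [← QuotientGroup.mk_mul, ← QuotientGroup.mk_mul, hq]⟩
  have hinj : Function.Injective F := by
    intro q q' h
    have h0 : (F q).1 = (F q').1 := congrArg Subtype.val h
    have h1 : (F q).1.1 = (F q').1.1 := congrArg Prod.fst h0
    have h2 : (F q).1.2 = (F q').1.2 := congrArg Prod.snd h0
    have e1 : (q.1.1 : X ⧸ V) = (q'.1.1 : X ⧸ V) := congrArg SemidirectProduct.right h1
    have e2 : (q.1.2 : X ⧸ V) = (q'.1.2 : X ⧸ V) := congrArg SemidirectProduct.right h2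
    have e3 : q.1.1 * (lift ((q.1.1 : X ⧸ V), (q.1.2 : X ⧸ V))).1.1⁻¹ = q'.1.1 * (lift ((q'.1.1 : X ⧸ V), (q'.1.2 : X ⧸ V))).1.1⁻¹ :=
      congrArg (fun z : SemidirectProduct ↥V (X ⧸ V) φ => (z.left : X)) h1
    have e4 : q.1.2 * (lift ((q.1.1 : X ⧸ V), (q.1.2 : X ⧸ V))).1.2⁻¹ = q'.1.2 * (lift ((q'.1.1 : X ⧸ V), (q'.1.2 : X ⧸ V))).1.2⁻¹ :=
      congrArg (fun z : SemidirectProduct ↥V (X ⧸ V) φ => (z.left : X)) h2
    rw [e1, e2] at e3 e4
    apply Subtype.ext
    apply Prod.ext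
    · exact mul_right_cancel e3
    · exact mul_right_cancel e4
  have h1 := Nat.card_le_card_of_injective F hinj
  rw [hc1, hc2, hcard] at h1
  exact Nat.le_of_mul_le_mul_right h1 Nat.card_pos

end S4965

section S4956

variable {X : Type*} [Group X] [Finite X]

theorem fix_count (V G : Subgroup X) [V.Normal] (hab : ∀ a ∈ V, ∀ b ∈ V, a * b = b * a)
    (hcop : (Nat.card V).Coprime (Nat.card G)) {g h : X} (hg : g ∈ G) (hh : h ∈ G) (hgh : g * h = h * g) :
    Nat.card {vw : V × V // Commute ((vw.1 : X) * g) ((vw.2 : X) * h)} =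
      Nat.card V * Nat.card {c : V // Commute g (c : X) ∧ Commute h (c : X)} := by
  classical
  letI : CommGroup V := { (inferInstance : Group V) with mul_comm := fun a b => Subtype.ext (hab a a.2 b b.2) }
  set A : Subgroup X := Subgroup.closure {g, h} with hA
  have hAG : A ≤ G := by
    rw [hA, Subgroup.closure_le]
    rintro x (rfl | hx)
    · exact hg
    · rw [Set.mem_singleton_iff] at hx; rw [hx]; exact hh
  have hgA : g ∈ A := Subgroup.subset_closure (by simp)
  have hhA : h ∈ A := Subgroup.subset_closure (by simp)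
  have hgen : Subgroup.closure {(⟨g, hgA⟩ : A), ⟨h, hhA⟩} = ⊤ := by
    apply Subgroup.map_injective A.subtype_injective
    rw [MonoidHom.map_closure, ← MonoidHom.range_eq_map, Subgroup.range_subtype, Set.image_pair]
    exact hA.symm
  have hcopA : (Nat.card A).Coprime (Nat.card V) :=
    (Nat.Coprime.coprime_dvd_right (Subgroup.card_dvd_of_le hAG) hcop).symm
  have h1 := ab_count (V := V) (A := A) ((MulAut.conjNormal (H := V)).comp A.subtype) ⟨g, hgA⟩ ⟨h, hhA⟩ hgen hcopA
  have e1 : ∀ (x : X) (v : V), ((MulAut.conjNormal x v : V) : X) = x * v * x⁻¹ := fun x v => MulAut.conjNormal_apply x v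
  have h2 : Nat.card {vw : V × V // Commute ((vw.1 : X) * g) ((vw.2 : X) * h)} =
      Nat.card {vw : V × V // vw.1 * ((MulAut.conjNormal (H := V)).comp A.subtype) ⟨g, hgA⟩ vw.2 =
        vw.2 * ((MulAut.conjNormal (H := V)).comp A.subtype) ⟨h, hhA⟩ vw.1} := by
    apply Nat.card_congr
    apply Equiv.subtypeEquivRight
    rintro ⟨v, w⟩
    have e2 : ((v * ((MulAut.conjNormal (H := V)).comp A.subtype) ⟨g, hgA⟩ w : V) : X) = (v : X) * (g * w * g⁻¹) := by
      rw [Subgroup.coe_mul]; exact congrArg _ (e1 g w)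
    have e3 : ((w * ((MulAut.conjNormal (H := V)).comp A.subtype) ⟨h, hhA⟩ v : V) : X) = (w : X) * (h * v * h⁻¹) := by
      rw [Subgroup.coe_mul]; exact congrArg _ (e1 h v)
    constructor
    · intro h3
      apply Subtype.ext
      rw [e2, e3]
      have h4 : (v : X) * g * (w * h) = w * h * (v * g) := h3
      calc (v : X) * (g * w * g⁻¹) = (v * g * (w * h)) * (g * h)⁻¹ := by group
        _ = (w * h * (v * g)) * (h * g)⁻¹ := by rw [h4, hgh]
        _ = w * (h * v * h⁻¹) := by group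
    · intro h3
      have h4 := congrArg Subtype.val h3
      rw [e2, e3] at h4
      show (v : X) * g * (w * h) = w * h * (v * g)
      calc (v : X) * g * (w * h) = (v * (g * w * g⁻¹)) * (g * h) := by group
        _ = (w * (h * v * h⁻¹)) * (h * g) := by rw [h4, hgh]
        _ = w * h * (v * g) := by group
  have h3 : Nat.card {c : V // Commute g (c : X) ∧ Commute h (c : X)} =
      Nat.card {x : V // ((MulAut.conjNormal (H := V)).comp A.subtype) ⟨g, hgA⟩ x = x ∧ ((MulAut.conjNormal (H := V)).comp A.subtype) ⟨h, hhA⟩ x = x} := by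
    apply Nat.card_congr
    apply Equiv.subtypeEquivRight
    intro x
    have e4 : ∀ (a : X) (ha : a ∈ A), ((MulAut.conjNormal (H := V)).comp A.subtype) ⟨a, ha⟩ x = x ↔ Commute a (x : X) := by
      intro a ha
      rw [← Subtype.coe_inj]
      have e5 : ((((MulAut.conjNormal (H := V)).comp A.subtype) ⟨a, ha⟩ x : V) : X) = a * x * a⁻¹ := e1 a x
      rw [e5, mul_inv_eq_iff_eq_mul]
      exact Iff.rfl
    rw [e4, e4]
  rw [h2, h3]
  exact h1

theorem card_classes_split (V : Subgroup X) [V.Normal] (hab : ∀ a ∈ V, ∀ b ∈ V, a * b = b * a) (G : Subgroup X)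
    (hGV : Subgroup.IsComplement' V G) (hcop : (Nat.card V).Coprime (Nat.card G)) (S : Finset X) (hSV : ∀ s ∈ S, s ∈ V)
    (hrep : ∀ v ∈ V, ∃! s, s ∈ S ∧ ∃ g ∈ G, g * v * g⁻¹ = s) :
    Nat.card (ConjClasses X) = ∑ s ∈ S, Nat.card (ConjClasses ↥(G ⊓ Subgroup.centralizer ({s} : Set X))) := by
  classical
  haveI := Fintype.ofFinite X
  haveI := Fintype.ofFinite V
  haveI := Fintype.ofFinite G
  have hXcard : Nat.card X = Nat.card V * Nat.card G := hGV.card_mul.symm
  set e : V × G ≃ X := Equiv.ofBijective _ hGV with he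
  have hea : ∀ v g, e (v, g) = (v : X) * g := fun v g => rfl
  -- commuting pairs
  have h1 : Nat.card {p : X × X // Commute p.1 p.2} = ∑ gh : G × G, Nat.card {vw : V × V // Commute ((vw.1 : X) * gh.1) ((vw.2 : X) * gh.2)} := by
    rw [← Nat.card_sigma, ← Nat.card_congr (Equiv.subtypeProdEquivSigmaSubtype
      (fun (gh : G × G) (vw : V × V) => Commute ((vw.1 : X) * gh.1) ((vw.2 : X) * gh.2)))]
    apply Nat.card_congr
    refine ⟨fun p => ⟨(((e.symm p.1.1).2, (e.symm p.1.2).2), ((e.symm p.1.1).1, (e.symm p.1.2).1)), ?_⟩,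
      fun q => ⟨(e (q.1.2.1, q.1.1.1), e (q.1.2.2, q.1.1.2)), ?_⟩, ?_, ?_⟩
    · have h2 : ((e.symm p.1.1).1 : X) * (e.symm p.1.1).2 = p.1.1 := by rw [← hea]; exact e.apply_symm_apply _
      have h3 : ((e.symm p.1.2).1 : X) * (e.symm p.1.2).2 = p.1.2 := by rw [← hea]; exact e.apply_symm_apply _
      show Commute (((e.symm p.1.1).1 : X) * (e.symm p.1.1).2) (((e.symm p.1.2).1 : X) * (e.symm p.1.2).2)
      rw [h2, h3]
      exact p.2
    · exact q.2
    · intro p
      apply Subtype.ext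
      simp
    · intro q
      apply Subtype.ext
      simp
  have h2 : ∀ gh : G × G, Nat.card {vw : V × V // Commute ((vw.1 : X) * gh.1) ((vw.2 : X) * gh.2)} =
      Nat.card V * Nat.card {c : V // Commute (gh.1 : X) gh.2 ∧ Commute (gh.1 : X) (c : X) ∧ Commute (gh.2 : X) (c : X)} := by
    rintro ⟨g, h⟩
    by_cases hgh : Commute (g : X) h
    · rw [fix_count V G hab hcop g.2 h.2 hgh]
      congr 1
      apply Nat.card_congr
      apply Equiv.subtypeEquivRight
      intro c
      exact ⟨fun h3 => ⟨hgh, h3⟩, fun h3 => h3.2⟩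
    · haveI : IsEmpty {c : V // Commute ((g : G) : X) h ∧ Commute ((g : G) : X) (c : X) ∧ Commute ((h : G) : X) (c : X)} :=
        ⟨fun c => hgh c.2.1⟩
      suffices hE : IsEmpty {vw : V × V // Commute ((vw.1 : X) * g) ((vw.2 : X) * h)} by
        have z1 : Nat.card {vw : V × V // Commute ((vw.1 : X) * g) ((vw.2 : X) * h)} = 0 := Nat.card_of_isEmpty
        have z2 : Nat.card {c : V // Commute ((g : G) : X) h ∧ Commute ((g : G) : X) (c : X) ∧ Commute ((h : G) : X) (c : X)} = 0 :=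
          Nat.card_of_isEmpty
        show Nat.card {vw : V × V // Commute ((vw.1 : X) * g) ((vw.2 : X) * h)} =
          Nat.card V * Nat.card {c : V // Commute ((g : G) : X) h ∧ Commute ((g : G) : X) (c : X) ∧ Commute ((h : G) : X) (c : X)}
        rw [z1, z2, mul_zero]
      refine ⟨fun vw => hgh ?_⟩
      -- the images commute
      have h3 : ((vw.1.1 : X) * g) * (vw.1.2 * h) = (vw.1.2 * h) * (vw.1.1 * g) := vw.2
      have h4 : (g : X) * h * (h * g : X)⁻¹ ∈ V := by
        rw [← QuotientGroup.eq_one_iff]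
        have h5 : ((((vw.1.1 : X) * g) * (vw.1.2 * h) : X) : X ⧸ V) = (((vw.1.2 * h) * (vw.1.1 * g) : X) : X ⧸ V) := by rw [h3]
        have e1 : ((vw.1.1 : X) : X ⧸ V) = 1 := (QuotientGroup.eq_one_iff _).2 vw.1.1.2
        have e2 : ((vw.1.2 : X) : X ⧸ V) = 1 := (QuotientGroup.eq_one_iff _).2 vw.1.2.2
        simp only [QuotientGroup.mk_mul, e1, e2, one_mul] at h5
        simp only [QuotientGroup.mk_mul, QuotientGroup.mk_inv, h5]
        group
      have h5 : (g : X) * h * (h * g : X)⁻¹ ∈ G := G.mul_mem (G.mul_mem g.2 h.2) (G.inv_mem (G.mul_mem h.2 g.2))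
      have h6 : (g : X) * h * (h * g : X)⁻¹ = 1 := by
        have h7 := hGV.disjoint
        rw [Subgroup.disjoint_def] at h7
        exact h7 h4 h5
      exact mul_inv_eq_one.1 h6
  -- exchange
  have h3 : ∑ gh : G × G, Nat.card {c : V // Commute (gh.1 : X) gh.2 ∧ Commute (gh.1 : X) (c : X) ∧ Commute (gh.2 : X) (c : X)} =
      ∑ c : V, Nat.card {p : ↥(G ⊓ Subgroup.centralizer ({(c : X)} : Set X)) × ↥(G ⊓ Subgroup.centralizer ({(c : X)} : Set X)) // Commute p.1 p.2} := by
    rw [← Nat.card_sigma, ← Nat.card_sigma]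
    apply Nat.card_congr
    refine ⟨fun q => ⟨q.2.1, ⟨(⟨q.1.1, ?_⟩, ⟨q.1.2, ?_⟩), ?_⟩⟩, fun r => ⟨(⟨r.2.1.1, ?_⟩, ⟨r.2.1.2, ?_⟩), ⟨r.1, ?_⟩⟩, ?_, ?_⟩
    · exact ⟨q.1.1.2, Subgroup.mem_centralizer_singleton_iff.2 q.2.2.2.1⟩
    · exact ⟨q.1.2.2, Subgroup.mem_centralizer_singleton_iff.2 q.2.2.2.2⟩
    · exact Subtype.ext q.2.2.1
    · exact r.2.1.1.2.1
    · exact r.2.1.2.2.1
    · exact ⟨congrArg Subtype.val r.2.2, Subgroup.mem_centralizer_singleton_iff.1 r.2.1.1.2.2, Subgroup.mem_centralizer_singleton_iff.1 r.2.1.2.2.2⟩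
    · intro q; rfl
    · intro r; rfl
  set F : X → ℕ := fun c => Nat.card (ConjClasses ↥(G ⊓ Subgroup.centralizer ({c} : Set X))) with hF
  have h4 : ∀ c : V, Nat.card {p : ↥(G ⊓ Subgroup.centralizer ({(c : X)} : Set X)) × ↥(G ⊓ Subgroup.centralizer ({(c : X)} : Set X)) // Commute p.1 p.2} =
      F c * Nat.card ↥(G ⊓ Subgroup.centralizer ({(c : X)} : Set X)) := fun c => card_comm_eq_card_conjClasses_mul_card _
  -- conjugation invariance
  have hconj : ∀ (c : X) (g : X), g ∈ G → Nonempty (↥(G ⊓ Subgroup.centralizer ({c} : Set X)) ≃* ↥(G ⊓ Subgroup.centralizer ({g * c * g⁻¹} : Set X))) := by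
    intro c g hg
    have h5 : (G ⊓ Subgroup.centralizer ({c} : Set X)).map (MulAut.conj g).toMonoidHom = G ⊓ Subgroup.centralizer ({g * c * g⁻¹} : Set X) := by
      ext x
      rw [Subgroup.mem_map]
      constructor
      · rintro ⟨y, hy, rfl⟩
        rw [Subgroup.mem_inf, Subgroup.mem_centralizer_singleton_iff] at hy
        obtain ⟨hyG, hyc⟩ := hy
        rw [Subgroup.mem_inf, Subgroup.mem_centralizer_singleton_iff]
        refine ⟨G.mul_mem (G.mul_mem hg hyG) (G.inv_mem hg), ?_⟩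
        show g * y * g⁻¹ * (g * c * g⁻¹) = g * c * g⁻¹ * (g * y * g⁻¹)
        calc g * y * g⁻¹ * (g * c * g⁻¹) = g * (y * c) * g⁻¹ := by group
          _ = g * (c * y) * g⁻¹ := by rw [hyc]
          _ = _ := by group
      · intro hx
        rw [Subgroup.mem_inf, Subgroup.mem_centralizer_singleton_iff] at hx
        obtain ⟨hxG, hxc⟩ := hx
        refine ⟨g⁻¹ * x * g, Subgroup.mem_inf.2 ⟨G.mul_mem (G.mul_mem (G.inv_mem hg) hxG) hg, ?_⟩, ?_⟩
        · rw [Subgroup.mem_centralizer_singleton_iff]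
          calc g⁻¹ * x * g * c = g⁻¹ * (x * (g * c * g⁻¹)) * g := by group
            _ = g⁻¹ * (g * c * g⁻¹ * x) * g := by rw [hxc]
            _ = c * (g⁻¹ * x * g) := by group
        · show g * (g⁻¹ * x * g) * g⁻¹ = x
          group
    rw [← h5]
    exact ⟨Subgroup.equivMapOfInjective _ _ (MulAut.conj g).injective⟩
  have hFconj : ∀ (c : X) (g : X), g ∈ G → F (g * c * g⁻¹) = F c ∧
      Nat.card ↥(G ⊓ Subgroup.centralizer ({g * c * g⁻¹} : Set X)) = Nat.card ↥(G ⊓ Subgroup.centralizer ({c} : Set X)) := by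
    intro c g hg
    obtain ⟨ε⟩ := hconj c g hg
    refine ⟨?_, (Nat.card_congr ε.toEquiv).symm⟩
    rw [hF]
    apply Nat.card_congr
    exact (Quotient.congr ε.toEquiv (fun a b => by
      constructor
      · intro h; exact ε.toMonoidHom.map_isConj h
      · intro h
        have h6 : IsConj (ε.symm (ε a)) (ε.symm (ε b)) := ε.symm.toMonoidHom.map_isConj h
        rw [ε.symm_apply_apply, ε.symm_apply_apply] at h6
        exact h6)).symm
  -- sum over orbits
  have h5 : ∑ c : V, F c * Nat.card ↥(G ⊓ Subgroup.centralizer ({(c : X)} : Set X)) = Nat.card G * ∑ s ∈ S, F s := by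
    have h6 : ∀ c : V, ∃ s, s ∈ S ∧ ∃ g ∈ G, g * (c : X) * g⁻¹ = s := fun c => (hrep c c.2).exists
    choose r hrS hrG using h6
    have h7 : ∑ c : V, F c * Nat.card ↥(G ⊓ Subgroup.centralizer ({(c : X)} : Set X)) =
        ∑ s ∈ S, ∑ c ∈ Finset.univ.filter (fun c : V => r c = s), F c * Nat.card ↥(G ⊓ Subgroup.centralizer ({(c : X)} : Set X)) := by
      exact (Finset.sum_fiberwise_of_maps_to (fun c _ => hrS c) _).symm
    rw [h7, Finset.mul_sum]
    refine Finset.sum_congr rfl fun s hs => ?_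
    have h8 : ∀ c ∈ Finset.univ.filter (fun c : V => r c = s), F c * Nat.card ↥(G ⊓ Subgroup.centralizer ({(c : X)} : Set X)) =
        F s * Nat.card ↥(G ⊓ Subgroup.centralizer ({s} : Set X)) := by
      intro c hc
      obtain ⟨g, hg, hgc⟩ := hrG c
      rw [(Finset.mem_filter.1 hc).2] at hgc
      obtain ⟨e1, e2⟩ := hFconj c g hg
      rw [hgc] at e1 e2
      rw [e1, e2]
    rw [Finset.sum_congr rfl h8, Finset.sum_const, smul_eq_mul]
    -- orbit size
    have h9 : (Finset.univ.filter (fun c : V => r c = s)).card * Nat.card ↥(G ⊓ Subgroup.centralizer ({s} : Set X)) = Nat.card G := by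
      letI : MulAction G X := MulAction.compHom X ((MulAut.conj : X →* MulAut X).comp G.subtype)
      have hsm : ∀ (g : G) (x : X), g • x = (g : X) * x * (g : X)⁻¹ := fun g x => rfl
      have h10 := MulAction.card_orbit_mul_card_stabilizer_eq_card_group G s
      rw [← Nat.card_eq_fintype_card (α := G), ← Nat.card_eq_fintype_card, ← Nat.card_eq_fintype_card] at h10
      rw [← h10]
      have h11 : (Finset.univ.filter (fun c : V => r c = s)).card = Nat.card (MulAction.orbit G s) := by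
        rw [← Fintype.card_subtype, ← Nat.card_eq_fintype_card]
        apply Nat.card_congr
        refine ⟨fun c => ⟨c.1, ?_⟩, fun x => ⟨⟨x.1, ?_⟩, ?_⟩, ?_, ?_⟩
        · obtain ⟨g, hg, hgc⟩ := hrG c.1
          refine ⟨⟨g, hg⟩⁻¹, ?_⟩
          show g⁻¹ * s * g⁻¹⁻¹ = (c.1 : X)
          have hgc' : g * ((c.1 : V) : X) * g⁻¹ = s := hgc.trans c.2
          calc g⁻¹ * s * g⁻¹⁻¹ = g⁻¹ * (g * ((c.1 : V) : X) * g⁻¹) * g⁻¹⁻¹ := by rw [hgc']
            _ = _ := by group
        · obtain ⟨g, hg⟩ := x.2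
          rw [← hg]
          exact ‹V.Normal›.conj_mem s (hSV s hs) g
        · obtain ⟨g, hg⟩ := x.2
          have hxV : x.1 ∈ V := by rw [← hg]; exact ‹V.Normal›.conj_mem s (hSV s hs) g
          refine (hrep x.1 hxV).unique ⟨hrS ⟨x.1, hxV⟩, hrG ⟨x.1, hxV⟩⟩ ⟨hs, (g : X)⁻¹, G.inv_mem g.2, ?_⟩
          rw [← hg]
          show (g : X)⁻¹ * ((g : X) * s * (g : X)⁻¹) * (g : X)⁻¹⁻¹ = s
          group
        · intro c; rfl
        · intro x; rfl
      have h12 : Nat.card ↥(G ⊓ Subgroup.centralizer ({s} : Set X)) = Nat.card (MulAction.stabilizer G s) := by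
        apply Nat.card_congr
        refine ⟨fun x => ⟨⟨x.1, (Subgroup.mem_inf.1 x.2).1⟩, ?_⟩, fun y => ⟨(y.1 : X), ?_⟩, ?_, ?_⟩
        · rw [MulAction.mem_stabilizer_iff]
          show (x : X) * s * (x : X)⁻¹ = s
          have h13 := Subgroup.mem_centralizer_singleton_iff.1 (Subgroup.mem_inf.1 x.2).2
          rw [h13, mul_inv_cancel_right]
        · refine Subgroup.mem_inf.2 ⟨y.1.2, ?_⟩
          rw [Subgroup.mem_centralizer_singleton_iff]
          have h13 : (y.1 : X) * s * (y.1 : X)⁻¹ = s := y.2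
          exact mul_inv_eq_iff_eq_mul.1 h13
        · intro x; rfl
        · intro y; rfl
      rw [h11, h12]
    rw [← h9]
    ring
  have h6 := card_comm_eq_card_conjClasses_mul_card X
  rw [h1, Finset.sum_congr rfl fun gh _ => h2 gh, ← Finset.mul_sum, h3, Finset.sum_congr rfl fun c _ => h4 c, h5, hXcard] at h6
  have h7 : 0 < Nat.card V * Nat.card G := Nat.mul_pos Nat.card_pos Nat.card_pos
  apply Nat.eq_of_mul_eq_mul_right h7
  rw [← h6]
  ring

end S4956

end CfsgH5
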