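import Mathlib

/-!
# A coherence lemma for integer vectors
-/

set_option autoImplicit false

namespace CfsgH5

section CL

variable {B : Type*} [Fintype B] [DecidableEq B]

/-- the vector `e_a - e_b` -/
def eab (a b : B) : B → ℤ := fun x => (if x = a then 1 else 0) - (if x = b then 1 else 0)

theorem norm_two (u : B → ℤ) (D : B → ℕ) (hD : ∀ x, 0 < D x) (h2 : ∑ x, u x ^ 2 = 2)
    (h0 : ∑ x, u x * (D x : ℤ) = 0) : ∃ a b, a ≠ b ∧ u = eab a b := by
  have hpos : ∃ a, 0 < u a := by
    by_contra hc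
    push Not at hc
    have h3 : ∀ x ∈ Finset.univ, u x * (D x : ℤ) = 0 := by
      apply (Finset.sum_eq_zero_iff_of_nonpos ?_).1 h0
      intro x _
      exact mul_nonpos_of_nonpos_of_nonneg (hc x) (by positivity)
    have h4 : ∀ x, u x = 0 := fun x => by
      have h5 := h3 x (Finset.mem_univ x)
      rcases mul_eq_zero.1 h5 with h | h
      · exact h
      · exact absurd h (by have := hD x; positivity)
    simp [h4] at h2
  have hneg : ∃ b, u b < 0 := by
    by_contra hc
    push Not at hc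
    have h3 : ∀ x ∈ Finset.univ, u x * (D x : ℤ) = 0 := by
      apply (Finset.sum_eq_zero_iff_of_nonneg ?_).1 h0
      intro x _
      exact mul_nonneg (hc x) (by positivity)
    have h4 : ∀ x, u x = 0 := fun x => by
      have h5 := h3 x (Finset.mem_univ x)
      rcases mul_eq_zero.1 h5 with h | h
      · exact h
      · exact absurd h (by have := hD x; positivity)
    simp [h4] at h2
  obtain ⟨a, ha⟩ := hpos
  obtain ⟨b, hb⟩ := hneg
  have hab : a ≠ b := by rintro rfl; omega
  refine ⟨a, b, hab, ?_⟩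
  have h5 : ∑ x, u x ^ 2 = u a ^ 2 + (u b ^ 2 + ∑ x ∈ (Finset.univ.erase a).erase b, u x ^ 2) := by
    rw [← Finset.add_sum_erase _ _ (Finset.mem_univ a), ← Finset.add_sum_erase (Finset.univ.erase a) _
      (Finset.mem_erase.2 ⟨hab.symm, Finset.mem_univ b⟩)]
  have h6 : 0 ≤ ∑ x ∈ (Finset.univ.erase a).erase b, u x ^ 2 := Finset.sum_nonneg fun _ _ => sq_nonneg _
  have h7 : 1 ≤ u a ^ 2 := by nlinarith
  have h8 : 1 ≤ u b ^ 2 := by nlinarith
  have h9 : ∑ x ∈ (Finset.univ.erase a).erase b, u x ^ 2 = 0 := by omega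
  have ha1 : u a = 1 := by nlinarith
  have hb1 : u b = -1 := by nlinarith
  have h10 := (Finset.sum_eq_zero_iff_of_nonneg (fun _ _ => sq_nonneg _)).1 h9
  funext x
  unfold eab
  by_cases hxa : x = a
  · subst hxa; rw [if_pos rfl, if_neg hab, ha1]; ring
  · by_cases hxb : x = b
    · subst hxb; rw [if_pos rfl, if_neg hxa, hb1]; ring
    · rw [if_neg hxa, if_neg hxb]
      have := h10 x (Finset.mem_erase.2 ⟨hxb, Finset.mem_erase.2 ⟨hxa, Finset.mem_univ x⟩⟩)
      simpa using this

theorem coh_lemma {I : Type*} (v : I → B → ℤ) (D : B → ℕ) (hD : ∀ x, 0 < D x) (m : ℤ)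
    (hn : ∀ i, ∑ x, v i x ^ 2 = m + 1) (ho : ∀ i j, v i ≠ v j → ∑ x, v i x * v j x = m)
    (h0 : ∀ i, ∑ x, v i x * (D x : ℤ) = 0) (i0 i1 : I) (h01 : v i1 ≠ v i0) :
    ∃ (w : B → ℤ) (δ : ℤ) (η : I → B), (δ = 1 ∨ δ = -1) ∧ ∀ i x, v i x = w x - δ * (if x = η i then 1 else 0) := by
  have hdiff : ∀ i j, v i ≠ v j → ∃ a b, a ≠ b ∧ (fun x => v i x - v j x) = eab a b := by
    intro i j hij
    apply norm_two _ D hD
    · show ∑ x, (v i x - v j x) ^ 2 = 2
      have h1 : ∀ x, (v i x - v j x) ^ 2 = v i x ^ 2 + v j x ^ 2 - 2 * (v i x * v j x) := fun x => by ring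
      simp only [h1]
      rw [Finset.sum_sub_distrib, Finset.sum_add_distrib, ← Finset.mul_sum, hn i, hn j, ho i j hij]
      ring
    · show ∑ x, (v i x - v j x) * (D x : ℤ) = 0
      rw [Finset.sum_congr rfl fun x _ => sub_mul (v i x) (v j x) (D x : ℤ), Finset.sum_sub_distrib, h0, h0, sub_zero]
  obtain ⟨a, b, hab, h1⟩ := hdiff i1 i0 h01
  have h1' : ∀ x, v i1 x = v i0 x + eab a b x := fun x => by
    have : v i1 x - v i0 x = eab a b x := congrFun h1 x
    omega
  have key : ∀ j, (∃ y, ∀ x, v j x = (v i0 x - (if x = b then 1 else 0)) + (if x = y then 1 else 0)) ∨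
      (∃ y, ∀ x, v j x = (v i0 x + (if x = a then 1 else 0)) - (if x = y then 1 else 0)) := by
    intro j
    by_cases hj0 : v j = v i0
    · left
      exact ⟨b, fun x => by rw [hj0]; ring⟩
    by_cases hj1 : v j = v i1
    · left
      refine ⟨a, fun x => ?_⟩
      rw [hj1, h1' x]; unfold eab; ring
    obtain ⟨a', b', hab', h2⟩ := hdiff j i0 hj0
    obtain ⟨a'', b'', hab'', h3⟩ := hdiff j i1 hj1
    have h2' : ∀ x, v j x = v i0 x + eab a' b' x := fun x => by
      have : v j x - v i0 x = eab a' b' x := congrFun h2 x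
      omega
    have h3' : ∀ x, eab a' b' x = eab a b x + eab a'' b'' x := fun x => by
      have : v j x - v i1 x = eab a'' b'' x := congrFun h3 x
      rw [h2' x, h1' x] at this
      omega
    by_cases ha : a' = a
    · right
      subst ha
      refine ⟨b', fun x => ?_⟩
      rw [h2' x]; unfold eab; ring
    by_cases hb : b' = b
    · left
      subst hb
      refine ⟨a', fun x => ?_⟩
      rw [h2' x]; unfold eab; ring
    exfalso
    have e1 := h3' a
    have e2 := h3' b'
    unfold eab at e1 e2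
    rw [if_neg (fun h => ha h.symm), if_pos rfl, if_neg hab] at e1
    rw [if_neg (fun h => hab' h.symm), if_pos rfl, if_neg hb] at e2
    have ha1 : a ≠ b' := by
      intro h
      rw [if_pos h] at e1
      split_ifs at e1 <;> omega
    have ha2 : a = b'' := by
      by_contra hc
      rw [if_neg ha1, if_neg hc] at e1
      split_ifs at e1 <;> omega
    have hb2 : b' = b'' := by
      by_contra hc
      rw [if_neg (fun h => ha1 h.symm), if_neg hc] at e2
      split_ifs at e2 <;> omega
    exact ha1 (ha2.trans hb2.symm)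
  by_cases hP1 : ∀ j, ∃ y, ∀ x, v j x = (v i0 x - (if x = b then 1 else 0)) + (if x = y then 1 else 0)
  · choose η hη using hP1
    exact ⟨fun x => v i0 x - (if x = b then 1 else 0), -1, η, Or.inr rfl, fun i x => by rw [hη i x]; ring⟩
  by_cases hP2 : ∀ j, ∃ y, ∀ x, v j x = (v i0 x + (if x = a then 1 else 0)) - (if x = y then 1 else 0)
  · choose η hη using hP2
    exact ⟨fun x => v i0 x + (if x = a then 1 else 0), 1, η, Or.inl rfl, fun i x => by rw [hη i x]; ring⟩
  exfalso
  push Not at hP1 hP2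
  obtain ⟨j, hj⟩ := hP1
  obtain ⟨k, hk⟩ := hP2
  obtain ⟨s, hs⟩ := (key j).resolve_left (by push Not; exact hj)
  obtain ⟨t, ht⟩ := (key k).resolve_right (by push Not; exact hk)
  have hsa : s ≠ a := by
    rintro rfl
    obtain ⟨x, hx⟩ := hj b
    apply hx; rw [hs x]; ring
  have hsb : s ≠ b := by
    rintro rfl
    obtain ⟨x, hx⟩ := hj a
    apply hx; rw [hs x]; ring
  have hta : t ≠ a := by
    rintro rfl
    obtain ⟨x, hx⟩ := hk b
    apply hx; rw [ht x]; ring
  have htb : t ≠ b := by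
    rintro rfl
    obtain ⟨x, hx⟩ := hk a
    apply hx; rw [ht x]; ring
  have hva : v j a - v k a = 1 := by
    rw [hs a, ht a, if_pos rfl, if_neg (Ne.symm hsa), if_neg hab, if_neg (Ne.symm hta)]; ring
  have hvb : v j b - v k b = 1 := by
    rw [hs b, ht b, if_pos rfl, if_neg (Ne.symm hsb), if_neg (Ne.symm hab), if_neg (Ne.symm htb)]; ring
  have hne : v j ≠ v k := by
    intro h; rw [h] at hva; omega
  obtain ⟨x, y, hxy, h⟩ := hdiff j k hne
  have e1 : v j a - v k a = eab x y a := congrFun h a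
  have e2 : v j b - v k b = eab x y b := congrFun h b
  unfold eab at e1 e2
  rw [hva] at e1
  rw [hvb] at e2
  have hax : a = x := by
    by_contra hc
    rw [if_neg hc] at e1
    split_ifs at e1 <;> omega
  have hbx : b = x := by
    by_contra hc
    rw [if_neg hc] at e2
    split_ifs at e2 <;> omega
  exact hab (hax.trans hbx.symm)

/-- the common coefficient -/
theorem coh_d {I : Type*} (v : I → B → ℤ) (m : ℤ) (hn : ∀ i, ∑ x, v i x ^ 2 = m + 1) (i0 : I)
    (w : B → ℤ) (δ : ℤ) (η : I → B) (hδ : δ = 1 ∨ δ = -1)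
    (h : ∀ i x, v i x = w x - δ * (if x = η i then 1 else 0)) :
    ∃ d : ℤ, (∀ i, w (η i) = d) ∧ ∑ x, w x ^ 2 = m + 2 * δ * d := by
  have hδ2 : δ * δ = 1 := by rcases hδ with h | h <;> rw [h] <;> norm_num
  have h1 : ∀ i, ∑ x, w x ^ 2 = m + 2 * δ * w (η i) := by
    intro i
    have h2 := hn i
    have h3 : ∀ x, v i x ^ 2 = w x ^ 2 + (1 - 2 * δ * w (η i)) * (if x = η i then 1 else 0) := by
      intro x
      rw [h i x]
      split_ifs with hx
      · rw [hx]; ring_nf; rw [show δ ^ 2 = 1 from by rw [sq]; exact hδ2]; ring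
      · ring
    simp only [h3] at h2
    rw [Finset.sum_add_distrib, ← Finset.mul_sum, Finset.sum_ite_eq' Finset.univ (η i) (fun _ => (1 : ℤ)),
      if_pos (Finset.mem_univ _)] at h2
    linarith
  refine ⟨w (η i0), fun i => ?_, h1 i0⟩
  have h2 : δ * w (η i) = δ * w (η i0) := by
    have := h1 i
    rw [h1 i0] at this
    linarith
  have h3 := congrArg (fun z => δ * z) h2
  simp only [← mul_assoc, hδ2, one_mul] at h3
  exact h3

end CL

end CfsgH5
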