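import Cfsg.Agent.H5.SymSq
import Cfsg.Agent.H5.Quick2
import Cfsg.Agent.H5.Idem
import Cfsg.Agent.H4.Extend

/-!
# Counting linear characters by characters induced from the inertia group
-/

set_option autoImplicit false
open Cfsg
open CfsgH4 hiding centralChar sum_conj

namespace CfsgH5

open scoped ComplexConjugate

variable {G : Type*} [Group G] [Fintype G]

theorem finite_hom (G : Type*) [Group G] [Finite G] : Finite (G →* ℂˣ) := by
  apply Nat.finite_of_card_ne_zero
  rw [card_hom_units]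
  exact Subgroup.FiniteIndex.index_ne_zero

theorem card_ker_res_le (I : Subgroup G) : Nat.card (MonoidHom.compHom' (P := ℂˣ) I.subtype).ker ≤ I.index := by
  classical
  set J : Subgroup G := I ⊔ commutator G with hJ
  haveI hJn : J.Normal := by
    constructor
    intro n hn g
    have h1 : g * n * g⁻¹ * n⁻¹ ∈ J := (le_sup_right : commutator G ≤ J) (Subgroup.commutator_mem_commutator (Subgroup.mem_top g) (Subgroup.mem_top n))
    have h2 := J.mul_mem h1 hn
    simpa using h2
  haveI := finite_hom (G ⧸ J)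
  have h1 : Nat.card (MonoidHom.compHom' (P := ℂˣ) I.subtype).ker ≤ Nat.card ((G ⧸ J) →* ℂˣ) := by
    have hex : ∀ μ : (MonoidHom.compHom' (P := ℂˣ) I.subtype).ker, J ≤ μ.1.ker := by
      intro μ
      rw [hJ, sup_le_iff]
      constructor
      · intro x hx
        have h2 : (MonoidHom.compHom' (P := ℂˣ) I.subtype) μ.1 = 1 := μ.2
        exact DFunLike.congr_fun h2 ⟨x, hx⟩
      · exact Abelianization.commutator_subset_ker μ.1
    refine Nat.card_le_card_of_injective (fun μ => QuotientGroup.lift J μ.1 (hex μ)) ?_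
    intro μ ν h
    apply Subtype.ext
    ext x
    have h2 : QuotientGroup.lift J μ.1 (hex μ) (x : G ⧸ J) = QuotientGroup.lift J ν.1 (hex ν) (x : G ⧸ J) := DFunLike.congr_fun h _
    rw [QuotientGroup.lift_mk, QuotientGroup.lift_mk] at h2
    rw [h2]
  have h2 : Nat.card ((G ⧸ J) →* ℂˣ) = J.index := by
    rw [card_hom_units]
    have h3 : commutator (G ⧸ J) = ⊥ := by
      rw [commutator_def, eq_bot_iff, Subgroup.commutator_le]
      intro a _ b _
      induction a using QuotientGroup.induction_on with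
      | _ a =>
      induction b using QuotientGroup.induction_on with
      | _ b =>
      rw [Subgroup.mem_bot, commutatorElement_def]
      rw [← QuotientGroup.mk_inv, ← QuotientGroup.mk_inv, ← QuotientGroup.mk_mul, ← QuotientGroup.mk_mul, ← QuotientGroup.mk_mul, QuotientGroup.eq_one_iff]
      exact (le_sup_right : commutator G ≤ J) (Subgroup.commutator_mem_commutator (Subgroup.mem_top a) (Subgroup.mem_top b))
    rw [h3, Subgroup.index_bot]
    rfl
  rw [h2] at h1
  refine h1.trans ?_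
  exact Nat.le_of_dvd (Nat.pos_of_ne_zero Subgroup.FiniteIndex.index_ne_zero) (Subgroup.index_dvd_of_le (le_sup_left : I ≤ J))

theorem card_sub_le (I : Subgroup G) (S : Subgroup (G →* ℂˣ)) (S' : Subgroup (I →* ℂˣ)) (hS : ∀ lam ∈ S, lam.comp I.subtype ∈ S') :
    Nat.card S ≤ I.index * Nat.card S' := by
  haveI := finite_hom G
  haveI := finite_hom I
  set R : S →* (I →* ℂˣ) := (MonoidHom.compHom' (P := ℂˣ) I.subtype).comp S.subtype with hR
  have h1 : Nat.card S = Nat.card R.ker * Nat.card R.range := by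
    rw [mul_comm, ← Nat.card_congr (QuotientGroup.quotientKerEquivRange R).toEquiv]
    exact Subgroup.card_eq_card_quotient_mul_card_subgroup _
  have h2 : Nat.card R.range ≤ Nat.card S' := by
    refine Nat.card_le_card_of_injective (fun x : R.range => (⟨x.1, ?_⟩ : S')) ?_
    · obtain ⟨lam, hl⟩ := x.2
      rw [← hl]
      exact hS lam.1 lam.2
    · intro x y h
      have h5 : (x.1 : I →* ℂˣ) = y.1 := congrArg (fun z : S' => z.1) h
      exact Subtype.ext h5
  have h3 : Nat.card R.ker ≤ I.index := by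
    refine le_trans ?_ (card_ker_res_le I)
    refine Nat.card_le_card_of_injective (fun x : R.ker => (⟨x.1.1, x.2⟩ : (MonoidHom.compHom' (P := ℂˣ) I.subtype).ker)) ?_
    intro x y h
    have h5 : (x.1.1 : G →* ℂˣ) = y.1.1 := congrArg (fun z : (MonoidHom.compHom' (P := ℂˣ) I.subtype).ker => z.1) h
    exact Subtype.ext (Subtype.ext h5)
  rw [h1]
  exact Nat.mul_le_mul h3 h2

/-- a minimal normal subgroup which is not commutative is perfect -/
theorem perfect_of_minimal {G : Type*} [Group G] (N : Subgroup G) (hN : N.Normal)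
    (hmin : ∀ M : Subgroup G, M.Normal → M ≤ N → M = ⊥ ∨ M = N) (hna : ¬ IsMulCommutative ↥N) : ⁅N, N⁆ = N := by
  rcases hmin ⁅N, N⁆ inferInstance (Subgroup.commutator_le_left N N) with h | h
  · exfalso
    apply hna
    refine ⟨⟨fun a b => ?_⟩⟩
    have h1 : (a : G) * b * (a : G)⁻¹ * (b : G)⁻¹ ∈ (⊥ : Subgroup G) := by
      rw [← h]; exact Subgroup.commutator_mem_commutator a.2 b.2
    rw [Subgroup.mem_bot, ← commutatorElement_def, commutatorElement_eq_one_iff_mul_comm] at h1
    exact Subtype.ext h1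
  · exact h

theorem hom_trivial_of_perfect {G : Type*} [Group G] {N I : Subgroup G} (hperf : ⁅N, N⁆ = N) (hNI : N ≤ I) (β : I →* ℂˣ)
    (n : N) : β (Subgroup.inclusion hNI n) = 1 := by
  have h1 : commutator N = ⊤ := by
    have h2 : (commutator N).map N.subtype = (⊤ : Subgroup N).map N.subtype := by
      rw [commutator_def, Subgroup.map_commutator, ← MonoidHom.range_eq_map, Subgroup.range_subtype, hperf]
    exact Subgroup.map_injective N.subtype_injective h2
  have h2 : n ∈ (β.comp (Subgroup.inclusion hNI)).ker := by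
    apply Abelianization.commutator_subset_ker (β.comp (Subgroup.inclusion hNI))
    rw [h1]; trivial
  exact h2

section
variable (N : Subgroup G) [hN : N.Normal] [Fintype N] {φ : N → ℂ} (hφ : IsIrrCharacter N φ)
  [Fintype (inertia N φ)] (hNI : N ≤ inertia N φ) (hperf : ⁅N, N⁆ = N)
  {ψ : inertia N φ → ℂ} (hψ : IsIrrCharacter (inertia N φ) ψ) (hψN : resLE hNI ψ = φ)

include hperf hψN in
omit [Fintype G] [Fintype N] [Fintype (inertia N φ)] in
theorem res_lin (β : inertia N φ →* ℂˣ) : resLE hNI (fun x => (β x : ℂ) * ψ x) = φ := by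
  refine Eq.trans ?_ hψN
  ext n
  show (β (Subgroup.inclusion hNI n) : ℂ) * ψ (Subgroup.inclusion hNI n) = ψ (Subgroup.inclusion hNI n)
  rw [hom_trivial_of_perfect hperf hNI β n, Units.val_one, one_mul]

include hφ hperf hψ hψN in
theorem ind_lin (β : inertia N φ →* ℂˣ) : IsIrrCharacter G (indFun (inertia N φ) (fun x => (β x : ℂ) * ψ x)) ∧
    classInner (fun n : N => indFun (inertia N φ) (fun x => (β x : ℂ) * ψ x) n) φ = 1 ∧
    indFun (inertia N φ) (fun x => (β x : ℂ) * ψ x) 1 = ((inertia N φ).index : ℂ) * φ 1 := by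
  have h1 := linear_mul_irr β hψ
  have h2 := res_lin N hNI hperf hψN β
  have h3 : classInner (resLE hNI (fun x => (β x : ℂ) * ψ x)) φ = 1 := by rw [h2]; exact classInner_irr_self hφ
  refine ⟨clif_irr N hφ hNI h1 (by rw [h3]; exact one_ne_zero), ?_, ?_⟩
  · rw [clif_over N hφ hNI h1 (by rw [h3]; exact one_ne_zero), h3]
  · rw [indFun_one, ← resLE_one hNI (fun x => (β x : ℂ) * ψ x), h2]

include hφ hperf hψ hψN in
theorem ind_lin_inj {β β' : inertia N φ →* ℂˣ} (h : indFun (inertia N φ) (fun x => (β x : ℂ) * ψ x) =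
    indFun (inertia N φ) (fun x => (β' x : ℂ) * ψ x)) : β = β' := by
  have h2 := res_lin N hNI hperf hψN
  have h3 : ∀ β : inertia N φ →* ℂˣ, classInner (resLE hNI (fun x => (β x : ℂ) * ψ x)) φ ≠ 0 := fun β => by
    rw [h2 β, classInner_irr_self hφ]; exact one_ne_zero
  have h4 := clif_inj N hφ hNI (linear_mul_irr β hψ) (h3 β) (linear_mul_irr β' hψ) (h3 β') h
  ext x
  -- a nonvanishing element of the coset
  haveI : (N.subgroupOf (inertia N φ)).Normal := hN.subgroupOf _
  have h5 : IsIrrCharacter (N.subgroupOf (inertia N φ)) (fun n : N.subgroupOf (inertia N φ) => ψ n) := by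
    have h6 := (isIrr_comp_equiv (Subgroup.subgroupOfEquivOfLe hNI) (φ := φ)).2 hφ
    have h7 : (fun n : N.subgroupOf (inertia N φ) => ψ n) = fun a => φ (Subgroup.subgroupOfEquivOfLe hNI a) := by
      ext n
      exact congrFun hψN (Subgroup.subgroupOfEquivOfLe hNI n)
    rw [h7]
    exact h6
  have h6 : ¬ ∃ x : inertia N φ, ∀ n : N.subgroupOf (inertia N φ), ψ ((n : inertia N φ) * x) = 0 := by
    rw [← not_irr_iff_vanish (N.subgroupOf (inertia N φ)) hψ, not_not]
    exact h5
  push Not at h6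
  obtain ⟨n, hn⟩ := h6 x
  have h7 := congrFun h4 ((n : inertia N φ) * x)
  have h8 : ∀ β : inertia N φ →* ℂˣ, β (n : inertia N φ) = 1 := by
    intro β
    exact hom_trivial_of_perfect hperf hNI β ⟨((n : inertia N φ) : G), Subgroup.mem_subgroupOf.1 n.2⟩
  simp only [map_mul, h8, one_mul] at h7
  have h9 := mul_right_cancel₀ hn h7
  exact h9.symm

end

theorem charDegree_of_eq {χ : G → ℂ} (hχ : IsIrrCharacter G χ) {n : ℕ} (h : χ 1 = n) : charDegree χ = n := by
  have h1 := (IsIrr.one_eq hχ).1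
  rw [h] at h1
  exact_mod_cast h1.symm

theorem exists_hom_of_degree_one {χ : IrrCharacter G} (h : charDegree (χ : G → ℂ) = 1) : ∃ f : G →* ℂˣ, (χ : G → ℂ) = fun g => (f g : ℂ) := by
  apply IsCharacter.linear_of_one (IsIrr.isCharacter χ.2)
  rw [(IsIrr.one_eq χ.2).1, h, Nat.cast_one]

/-- S4870 -/
theorem lin_count (N : Subgroup G) [hN : N.Normal] (hperf : ⁅N, N⁆ = N) {φ : N → ℂ} (hφ : IsIrrCharacter N φ)
    (hNI : N ≤ inertia N φ) {ψ : inertia N φ → ℂ} (hψ : IsIrrCharacter (inertia N φ) ψ) (hψN : resLE hNI ψ = φ) :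
    Nat.card {χ : IrrCharacter G // charDegree (χ : G → ℂ) = 1} ≤ (inertia N φ).index *
      Nat.card {χ : IrrCharacter G // charDegree (χ : G → ℂ) = charDegree φ * (inertia N φ).index} := by
  classical
  haveI := Fintype.ofFinite N
  haveI := Fintype.ofFinite (inertia N φ)
  haveI := finite_hom G
  have h1 : Nat.card {χ : IrrCharacter G // charDegree (χ : G → ℂ) = 1} ≤ Nat.card (⊤ : Subgroup (G →* ℂˣ)) := by
    choose f hf using fun χ : {χ : IrrCharacter G // charDegree (χ : G → ℂ) = 1} => exists_hom_of_degree_one χ.2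
    refine Nat.card_le_card_of_injective (fun χ => (⟨f χ, trivial⟩ : (⊤ : Subgroup (G →* ℂˣ)))) ?_
    intro χ χ' h
    have h2 : f χ = f χ' := congrArg Subtype.val h
    apply Subtype.ext
    apply Subtype.ext
    rw [hf χ, hf χ', h2]
  have h2 := card_sub_le (inertia N φ) (⊤ : Subgroup (G →* ℂˣ)) (⊤ : Subgroup (inertia N φ →* ℂˣ)) (fun _ _ => trivial)
  refine (h1.trans h2).trans (Nat.mul_le_mul_left _ ?_)
  have h3 : ∀ β : inertia N φ →* ℂˣ, charDegree (indFun (inertia N φ) (fun x => (β x : ℂ) * ψ x)) = charDegree φ * (inertia N φ).index := by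
    intro β
    obtain ⟨h4, -, h5⟩ := ind_lin N hφ hNI hperf hψ hψN β
    apply charDegree_of_eq h4
    rw [h5, (IsIrr.one_eq hφ).1]
    push_cast
    ring
  refine Nat.card_le_card_of_injective (fun β : (⊤ : Subgroup (inertia N φ →* ℂˣ)) =>
    (⟨⟨indFun (inertia N φ) (fun x => (β.1 x : ℂ) * ψ x), (ind_lin N hφ hNI hperf hψ hψN β.1).1⟩, h3 β.1⟩ :
      {χ : IrrCharacter G // charDegree (χ : G → ℂ) = charDegree φ * (inertia N φ).index})) ?_
  intro β β' h
  have h4 : indFun (inertia N φ) (fun x => (β.1 x : ℂ) * ψ x) = indFun (inertia N φ) (fun x => (β'.1 x : ℂ) * ψ x) :=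
    congrArg (fun z => (z.1.1 : G → ℂ)) h
  exact Subtype.ext (ind_lin_inj N hφ hNI hperf hψ hψN h4)

/-- S4912 -/
theorem lin_count_fs (N : Subgroup G) [hN : N.Normal] (hperf : ⁅N, N⁆ = N) {φ : N → ℂ} (hφ : IsIrrCharacter N φ)
    [Fintype (inertia N φ)]
    (hNI : N ≤ inertia N φ) {ψ : inertia N φ → ℂ} (hψ : IsIrrCharacter (inertia N φ) ψ) (hψN : resLE hNI ψ = φ) (hψ1 : fs ψ = 1) :
    Nat.card {χ : IrrCharacter G // charDegree (χ : G → ℂ) = 1 ∧ fs (χ : G → ℂ) = 1} ≤ (inertia N φ).index *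
      Nat.card {χ : IrrCharacter G // charDegree (χ : G → ℂ) = charDegree φ * (inertia N φ).index ∧ fs (χ : G → ℂ) = 1} := by
  classical
  haveI := Fintype.ofFinite N
  haveI := finite_hom G
  set S : Subgroup (G →* ℂˣ) := (powMonoidHom 2 : (G →* ℂˣ) →* (G →* ℂˣ)).ker with hS
  set S' : Subgroup (inertia N φ →* ℂˣ) := (powMonoidHom 2 : (inertia N φ →* ℂˣ) →* (inertia N φ →* ℂˣ)).ker with hS'
  have hSm : ∀ f : G →* ℂˣ, f ∈ S ↔ f ^ 2 = 1 := fun f => Iff.rfl
  have hSm' : ∀ f : inertia N φ →* ℂˣ, f ∈ S' ↔ f ^ 2 = 1 := fun f => Iff.rfl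
  have h1 : Nat.card {χ : IrrCharacter G // charDegree (χ : G → ℂ) = 1 ∧ fs (χ : G → ℂ) = 1} ≤ Nat.card S := by
    choose f hf using fun χ : {χ : IrrCharacter G // charDegree (χ : G → ℂ) = 1 ∧ fs (χ : G → ℂ) = 1} => exists_hom_of_degree_one χ.2.1
    have hf2 : ∀ χ, f χ ∈ S := by
      intro χ
      rw [hSm]
      have hr := real_of_fs χ.1.2 (by rw [χ.2.2]; exact one_ne_zero)
      ext g
      have h3 := hr g
      rw [hf χ] at h3
      have h4 : ‖((f χ g : ℂˣ) : ℂ)‖ = 1 := norm_unit_of_finite (f χ) g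
      have h5 : ((f χ g : ℂˣ) : ℂ) * conj ((f χ g : ℂˣ) : ℂ) = 1 := by
        rw [Complex.mul_conj, Complex.normSq_eq_norm_sq, h4]; simp
      rw [h3] at h5
      show (((f χ ^ 2) g : ℂˣ) : ℂ) = ((1 : G →* ℂˣ) g : ℂˣ)
      rw [MonoidHom.pow_apply, Units.val_pow_eq_pow_val, pow_two, h5]
      rfl
    refine Nat.card_le_card_of_injective (fun χ => (⟨f χ, hf2 χ⟩ : S)) ?_
    intro χ χ' h
    have h2 : f χ = f χ' := congrArg Subtype.val h
    apply Subtype.ext
    apply Subtype.ext
    rw [hf χ, hf χ', h2]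
  have h2 := card_sub_le (inertia N φ) S S' (fun lam hlam => by
    rw [hSm'] 
    rw [hSm] at hlam
    ext x
    have h3 := DFunLike.congr_fun hlam (x : G)
    show (((lam.comp (inertia N φ).subtype) ^ 2) x : ℂ) = 1
    rw [MonoidHom.pow_apply] at h3 ⊢
    rw [MonoidHom.comp_apply]
    exact congrArg Units.val h3)
  refine (h1.trans h2).trans (Nat.mul_le_mul_left _ ?_)
  have hψr := real_of_fs hψ (by rw [hψ1]; exact one_ne_zero)
  have hφ1 : fs φ = 1 := by
    have h3 := fs_comp (Subgroup.inclusion hNI) hψ hψ1 (by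
      have h4 : (fun n : N => ψ (Subgroup.inclusion hNI n)) = φ := hψN
      rw [h4]; exact hφ)
    have h4 : (fun n : N => ψ (Subgroup.inclusion hNI n)) = φ := hψN
    rw [h4] at h3
    exact h3
  have h3 : ∀ β : inertia N φ →* ℂˣ, charDegree (indFun (inertia N φ) (fun x => (β x : ℂ) * ψ x)) = charDegree φ * (inertia N φ).index := by
    intro β
    obtain ⟨h4, -, h5⟩ := ind_lin N hφ hNI hperf hψ hψN β
    apply charDegree_of_eq h4
    rw [h5, (IsIrr.one_eq hφ).1]
    push_cast
    ring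
  have h4 : ∀ β : S', fs (indFun (inertia N φ) (fun x => (β.1 x : ℂ) * ψ x)) = 1 := by
    intro β
    obtain ⟨h5, h6, -⟩ := ind_lin N hφ hNI hperf hψ hψN β.1
    refine fs_of_mult_one N h5 ?_ hφ hφ1 h6
    intro g
    rw [← indFun_conj]
    congr 2
    ext x
    rw [map_mul, hψr]
    congr 1
    have h7 := DFunLike.congr_fun ((hSm' β.1).1 β.2) x
    rw [MonoidHom.pow_apply] at h7
    have h8 : ((β.1 x : ℂˣ) : ℂ) * ((β.1 x : ℂˣ) : ℂ) = 1 := by
      have h9 := congrArg Units.val h7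
      rw [Units.val_pow_eq_pow_val, pow_two] at h9
      exact h9
    have h9 : ‖((β.1 x : ℂˣ) : ℂ)‖ = 1 := norm_unit_of_finite β.1 x
    have h10 : ((β.1 x : ℂˣ) : ℂ) * conj ((β.1 x : ℂˣ) : ℂ) = 1 := by
      rw [Complex.mul_conj, Complex.normSq_eq_norm_sq, h9]; simp
    exact mul_left_cancel₀ (Units.ne_zero _) (h10.trans h8.symm)
  refine Nat.card_le_card_of_injective (fun β : S' =>
    (⟨⟨indFun (inertia N φ) (fun x => (β.1 x : ℂ) * ψ x), (ind_lin N hφ hNI hperf hψ hψN β.1).1⟩, h3 β.1, h4 β⟩ :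
      {χ : IrrCharacter G // charDegree (χ : G → ℂ) = charDegree φ * (inertia N φ).index ∧ fs (χ : G → ℂ) = 1})) ?_
  intro β β' h
  have h4 : indFun (inertia N φ) (fun x => (β.1 x : ℂ) * ψ x) = indFun (inertia N φ) (fun x => (β'.1 x : ℂ) * ψ x) :=
    congrArg (fun z => (z.1.1 : G → ℂ)) h
  exact Subtype.ext (ind_lin_inj N hφ hNI hperf hψ hψN h4)

end CfsgH5
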