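import Cfsg.Agent.H5.KleinB
import Cfsg.Agent.H5.CohLat
import Cfsg.Agent.H5.LinCount
import Cfsg.Agent.H5.Princ2
import Cfsg.Agent.H5.OneChar
import Cfsg.Agent.H4.Cyc1
import Cfsg.Agent.H4.Ker

/-!
# Groups with abelian Sylow subgroup `P` and `N(P)/C(P)` acting freely: the Gram matrix
-/

set_option autoImplicit false

open Cfsg MonoidAlgebra
open CfsgH4 hiding centralChar sum_conj regInner_symm

namespace CfsgH5

open scoped ComplexConjugate

section Abel

variable {A : Type*} [Group A] [Fintype A]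

theorem sum_hom_val [Fintype (A →* ℂˣ)] [DecidableEq A] (hab : ∀ a b : A, a * b = b * a) (y : A) :
    ∑ ψ : A →* ℂˣ, (ψ y : ℂ) = if y = 1 then (Nat.card A : ℂ) else 0 := by
  classical
  have hcom : commutator A = ⊥ := by
    rw [commutator_eq_bot_iff_center_eq_top, eq_top_iff]
    intro x _
    exact Subgroup.mem_center_iff.2 fun g => hab g x
  split_ifs with hy
  · subst hy
    simp only [map_one, Units.val_one, Finset.sum_const, nsmul_eq_mul, mul_one]
    rw [Finset.card_univ, ← Nat.card_eq_fintype_card, card_hom_units, hcom, Subgroup.index_bot]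
  · obtain ⟨f, hf⟩ := exists_lin_ne (G := A) (g := y) (by rw [hcom, Subgroup.mem_bot]; exact hy)
    have h1 : ∑ ψ : A →* ℂˣ, ((f * ψ) y : ℂ) = ∑ ψ : A →* ℂˣ, (ψ y : ℂ) :=
      Fintype.sum_equiv (Equiv.mulLeft f) _ _ fun ψ => rfl
    have h2 : ∑ ψ : A →* ℂˣ, ((f * ψ) y : ℂ) = (f y : ℂ) * ∑ ψ : A →* ℂˣ, (ψ y : ℂ) := by
      rw [Finset.mul_sum]
      refine Finset.sum_congr rfl fun ψ _ => ?_
      rw [MonoidHom.mul_apply, Units.val_mul]
    rw [h2] at h1
    have h3 : ((f y : ℂ) - 1) * ∑ ψ : A →* ℂˣ, (ψ y : ℂ) = 0 := by linear_combination h1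
    rcases mul_eq_zero.1 h3 with h | h
    · exfalso; apply hf; apply Units.ext; rw [Units.val_one]; linear_combination h
    · exact h

theorem conj_hom (ψ : A →* ℂˣ) (y : A) : conj (ψ y : ℂ) = (ψ y⁻¹ : ℂ) := by
  rw [map_inv]
  have h := CfsgH4.norm_unit_of_finite ψ y
  rw [Units.val_inv_eq_inv_val, Complex.inv_def, Complex.normSq_eq_norm_sq, h]; simp

theorem fourier_inv [Fintype (A →* ℂˣ)] (hab : ∀ a b : A, a * b = b * a) (f : A → ℂ) (y : A) :
    f y = ∑ ψ : A →* ℂˣ, classInner f (lch ψ) * (ψ y : ℂ) := by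
  classical
  have h1 : ∀ ψ : A →* ℂˣ, classInner f (lch ψ) * (ψ y : ℂ) =
      (Nat.card A : ℂ)⁻¹ * ∑ x : A, f x * (ψ (x⁻¹ * y) : ℂ) := by
    intro ψ
    rw [classInner_def, mul_assoc, Finset.sum_mul]
    congr 1
    refine Finset.sum_congr rfl fun x _ => ?_
    unfold lch
    rw [conj_hom, map_mul, Units.val_mul]; ring
  rw [Finset.sum_congr rfl fun ψ _ => h1 ψ, ← Finset.mul_sum, Finset.sum_comm]
  have h2 : ∀ x : A, ∑ ψ : A →* ℂˣ, f x * (ψ (x⁻¹ * y) : ℂ) = if x = y then f y * Nat.card A else 0 := by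
    intro x
    rw [← Finset.mul_sum, sum_hom_val hab]
    by_cases h : x = y
    · subst h; rw [if_pos (inv_mul_cancel x), if_pos rfl]
    · rw [if_neg (fun h' => h (inv_mul_eq_one.1 h')), if_neg h, mul_zero]
  rw [Finset.sum_congr rfl fun x _ => h2 x, Finset.sum_ite_eq' Finset.univ y, if_pos (Finset.mem_univ _)]
  field_simp [card_ne_zero A]

theorem sum_one_sub {ψ φ : A →* ℂˣ} (hψ : ψ ≠ 1) (hφ : φ ≠ 1) [Decidable (φ = ψ)] :
    ∑ y : A, (1 - conj (ψ y : ℂ)) * (1 - (φ y : ℂ)) = (Nat.card A : ℂ) * (1 + if φ = ψ then 1 else 0) := by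
  classical
  have e1 : classInner (lch (1 : A →* ℂˣ)) (lch ψ) = 0 := by rw [lch_inner, if_neg (fun h => hψ h.symm)]
  have e2 : classInner (lch φ) (lch (1 : A →* ℂˣ)) = 0 := by rw [lch_inner, if_neg hφ]
  have e3 : classInner (lch φ) (lch ψ) = if φ = ψ then 1 else 0 := lch_inner _ _
  rw [classInner_def, mul_eq_zero] at e1 e2
  have e1' := e1.resolve_left (inv_ne_zero (card_ne_zero A))
  have e2' := e2.resolve_left (inv_ne_zero (card_ne_zero A))
  rw [classInner_def, inv_mul_eq_iff_eq_mul₀ (card_ne_zero A)] at e3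
  have e4 : ∑ y : A, (1 : ℂ) = Nat.card A := by
    rw [Finset.sum_const, nsmul_eq_mul, mul_one, Finset.card_univ, Nat.card_eq_fintype_card]
  have e5 : ∀ y : A, (1 - conj (ψ y : ℂ)) * (1 - (φ y : ℂ)) =
      1 - lch (1 : A →* ℂˣ) y * conj (lch ψ y) - lch φ y * conj (lch (1 : A →* ℂˣ) y) +
        lch φ y * conj (lch ψ y) := by
    intro y
    unfold lch
    simp only [MonoidHom.one_apply, Units.val_one, map_one]
    ring
  rw [Finset.sum_congr rfl fun y _ => e5 y, Finset.sum_add_distrib, Finset.sum_sub_distrib,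
    Finset.sum_sub_distrib, e4, e1', e2', e3]
  ring

end Abel

section Main

variable {G : Type*} [Group G] [Fintype G] {p : ℕ} [hp : Fact p.Prime]

abbrev nP (P : Sylow p G) : Subgroup G := Subgroup.normalizer ((P : Subgroup G) : Set G)
abbrev cP (P : Sylow p G) : Subgroup G := Subgroup.centralizer ((P : Subgroup G) : Set G)

structure FH (P : Sylow p G) (m : ℕ) : Prop where
  ab : ∀ a ∈ (P : Subgroup G), ∀ b ∈ (P : Subgroup G), a * b = b * a
  idx : (cP P).relIndex (nP P) = m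
  free : ∀ y : G, y ∈ (P : Subgroup G) → y ≠ 1 → Subgroup.centralizer ({y} : Set G) ⊓ nP P = cP P

variable {P : Sylow p G} {m : ℕ} {M : Ideal AlgInt}

theorem FH.P_le_cent (h : FH P m) {y : G} (hy : y ∈ (P : Subgroup G)) :
    (P : Subgroup G) ≤ Subgroup.centralizer ({y} : Set G) := fun a ha =>
  Subgroup.mem_centralizer_singleton_iff.2 (h.ab a ha y hy)

theorem FH.npc (h : FH P m) {y : G} (hy : y ∈ (P : Subgroup G)) (hy1 : y ≠ 1) :
    CfsgH3.HasNPC p (Subgroup.centralizer ({y} : Set G)) := by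
  have hPC := h.P_le_cent hy
  apply CfsgH3.hasNPC_burnside (P.subtype hPC)
  intro n hn
  rw [Subgroup.mem_centralizer_iff]
  have h1 : (n : G) ∈ nP P := by
    rw [Subgroup.mem_normalizer_iff]
    intro a
    have h2 := Subgroup.mem_normalizer_iff.1 hn
    constructor
    · intro ha
      have h3 := (h2 ⟨a, hPC ha⟩).1 (by
        show (⟨a, hPC ha⟩ : Subgroup.centralizer ({y} : Set G)) ∈ ((P.subtype hPC : Sylow p _) : Subgroup _)
        rw [Sylow.coe_subtype, Subgroup.mem_subgroupOf]; exact ha)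
      have h4 : n * ⟨a, hPC ha⟩ * n⁻¹ ∈ ((P.subtype hPC : Sylow p _) : Subgroup _) := h3
      rw [Sylow.coe_subtype, Subgroup.mem_subgroupOf] at h4
      exact h4
    · intro ha
      have hac : a ∈ Subgroup.centralizer ({y} : Set G) := by
        have h5 := hPC ha
        have h6 := mul_mem (mul_mem (inv_mem n.2) h5) n.2
        have h7 : (n : G)⁻¹ * (n * a * (n : G)⁻¹) * n = a := by group
        rwa [h7] at h6
      have h3 := (h2 ⟨a, hac⟩).2 (by
        show n * (⟨a, hac⟩ : Subgroup.centralizer ({y} : Set G)) * n⁻¹ ∈ ((P.subtype hPC : Sylow p _) : Subgroup _)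
        rw [Sylow.coe_subtype, Subgroup.mem_subgroupOf]; exact ha)
      have h4 : (⟨a, hac⟩ : Subgroup.centralizer ({y} : Set G)) ∈ ((P.subtype hPC : Sylow p _) : Subgroup _) := h3
      rw [Sylow.coe_subtype, Subgroup.mem_subgroupOf] at h4
      exact h4
  have h2 : (n : G) ∈ cP P := by
    rw [← h.free y hy hy1]
    exact ⟨n.2, h1⟩
  intro a ha
  have ha' : (a : G) ∈ (P : Subgroup G) := by
    have h4 : a ∈ ((P.subtype hPC : Sylow p _) : Subgroup _) := ha
    rw [Sylow.coe_subtype, Subgroup.mem_subgroupOf] at h4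
    exact h4
  exact Subtype.ext (Subgroup.mem_centralizer_iff.1 h2 a ha')

theorem FH.idx_core (h : FH P m) {y : G} (hy : y ∈ (P : Subgroup G)) (hy1 : y ≠ 1) :
    ∃ k : ℕ, (pPrimeCore p (Subgroup.centralizer ({y} : Set G))).index = p ^ k := by
  haveI := Fintype.ofFinite (Subgroup.centralizer ({y} : Set G))
  exact pPrimeCore_index_of_npc (h.npc hy hy1)

theorem FH.ppow (P : Sylow p G) {y : G} (hy : y ∈ (P : Subgroup G)) : ∃ k, orderOf y = p ^ k := by
  obtain ⟨k, hk⟩ := IsPGroup.iff_orderOf.1 P.2 ⟨y, hy⟩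
  exact ⟨k, by rw [← hk, Subgroup.orderOf_mk]⟩

theorem FH.val (h : FH P m) (hM : IsPModular p M) {χ : IrrCharacter G} (hχ : χ ∈ principalBlock M G)
    {z y : G} (hz : IsPPart p z y) (hy : y ∈ (P : Subgroup G)) (hy1 : y ≠ 1) : (χ : G → ℂ) z = (χ : G → ℂ) y := by
  obtain ⟨v, hv1, hv2, hv3, hv4⟩ := hz
  rw [← hv1]
  apply principal_mul_core hM hv3 _ hχ
  have hvC : v ∈ Subgroup.centralizer ({y} : Set G) := Subgroup.mem_centralizer_singleton_iff.2 hv2.symm
  haveI := Fintype.ofFinite (Subgroup.centralizer ({y} : Set G))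
  refine ⟨⟨v, hvC⟩, ?_, rfl⟩
  apply regular_mem_core (h.idx_core hy hy1)
  rw [Subgroup.orderOf_mk]; exact hv4

theorem FH.fusion (h : FH P m) {y y' : G} (hy : y ∈ (P : Subgroup G)) (hy' : y' ∈ (P : Subgroup G))
    (hc : IsConj y y') : ∃ n ∈ nP P, n * y * n⁻¹ = y' := by
  haveI : IsMulCommutative (P : Subgroup G) := ⟨⟨fun a b => Subtype.ext (h.ab a a.2 b b.2)⟩⟩
  obtain ⟨g, hg⟩ := isConj_iff.1 hc
  obtain ⟨n, hn, hgn⟩ := Sylow.conj_eq_normalizer_conj_of_mem P y g⁻¹ hy (by rw [inv_inv, hg]; exact hy')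
  refine ⟨n⁻¹, inv_mem hn, ?_⟩
  rw [inv_inv, ← hgn, inv_inv, hg]

theorem FH.card_cent (h : FH P m) {y : G} (hy : y ∈ (P : Subgroup G)) :
    p ^ (Nat.card (Subgroup.centralizer ({y} : Set G))).factorization p = Nat.card (P : Subgroup G) := by
  have hPC := h.P_le_cent hy
  have h1 := (P.subtype hPC).card_eq_multiplicity
  rw [← h1]
  exact Nat.card_congr (Subgroup.subgroupOfEquivOfLe hPC).toEquiv

open Classical in
theorem FH.orth (h : FH P m) (hM : IsPModular p M) {y y' : G} (hy : y ∈ (P : Subgroup G)) (hy1 : y ≠ 1)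
    (hy' : y' ∈ (P : Subgroup G)) (hy1' : y' ≠ 1) :
    ∑ χ : IrrCharacter G, (if χ ∈ principalBlock M G then (χ : G → ℂ) y * conj ((χ : G → ℂ) y') else 0) =
      if ∃ n ∈ nP P, n * y * n⁻¹ = y' then (Nat.card (P : Subgroup G) : ℂ) else 0 := by
  haveI := IsPModular.isPrime hM
  have hpart : ∀ y : G, y ∈ (P : Subgroup G) → IsPPart p y y := fun y hy =>
    ⟨1, mul_one y, Commute.one_right y, FH.ppow P hy, by
      rw [orderOf_one]; exact hp.out.not_dvd_one⟩
  split_ifs with hc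
  · obtain ⟨n, hn, hny⟩ := hc
    haveI := Fintype.ofFinite (Subgroup.centralizer ({y} : Set G))
    have h1 := principal_sum_sq hM (FH.ppow P hy) (y := (1 : Subgroup.centralizer ({y} : Set G)))
      (by rw [orderOf_one]; exact hp.out.not_dvd_one)
    rw [principal_sum_pprime hM (h.idx_core hy hy1) (by rw [orderOf_one]; exact hp.out.not_dvd_one)] at h1
    rw [h.card_cent hy] at h1
    have h2 := congrArg (fun r : ℝ => (r : ℂ)) h1
    simp only [Complex.ofReal_natCast] at h2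
    rw [← h2, Complex.ofReal_sum]
    refine Finset.sum_congr rfl fun χ _ => ?_
    have h3 : (χ : G → ℂ) y' = (χ : G → ℂ) y := by
      rw [← hny]; exact IsCharacter.conj_eq (IsIrr.isCharacter χ.2) y n
    split_ifs
    · rw [h3, OneMemClass.coe_one, mul_one, Complex.mul_conj, Complex.normSq_eq_norm_sq]
    · simp
  · have h1 := block_orth hM (hpart y hy) (hpart y' hy') (fun hcj => hc (h.fusion hy hy' hcj))
      (isPBlock_principal (M := M) (G := G))
    refine Eq.trans (Finset.sum_congr rfl fun χ _ => ?_) h1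
    rw [IsCharacter.inv_eq (IsIrr.isCharacter χ.2)]

end Main

end CfsgH5
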