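import Cfsg.Agent.H5.FrobA
import Cfsg.Agent.H5.Weak

/-!
# The Gram matrix
-/

set_option autoImplicit false

open Cfsg MonoidAlgebra
open CfsgH4 hiding centralChar sum_conj regInner_symm

namespace CfsgH5

open scoped ComplexConjugate

section Main

variable {G : Type*} [Group G] [Fintype G] {p : ℕ} [hp : Fact p.Prime]
variable {P : Sylow p G} {m : ℕ} {M : Ideal AlgInt}

/-- conjugation by an element of the normalizer -/
def cjP (P : Sylow p G) (n : nP P) : (P : Subgroup G) →* (P : Subgroup G) where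
  toFun w := ⟨n * w * (n : G)⁻¹, (Subgroup.mem_normalizer_iff.1 n.2 w).1 w.2⟩
  map_one' := Subtype.ext (by simp)
  map_mul' a b := Subtype.ext (by
    show (n : G) * (a * b) * (n : G)⁻¹ = n * a * (n : G)⁻¹ * (n * b * (n : G)⁻¹)
    group)

theorem coe_cjP (n : nP P) (w : (P : Subgroup G)) : ((cjP P n w : (P : Subgroup G)) : G) = n * w * (n : G)⁻¹ := rfl

theorem cjP_mul (a b : nP P) (w : (P : Subgroup G)) : cjP P (a * b) w = cjP P a (cjP P b w) :=
  Subtype.ext (by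
    show ((a * b : nP P) : G) * w * ((a * b : nP P) : G)⁻¹ = a * (b * w * (b : G)⁻¹) * (a : G)⁻¹
    push_cast; group)

theorem cjP_one (w : (P : Subgroup G)) : cjP P 1 w = w := Subtype.ext (by
    show ((1 : nP P) : G) * w * ((1 : nP P) : G)⁻¹ = w
    simp)

theorem cjP_cent {n : nP P} (hn : (n : G) ∈ cP P) (w : (P : Subgroup G)) : cjP P n w = w :=
  Subtype.ext (by
    show (n : G) * w * (n : G)⁻¹ = w
    rw [← Subgroup.mem_centralizer_iff.1 hn w w.2, mul_inv_cancel_right])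

theorem FH.char_free (h : FH P m) {ψ : (P : Subgroup G) →* ℂˣ} (hψ : ψ ≠ 1) {n : nP P}
    (hn : ψ.comp (cjP P n) = ψ) : (n : G) ∈ cP P := by
  by_contra hnC
  apply hψ
  have hinj : Function.Injective (fun w : (P : Subgroup G) => w⁻¹ * cjP P n w) := by
    intro a b hab
    have h1 : (a : G)⁻¹ * (n * a * (n : G)⁻¹) = (b : G)⁻¹ * (n * b * (n : G)⁻¹) := congrArg Subtype.val hab
    by_contra hne
    apply hnC
    have hne' : (a : G) * (b : G)⁻¹ ≠ 1 := fun h' => hne (Subtype.ext (mul_inv_eq_one.1 h'))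
    rw [← h.free (a * (b : G)⁻¹) (mul_mem a.2 (inv_mem b.2)) hne']
    refine ⟨Subgroup.mem_centralizer_singleton_iff.2 ?_, n.2⟩
    have h2 : (n : G) * a * (n : G)⁻¹ = a * (b : G)⁻¹ * (n * b * (n : G)⁻¹) := by
      have := congrArg (fun z => (a : G) * z) h1
      simp only [mul_inv_cancel_left] at this
      rw [this]; group
    have h3 : (n : G) * b * (n : G)⁻¹ ∈ (P : Subgroup G) := (Subgroup.mem_normalizer_iff.1 n.2 b).1 b.2
    have h4 : (n : G) * (b : G)⁻¹ * (n : G)⁻¹ = ((n : G) * b * (n : G)⁻¹)⁻¹ := by group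
    have h5 : (n : G) * (a * (b : G)⁻¹) * (n : G)⁻¹ = a * (b : G)⁻¹ := by
      calc (n : G) * (a * (b : G)⁻¹) * (n : G)⁻¹ = ((n : G) * a * (n : G)⁻¹) * ((n : G) * (b : G)⁻¹ * (n : G)⁻¹) := by group
        _ = a * (b : G)⁻¹ * ((n : G) * b * (n : G)⁻¹) * ((n : G) * b * (n : G)⁻¹)⁻¹ := by rw [h2, h4]
        _ = a * (b : G)⁻¹ := mul_inv_cancel_right _ _
    calc (n : G) * (a * (b : G)⁻¹) = (n : G) * (a * (b : G)⁻¹) * (n : G)⁻¹ * n := by group
      _ = a * (b : G)⁻¹ * n := by rw [h5]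
  ext w
  obtain ⟨v, hv⟩ := (Finite.injective_iff_surjective.1 hinj) w
  have h2 : ψ (cjP P n v) = ψ v := DFunLike.congr_fun hn v
  rw [← hv]
  simp only [map_mul, map_inv, h2, inv_mul_cancel, MonoidHom.one_apply]

theorem card_nP (h : FH P m) : Nat.card (nP P) = m * Nat.card (cP P) := by
  have h1 := h.idx
  have hle : cP P ≤ nP P := Subgroup.centralizer_le_normalizer _
  rw [Subgroup.relIndex] at h1
  rw [← h1, ← Subgroup.index_mul_card ((cP P).subgroupOf (nP P))]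
  congr 1
  exact Nat.card_congr (Subgroup.subgroupOfEquivOfLe hle).toEquiv

theorem card_coset_char (h : FH P m) {ψ ψ' : (P : Subgroup G) →* ℂˣ} (hψ : ψ ≠ 1)
    (hex : ∃ n : nP P, ψ'.comp (cjP P n) = ψ) : Nat.card {n : nP P // ψ'.comp (cjP P n) = ψ} = Nat.card (cP P) := by
  obtain ⟨n0, hn0⟩ := hex
  have hle : cP P ≤ nP P := Subgroup.centralizer_le_normalizer _
  apply Nat.card_congr
  refine ⟨fun n => ⟨(n.1 : G) * (n0 : G)⁻¹, ?_⟩, fun c => ⟨⟨(c : G), hle c.2⟩ * n0, ?_⟩, ?_, ?_⟩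
  · have h1 : ψ'.comp (cjP P (n.1 * n0⁻¹)) = ψ' := by
      ext w
      have h2 : ψ' (cjP P n.1 (cjP P n0⁻¹ w)) = ψ (cjP P n0⁻¹ w) := DFunLike.congr_fun n.2 _
      have h3 : ψ' (cjP P n0 (cjP P n0⁻¹ w)) = ψ (cjP P n0⁻¹ w) := DFunLike.congr_fun hn0 _
      rw [← cjP_mul, mul_inv_cancel, cjP_one] at h3
      show ((ψ' (cjP P (n.1 * n0⁻¹) w) : ℂˣ) : ℂ) = _
      rw [cjP_mul, h2, h3]
    have hψ' : ψ' ≠ 1 := by
      rintro rfl
      exact hψ hn0.symm
    exact h.char_free hψ' h1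
  · ext w
    show ((ψ' (cjP P (⟨(c : G), hle c.2⟩ * n0) w) : ℂˣ) : ℂ) = _
    rw [cjP_mul, cjP_cent (by exact c.2)]
    exact congrArg _ (DFunLike.congr_fun hn0 w)
  · intro n
    apply Subtype.ext; apply Subtype.ext
    show (n.1 : G) * (n0 : G)⁻¹ * n0 = n.1
    group
  · intro c
    apply Subtype.ext
    show (c : G) * n0 * (n0 : G)⁻¹ = c
    group

theorem card_coset_elt (h : FH P m) {y y' : G} (hy : y ∈ (P : Subgroup G)) (hy1 : y ≠ 1)
    (hex : ∃ n ∈ nP P, n * y * n⁻¹ = y') :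
    Nat.card {n : nP P // (n : G) * y * (n : G)⁻¹ = y'} = Nat.card (cP P) := by
  obtain ⟨n0, hn0, hn0y⟩ := hex
  have hle : cP P ≤ nP P := Subgroup.centralizer_le_normalizer _
  have hfree := h.free y hy hy1
  apply Nat.card_congr
  refine ⟨fun n => ⟨n0⁻¹ * (n.1 : G), ?_⟩, fun c => ⟨⟨n0 * (c : G), mul_mem hn0 (hle c.2)⟩, ?_⟩, ?_, ?_⟩
  · rw [← hfree]
    refine ⟨Subgroup.mem_centralizer_singleton_iff.2 ?_, (nP P).mul_mem ((nP P).inv_mem hn0) n.1.2⟩
    have h1 : (n.1 : G) * y * (n.1 : G)⁻¹ = n0 * y * n0⁻¹ := n.2.trans hn0y.symm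
    calc n0⁻¹ * (n.1 : G) * y = n0⁻¹ * (n.1 * y * (n.1 : G)⁻¹) * n.1 := by group
      _ = n0⁻¹ * (n0 * y * n0⁻¹) * n.1 := by rw [h1]
      _ = y * (n0⁻¹ * n.1) := by group
  · show n0 * (c : G) * y * (n0 * (c : G))⁻¹ = y'
    rw [← hn0y]
    calc n0 * (c : G) * y * (n0 * (c : G))⁻¹ = n0 * ((c : G) * y) * (c : G)⁻¹ * n0⁻¹ := by group
      _ = n0 * (y * c) * (c : G)⁻¹ * n0⁻¹ := by
        rw [← Subgroup.mem_centralizer_iff.1 c.2 y hy]
      _ = n0 * y * n0⁻¹ := by group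
  · intro n
    apply Subtype.ext; apply Subtype.ext
    show n0 * (n0⁻¹ * (n.1 : G)) = n.1
    group
  · intro c
    apply Subtype.ext
    show n0⁻¹ * (n0 * (c : G)) = c
    group

open Classical in
/-- the coefficient `[χ_P, 1] - [χ_P, ψ]` -/
theorem coef_formula (ψ : (P : Subgroup G) →* ℂˣ) (f : G → ℂ) [Fintype (P : Subgroup G)] :
    classInner (fun w : (P : Subgroup G) => f w) (lch 1) - classInner (fun w : (P : Subgroup G) => f w) (lch ψ) =
      (Nat.card (P : Subgroup G) : ℂ)⁻¹ * ∑ w : (P : Subgroup G), f w * (1 - conj (ψ w : ℂ)) := by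
  rw [classInner_def, classInner_def, ← mul_sub, ← Finset.sum_sub_distrib]
  congr 1
  refine Finset.sum_congr rfl fun w _ => ?_
  unfold lch
  simp only [MonoidHom.one_apply, Units.val_one, map_one]
  ring

open Classical in
/-- the Gram matrix -/
theorem gram (h : FH P m) (hM : IsPModular p M) [Fintype (P : Subgroup G)] {ψ ψ' : (P : Subgroup G) →* ℂˣ}
    (hψ : ψ ≠ 1) (hψ' : ψ' ≠ 1) (c : IrrCharacter G → ((P : Subgroup G) →* ℂˣ) → ℂ)
    (hc : ∀ χ ψ, c χ ψ = (Nat.card (P : Subgroup G) : ℂ)⁻¹ *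
      ∑ w : (P : Subgroup G), (χ : G → ℂ) w * (1 - conj (ψ w : ℂ))) :
    ∑ χ : IrrCharacter G, (if χ ∈ principalBlock M G then c χ ψ * conj (c χ ψ') else 0) =
      m + if ∃ n : nP P, ψ'.comp (cjP P n) = ψ then 1 else 0 := by
  obtain ⟨q, hq⟩ : ∃ q, q = (Nat.card (P : Subgroup G) : ℂ) := ⟨_, rfl⟩
  have hq0 : q ≠ 0 := by rw [hq]; exact card_ne_zero _
  have hC0 : (Nat.card (cP P) : ℂ) ≠ 0 := card_ne_zero _
  haveI := Fintype.ofFinite (nP P)
  -- expand
  have h1 : ∀ χ : IrrCharacter G, (if χ ∈ principalBlock M G then c χ ψ * conj (c χ ψ') else 0) =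
      q⁻¹ * q⁻¹ * ∑ w : (P : Subgroup G), ∑ w' : (P : Subgroup G), (1 - conj (ψ w : ℂ)) * (1 - (ψ' w' : ℂ)) *
        (if χ ∈ principalBlock M G then (χ : G → ℂ) w * conj ((χ : G → ℂ) w') else 0) := by
    intro χ
    split_ifs with hχ
    · rw [hc, hc, map_mul, map_inv₀, Complex.conj_natCast, map_sum, ← hq]
      rw [show q⁻¹ * (∑ w : (P : Subgroup G), (χ : G → ℂ) w * (1 - conj (ψ w : ℂ))) *
        (q⁻¹ * ∑ x : (P : Subgroup G), conj ((χ : G → ℂ) x * (1 - conj (ψ' x : ℂ)))) =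
        q⁻¹ * q⁻¹ * ((∑ w : (P : Subgroup G), (χ : G → ℂ) w * (1 - conj (ψ w : ℂ))) *
        ∑ x : (P : Subgroup G), conj ((χ : G → ℂ) x * (1 - conj (ψ' x : ℂ)))) by ring, Finset.sum_mul_sum]
      congr 1
      refine Finset.sum_congr rfl fun w _ => Finset.sum_congr rfl fun w' _ => ?_
      rw [map_mul, map_sub, map_one, Complex.conj_conj]; ring
    · simp
  rw [Finset.sum_congr rfl fun χ _ => h1 χ, ← Finset.mul_sum, Finset.sum_comm]
  have h2 : ∀ w : (P : Subgroup G), (∑ χ : IrrCharacter G, ∑ w' : (P : Subgroup G),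
      (1 - conj (ψ w : ℂ)) * (1 - (ψ' w' : ℂ)) *
        (if χ ∈ principalBlock M G then (χ : G → ℂ) w * conj ((χ : G → ℂ) w') else 0)) =
      q * (Nat.card (cP P) : ℂ)⁻¹ * ∑ n : nP P, (1 - conj (ψ w : ℂ)) * (1 - ((ψ'.comp (cjP P n)) w : ℂ)) := by
    intro w
    rw [Finset.sum_comm]
    by_cases hw1 : w = 1
    · subst hw1
      simp only [map_one, Units.val_one, sub_self, zero_mul, Finset.sum_const_zero, mul_zero]
    have hwG : (w : G) ≠ 1 := fun h' => hw1 (Subtype.ext h')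
    have h3 : ∀ w' : (P : Subgroup G), (∑ χ : IrrCharacter G, (1 - conj (ψ w : ℂ)) * (1 - (ψ' w' : ℂ)) *
        (if χ ∈ principalBlock M G then (χ : G → ℂ) w * conj ((χ : G → ℂ) w') else 0)) =
        q * (Nat.card (cP P) : ℂ)⁻¹ * ∑ n : nP P, (1 - conj (ψ w : ℂ)) * (1 - (ψ' w' : ℂ)) *
          (if cjP P n w = w' then 1 else 0) := by
      intro w'
      rw [← Finset.mul_sum, ← Finset.mul_sum]
      by_cases hw1' : w' = 1
      · subst hw1'
        simp only [map_one, Units.val_one, sub_self, mul_zero, zero_mul]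
      have hwG' : (w' : G) ≠ 1 := fun h' => hw1' (Subtype.ext h')
      rw [h.orth hM w.2 hwG w'.2 hwG', Finset.sum_ite, Finset.sum_const_zero, add_zero, Finset.sum_const,
        nsmul_eq_mul, mul_one]
      have h4 : ((Finset.univ.filter fun n : nP P => cjP P n w = w').card : ℂ) =
          (Nat.card {n : nP P // (n : G) * w * (n : G)⁻¹ = w'} : ℂ) := by
        rw [Nat.card_eq_fintype_card, Fintype.card_subtype]
        congr 2
        ext n
        simp only [Finset.mem_filter, Finset.mem_univ, true_and]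
        exact ⟨fun h' => congrArg Subtype.val h', fun h' => Subtype.ext h'⟩
      rw [h4]
      split_ifs with hex
      · rw [card_coset_elt h w.2 hwG hex, ← hq]
        field_simp
      · have h5 : Nat.card {n : nP P // (n : G) * w * (n : G)⁻¹ = w'} = 0 := by
          rw [Nat.card_eq_zero]; left
          exact ⟨fun n => hex ⟨n.1, n.1.2, n.2⟩⟩
        rw [h5]; simp
    rw [Finset.sum_congr rfl fun w' _ => h3 w', ← Finset.mul_sum, Finset.sum_comm]
    congr 1
    refine Finset.sum_congr rfl fun n _ => ?_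
    rw [Finset.sum_eq_single (cjP P n w)]
    · rw [if_pos rfl, mul_one]; rfl
    · intro b _ hb; rw [if_neg (Ne.symm hb), mul_zero]
    · intro h'; exact absurd (Finset.mem_univ _) h'
  rw [Finset.sum_congr rfl fun w _ => h2 w, ← Finset.mul_sum, Finset.sum_comm]
  have hne : ∀ n : nP P, ψ'.comp (cjP P n) ≠ 1 := by
    intro n hn
    apply hψ'
    ext w
    have h4 := DFunLike.congr_fun hn (cjP P n⁻¹ w)
    have h5 : ψ' (cjP P n (cjP P n⁻¹ w)) = 1 := h4
    rw [← cjP_mul, mul_inv_cancel, cjP_one] at h5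
    rw [h5]; rfl
  have h6 : ∀ n : nP P, (∑ w : (P : Subgroup G), (1 - conj (ψ w : ℂ)) * (1 - ((ψ'.comp (cjP P n)) w : ℂ))) =
      q * (1 + if ψ'.comp (cjP P n) = ψ then 1 else 0) := by
    intro n
    rw [sum_one_sub hψ (hne n), hq]
  rw [Finset.sum_congr rfl fun n _ => h6 n, ← Finset.mul_sum, Finset.sum_add_distrib, Finset.sum_const,
    nsmul_eq_mul, mul_one, Finset.card_univ, ← Nat.card_eq_fintype_card, card_nP h, Finset.sum_ite,
    Finset.sum_const_zero, add_zero, Finset.sum_const, nsmul_eq_mul, mul_one]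
  have h7 : ((Finset.univ.filter fun n : nP P => ψ'.comp (cjP P n) = ψ).card : ℂ) =
      (Nat.card {n : nP P // ψ'.comp (cjP P n) = ψ} : ℂ) := by
    rw [Nat.card_eq_fintype_card, Fintype.card_subtype]
  rw [h7]
  split_ifs with hex
  · rw [card_coset_char h hψ hex]
    push_cast
    field_simp
  · have h5 : Nat.card {n : nP P // ψ'.comp (cjP P n) = ψ} = 0 := by
      rw [Nat.card_eq_zero]; left
      exact ⟨fun n => hex ⟨n.1, n.2⟩⟩
    rw [h5]
    push_cast
    field_simp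
    ring

end Main

end CfsgH5
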