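import Cfsg.Agent.H5.FrobB

/-!
# The structure of the principal block
-/

set_option autoImplicit false

open Cfsg MonoidAlgebra
open CfsgH4 hiding centralChar sum_conj regInner_symm

namespace CfsgH5

open scoped ComplexConjugate

section Main

variable {G : Type*} [Group G] [Fintype G] {p : ℕ} [hp : Fact p.Prime]
variable {P : Sylow p G} {m : ℕ} {M : Ideal AlgInt}

/-- the coefficient -/
noncomputable def cc (P : Sylow p G) [Fintype (P : Subgroup G)] (χ : G → ℂ) (ψ : (P : Subgroup G) →* ℂˣ) : ℂ :=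
  (Nat.card (P : Subgroup G) : ℂ)⁻¹ * ∑ w : (P : Subgroup G), χ w * (1 - conj (ψ w : ℂ))

theorem cc_eq [Fintype (P : Subgroup G)] (χ : G → ℂ) (ψ : (P : Subgroup G) →* ℂˣ) :
    cc P χ ψ = classInner (fun w : (P : Subgroup G) => χ w) (lch 1) -
      classInner (fun w : (P : Subgroup G) => χ w) (lch ψ) := by
  rw [coef_formula]; rfl

theorem cc_int [Fintype (P : Subgroup G)] (χ : IrrCharacter G) (ψ : (P : Subgroup G) →* ℂˣ) :
    ∃ z : ℤ, cc P (χ : G → ℂ) ψ = z := by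
  obtain ⟨a, ha⟩ := IsCharacter.inner_irr_nat (isCharacter_restrict (P : Subgroup G) (IsIrr.isCharacter χ.2))
    (isCharacter_one_dim (1 : (P : Subgroup G) →* ℂˣ))
  obtain ⟨b, hb⟩ := IsCharacter.inner_irr_nat (isCharacter_restrict (P : Subgroup G) (IsIrr.isCharacter χ.2))
    (isCharacter_one_dim ψ)
  refine ⟨(a : ℤ) - b, ?_⟩
  rw [cc_eq]
  push_cast
  rw [← ha, ← hb]
  rfl

theorem cc_conj [Fintype (P : Subgroup G)] (χ : IrrCharacter G) {ψ ψ' : (P : Subgroup G) →* ℂˣ} {n : nP P}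
    (h : ψ'.comp (cjP P n) = ψ) : cc P (χ : G → ℂ) ψ = cc P (χ : G → ℂ) ψ' := by
  unfold cc
  congr 1
  have hbij : Function.Bijective (cjP P n) := by
    refine ⟨fun a b hab => ?_, fun b => ⟨cjP P n⁻¹ b, ?_⟩⟩
    · have h1 := congrArg (cjP P n⁻¹) hab
      rwa [← cjP_mul, ← cjP_mul, inv_mul_cancel, cjP_one, cjP_one] at h1
    · rw [← cjP_mul, mul_inv_cancel, cjP_one]
  refine Fintype.sum_bijective (cjP P n) hbij _ _ fun w => ?_
  rw [coe_cjP, IsCharacter.conj_eq (IsIrr.isCharacter χ.2) (w : G) (n : G), ← h]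
  rfl

theorem orbit_card (h : FH P m) {ψ : (P : Subgroup G) →* ℂˣ} (hψ : ψ ≠ 1) :
    Nat.card {ψ' : (P : Subgroup G) →* ℂˣ // ∃ n : nP P, ψ'.comp (cjP P n) = ψ} = m := by
  classical
  haveI := Fintype.ofFinite (nP P)
  haveI : Finite ((P : Subgroup G) →* ℂˣ) := finite_hom _
  haveI := Fintype.ofFinite ((P : Subgroup G) →* ℂˣ)
  have hC0 : 0 < Nat.card (cP P) := Nat.card_pos
  have h1 := Finset.card_eq_sum_card_fiberwise (s := (Finset.univ : Finset (nP P)))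
    (t := (Finset.univ : Finset ((P : Subgroup G) →* ℂˣ)))
    (f := fun n => ψ.comp (cjP P n⁻¹)) (fun n _ => Finset.mem_coe.2 (Finset.mem_univ _))
  have h2 : ∀ ψ' : (P : Subgroup G) →* ℂˣ,
      ((Finset.univ : Finset (nP P)).filter fun n => ψ.comp (cjP P n⁻¹) = ψ').card =
      if ∃ n : nP P, ψ'.comp (cjP P n) = ψ then Nat.card (cP P) else 0 := by
    intro ψ'
    have h3 : ((Finset.univ : Finset (nP P)).filter fun n => ψ.comp (cjP P n⁻¹) = ψ').card =
        Nat.card {n : nP P // ψ'.comp (cjP P n) = ψ} := by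
      rw [Nat.card_eq_fintype_card, Fintype.card_subtype]
      congr 1
      ext n
      simp only [Finset.mem_filter, Finset.mem_univ, true_and]
      constructor
      · rintro rfl
        ext w
        show ((ψ (cjP P n⁻¹ (cjP P n w)) : ℂˣ) : ℂ) = _
        rw [← cjP_mul, inv_mul_cancel, cjP_one]
      · rintro rfl
        ext w
        show ((ψ' (cjP P n (cjP P n⁻¹ w)) : ℂˣ) : ℂ) = _
        rw [← cjP_mul, mul_inv_cancel, cjP_one]
    rw [h3]
    split_ifs with hex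
    · exact card_coset_char h hψ hex
    · rw [Nat.card_eq_zero]; left
      exact ⟨fun n => hex ⟨n.1, n.2⟩⟩
  rw [Finset.sum_congr rfl fun ψ' _ => h2 ψ', Finset.sum_ite, Finset.sum_const_zero, add_zero,
    Finset.sum_const, smul_eq_mul, Finset.card_univ, ← Nat.card_eq_fintype_card, card_nP h] at h1
  have h4 := Nat.eq_of_mul_eq_mul_right hC0 h1
  rw [Nat.card_eq_fintype_card, Fintype.card_subtype]
  exact h4.symm

theorem sum_block_eq {B : Set (IrrCharacter G)} [DecidablePred (· ∈ B)] [Fintype {χ : IrrCharacter G // χ ∈ B}]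
    {A : Type*} [AddCommMonoid A] (F : IrrCharacter G → A) :
    ∑ χ : IrrCharacter G, (if χ ∈ B then F χ else 0) = ∑ χ : {χ : IrrCharacter G // χ ∈ B}, F χ.1 := by
  rw [← Finset.sum_filter]
  symm
  exact (Finset.sum_subtype _ (fun x => by simp) F).symm

theorem sum_one_sub_conj_zero {f : G → ℂ} [Fintype (P : Subgroup G)] (ψ : (P : Subgroup G) →* ℂˣ)
    (hf : ∀ w : (P : Subgroup G), w ≠ 1 → f w = 0) : cc P f ψ = 0 := by
  unfold cc
  rw [Finset.sum_eq_zero, mul_zero]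
  intro w _
  by_cases hw : w = 1
  · rw [hw, map_one, Units.val_one, map_one, sub_self, mul_zero]
  · rw [hf w hw, zero_mul]

open Classical in
theorem reg_rel (hM : IsPModular p M) [Fintype (P : Subgroup G)] (ψ : (P : Subgroup G) →* ℂˣ)
    {g : G} (hg : ¬ p ∣ orderOf g) :
    ∑ χ : IrrCharacter G, (if χ ∈ principalBlock M G then cc P (χ : G → ℂ) ψ * (χ : G → ℂ) g else 0) = 0 := by
  haveI := IsPModular.isPrime hM
  have h1 : ∑ χ : IrrCharacter G, (if χ ∈ principalBlock M G then cc P (χ : G → ℂ) ψ * (χ : G → ℂ) g else 0) =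
      cc P (fun x => ∑ χ : IrrCharacter G, if χ ∈ principalBlock M G then (χ : G → ℂ) g * (χ : G → ℂ) x else 0) ψ := by
    unfold cc
    have h2 : ∀ χ : IrrCharacter G, (if χ ∈ principalBlock M G then ((Nat.card (P : Subgroup G) : ℂ)⁻¹ *
        ∑ w : (P : Subgroup G), (χ : G → ℂ) w * (1 - conj (ψ w : ℂ))) * (χ : G → ℂ) g else 0) =
        (Nat.card (P : Subgroup G) : ℂ)⁻¹ * ∑ w : (P : Subgroup G),
          (if χ ∈ principalBlock M G then (χ : G → ℂ) g * (χ : G → ℂ) w else 0) * (1 - conj (ψ w : ℂ)) := by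
      intro χ
      split_ifs
      · rw [mul_assoc, Finset.sum_mul]
        congr 1
        exact Finset.sum_congr rfl fun w _ => by ring
      · simp
    rw [Finset.sum_congr rfl fun χ _ => h2 χ, ← Finset.mul_sum, Finset.sum_comm]
    congr 1
    refine Finset.sum_congr rfl fun w _ => ?_
    rw [Finset.sum_mul]
  rw [h1]
  apply sum_one_sub_conj_zero
  intro w hw
  have hwo : p ∣ orderOf ((w : G)⁻¹) := by
    rw [orderOf_inv, Subgroup.orderOf_coe]
    obtain ⟨k, hk⟩ := IsPGroup.iff_orderOf.1 P.2 w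
    rw [hk]
    apply dvd_pow_self
    rintro rfl
    rw [pow_zero, orderOf_eq_one_iff] at hk
    exact hw hk
  have h3 := weak_orth hM (inS_eSet (isPBlock_principal (M := M) (G := G))) hg hwo
  rw [inv_inv] at h3
  exact h3

/-- the data -/
structure FD (M : Ideal AlgInt) (P : Sylow p G) (m : ℕ) (w : IrrCharacter G → ℤ) (d δ : ℤ)
    (ζ : ((P : Subgroup G) →* ℂˣ) → IrrCharacter G) : Prop where
  sgn : δ = 1 ∨ δ = -1
  mem : ∀ ψ, ζ ψ ∈ principalBlock M G
  rel : ∀ ψ ψ' : (P : Subgroup G) →* ℂˣ, ψ ≠ 1 → ψ' ≠ 1 → (ζ ψ = ζ ψ' ↔ ∃ n : nP P, ψ'.comp (cjP P n) = ψ)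
  wd : ∀ ψ, w (ζ ψ) = d
  norm : ∑ χ : IrrCharacter G, (open Classical in if χ ∈ principalBlock M G then w χ ^ 2 else 0) = m + 2 * δ * d
  ex : ∀ χ : IrrCharacter G, (∃ ψ, ζ ψ = χ) → ∃ ψ, ψ ≠ 1 ∧ ζ ψ = χ
  val : ∀ [Fintype (P : Subgroup G)], ∀ χ ∈ principalBlock M G, ∀ ψ, ψ ≠ 1 →
    cc P (χ : G → ℂ) ψ = w χ - δ * (open Classical in if χ = ζ ψ then 1 else 0)

theorem FH.exists_nonrel (h : FH P m) (hm : m + 1 < Nat.card (P : Subgroup G)) :
    ∃ ψ ψ' : (P : Subgroup G) →* ℂˣ, ψ ≠ 1 ∧ ψ' ≠ 1 ∧ ¬ ∃ n : nP P, ψ'.comp (cjP P n) = ψ := by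
  classical
  haveI : Finite ((P : Subgroup G) →* ℂˣ) := finite_hom _
  haveI := Fintype.ofFinite ((P : Subgroup G) →* ℂˣ)
  haveI := Fintype.ofFinite (P : Subgroup G)
  have hcard : Nat.card ((P : Subgroup G) →* ℂˣ) = Nat.card (P : Subgroup G) := by
    have hcom : commutator (P : Subgroup G) = ⊥ := by
      rw [commutator_eq_bot_iff_center_eq_top, eq_top_iff]
      intro x _
      exact Subgroup.mem_center_iff.2 fun g => Subtype.ext (h.ab g g.2 x x.2)
    rw [card_hom_units, hcom, Subgroup.index_bot]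
  have hne : ∃ ψ : (P : Subgroup G) →* ℂˣ, ψ ≠ 1 := by
    by_contra hc
    push Not at hc
    have : Nat.card ((P : Subgroup G) →* ℂˣ) ≤ 1 := by
      rw [Finite.card_le_one_iff_subsingleton]
      exact ⟨fun a b => (hc a).trans (hc b).symm⟩
    omega
  obtain ⟨ψ, hψ⟩ := hne
  by_contra hc
  push Not at hc
  have h1 : ∀ ψ' : (P : Subgroup G) →* ℂˣ, ψ' ≠ 1 → ∃ n : nP P, ψ'.comp (cjP P n) = ψ := fun ψ' hψ' => hc ψ ψ' hψ hψ'
  have h2 := orbit_card h hψ
  have h3 : Nat.card {ψ' : (P : Subgroup G) →* ℂˣ // ψ' ≠ 1} ≤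
      Nat.card {ψ' : (P : Subgroup G) →* ℂˣ // ∃ n : nP P, ψ'.comp (cjP P n) = ψ} :=
    Nat.card_le_card_of_injective (fun x => ⟨x.1, h1 x.1 x.2⟩) (fun a b hab => Subtype.ext (congrArg (fun z => z.1) hab))
  have h4 : Nat.card {ψ' : (P : Subgroup G) →* ℂˣ // ψ' ≠ 1} = Nat.card (P : Subgroup G) - 1 := by
    rw [← hcard, Nat.card_eq_fintype_card, Nat.card_eq_fintype_card, Fintype.card_subtype_compl,
      Fintype.card_subtype_eq]
  omega

theorem FH.main (h : FH P m) (hM : IsPModular p M) (hm : m + 1 < Nat.card (P : Subgroup G)) :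
    ∃ (w : IrrCharacter G → ℤ) (d δ : ℤ) (ζ : ((P : Subgroup G) →* ℂˣ) → IrrCharacter G), FD M P m w d δ ζ := by
  classical
  haveI := IsPModular.isPrime hM
  haveI : Finite ((P : Subgroup G) →* ℂˣ) := finite_hom _
  haveI := Fintype.ofFinite ((P : Subgroup G) →* ℂˣ)
  haveI := Fintype.ofFinite (P : Subgroup G)
  haveI : Fintype {χ : IrrCharacter G // χ ∈ principalBlock M G} := Fintype.ofFinite _
  have hint := fun (χ : IrrCharacter G) ψ => cc_int (P := P) χ ψ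
  choose z hz using hint
  let I := {ψ : (P : Subgroup G) →* ℂˣ // ψ ≠ 1}
  let v : I → {χ : IrrCharacter G // χ ∈ principalBlock M G} → ℤ := fun ψ χ => z χ.1 ψ.1
  have hgram : ∀ i j : I, ∑ x, v i x * v j x = (m : ℤ) + if ∃ n : nP P, (j.1).comp (cjP P n) = i.1 then 1 else 0 := by
    intro i j
    have h1 := gram h hM i.2 j.2 (fun χ ψ => cc P (χ : G → ℂ) ψ) (fun χ ψ => rfl)
    rw [sum_block_eq] at h1
    have h2 : ((∑ x, v i x * v j x : ℤ) : ℂ) =
        ((m : ℤ) + if ∃ n : nP P, (j.1).comp (cjP P n) = i.1 then 1 else 0 : ℤ) := by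
      push_cast
      rw [← h1]
      refine Finset.sum_congr rfl fun χ _ => ?_
      rw [hz, hz, map_intCast]
    exact_mod_cast h2
  have hrel : ∀ i j : I, (∃ n : nP P, (j.1).comp (cjP P n) = i.1) → v i = v j := by
    rintro i j ⟨n, hn⟩
    funext χ
    have h1 := cc_conj χ.1 hn
    rw [hz, hz] at h1
    exact_mod_cast h1
  have hself : ∀ i : I, ∃ n : nP P, (i.1).comp (cjP P n) = i.1 := fun i =>
    ⟨1, by ext w; show ((i.1 (cjP P 1 w) : ℂˣ) : ℂ) = _; rw [cjP_one]⟩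
  have hn : ∀ i, ∑ x, v i x ^ 2 = (m : ℤ) + 1 := by
    intro i
    have h1 := hgram i i
    rw [if_pos (hself i)] at h1
    rw [← h1]
    exact Finset.sum_congr rfl fun x _ => sq _
  have hnrel : ∀ i j : I, v i = v j → ∃ n : nP P, (j.1).comp (cjP P n) = i.1 := by
    intro i j hij
    by_contra hc
    have h1 := hgram i j
    rw [if_neg hc, hij] at h1
    have h2 := hn j
    simp only [sq] at h2
    omega
  have ho : ∀ i j, v i ≠ v j → ∑ x, v i x * v j x = (m : ℤ) := by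
    intro i j hij
    rw [hgram, if_neg (fun hc => hij (hrel i j hc)), add_zero]
  have h0 : ∀ i, ∑ x : {χ : IrrCharacter G // χ ∈ principalBlock M G}, v i x * ((charDegree (x.1 : G → ℂ) : ℕ) : ℤ) = 0 := by
    intro i
    have h1 := reg_rel hM i.1 (g := 1) (by rw [orderOf_one]; exact hp.out.not_dvd_one)
    rw [sum_block_eq] at h1
    have h2 : ((∑ x : {χ : IrrCharacter G // χ ∈ principalBlock M G}, v i x * ((charDegree (x.1 : G → ℂ) : ℕ) : ℤ) : ℤ) : ℂ) = 0 := by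
      push_cast
      rw [← h1]
      refine Finset.sum_congr rfl fun χ _ => ?_
      rw [hz, (IsIrr.one_eq χ.1.2).1]
    exact_mod_cast h2
  obtain ⟨ψ0, ψ1, hψ0, hψ1, hnr⟩ := h.exists_nonrel hm
  obtain ⟨w, δ, η, hδ, hv⟩ := coh_lemma v (fun x => charDegree (x.1 : G → ℂ)) (fun x => (IsIrr.one_eq x.1.2).2) m
    hn ho h0 ⟨ψ1, hψ1⟩ ⟨ψ0, hψ0⟩ (fun hc => hnr (hnrel _ _ hc))
  obtain ⟨d, hd1, hd2⟩ := coh_d v m hn ⟨ψ1, hψ1⟩ w δ η hδ hv
  have hδ0 : δ ≠ 0 := by rcases hδ with h' | h' <;> rw [h'] <;> norm_num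
  refine ⟨fun χ => if hχ : χ ∈ principalBlock M G then w ⟨χ, hχ⟩ else 0, d, δ,
    fun ψ => if hψ : ψ ≠ 1 then (η ⟨ψ, hψ⟩).1 else (η ⟨ψ1, hψ1⟩).1, ?_⟩
  refine ⟨hδ, ?_, ?_, ?_, ?_, ?_, ?_⟩
  · intro ψ
    split_ifs
    · exact (η _).2
    · exact (η _).2
  · intro ψ ψ' hψ hψ'
    rw [dif_pos hψ, dif_pos hψ']
    have e1 : v ⟨ψ, hψ⟩ = v ⟨ψ', hψ'⟩ ↔ η ⟨ψ, hψ⟩ = η ⟨ψ', hψ'⟩ := by
      constructor
      · intro h1
        have h2 := congrFun h1 (η ⟨ψ, hψ⟩)
        rw [hv, hv, if_pos rfl] at h2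
        by_contra hc
        rw [if_neg hc] at h2
        apply hδ0; linarith
      · intro h1
        funext x
        rw [hv, hv, h1]
    constructor
    · intro h1
      exact hnrel _ _ (e1.2 (Subtype.ext h1))
    · intro h1
      exact congrArg Subtype.val (e1.1 (hrel ⟨ψ, hψ⟩ ⟨ψ', hψ'⟩ h1))
  · intro ψ
    have : ∀ i, (if hχ : (η i).1 ∈ principalBlock M G then w ⟨(η i).1, hχ⟩ else 0) = d := by
      intro i
      rw [dif_pos (η i).2]; exact hd1 i
    split_ifs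
    · exact hd1 _
    · exact absurd (η _).2 (by assumption)
    · exact hd1 _
    · exact absurd (η _).2 (by assumption)
  · rw [sum_block_eq, ← hd2]
    refine Finset.sum_congr rfl fun χ _ => ?_
    rw [dif_pos χ.2]
  · rintro χ ⟨ψ, hψ⟩
    by_cases h1 : ψ = 1
    · refine ⟨ψ1, hψ1, ?_⟩
      rw [dif_pos hψ1, ← hψ, dif_neg (not_not.2 h1)]
    · exact ⟨ψ, h1, hψ⟩
  · intro inst χ hχ ψ hψ
    have h1 := hz χ ψ
    have h2 := hv ⟨ψ, hψ⟩ ⟨χ, hχ⟩
    have h3 : z χ ψ = w ⟨χ, hχ⟩ - δ * (if (⟨χ, hχ⟩ : {χ : IrrCharacter G // χ ∈ principalBlock M G}) = η ⟨ψ, hψ⟩ then 1 else 0) := h2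
    rw [dif_pos hχ, dif_pos hψ]
    have h4 : ((⟨χ, hχ⟩ : {χ : IrrCharacter G // χ ∈ principalBlock M G}) = η ⟨ψ, hψ⟩) = (χ = (η ⟨ψ, hψ⟩).1) :=
      propext ⟨fun h' => congrArg Subtype.val h', fun h' => Subtype.ext h'⟩
    have h5 : cc P (χ : G → ℂ) ψ = (z χ ψ : ℂ) := by rw [← h1]; congr; exact Subsingleton.elim _ _
    rw [h5, h3]
    push_cast
    congr 2
    simp only [h4]

end Main

end CfsgH5
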