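import Cfsg.Agent.H5.FrobC

/-!
# Values of the characters of the principal block
-/

set_option autoImplicit false

open Cfsg MonoidAlgebra
open CfsgH4 hiding centralChar sum_conj regInner_symm

namespace CfsgH5

open scoped ComplexConjugate

section Main

variable {G : Type*} [Group G] [Fintype G] {p : ℕ} [hp : Fact p.Prime]
variable {P : Sylow p G} {m : ℕ} {M : Ideal AlgInt}
variable {w : IrrCharacter G → ℤ} {d δ : ℤ} {ζ : ((P : Subgroup G) →* ℂˣ) → IrrCharacter G}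

/-- the exceptional characters -/
def YY (ζ : ((P : Subgroup G) →* ℂˣ) → IrrCharacter G) : Set (IrrCharacter G) := {χ | ∃ ψ, ψ ≠ 1 ∧ ζ ψ = χ}

/-- the other characters -/
def XX (M : Ideal AlgInt) (ζ : ((P : Subgroup G) →* ℂˣ) → IrrCharacter G) : Set (IrrCharacter G) :=
  principalBlock M G \ YY ζ

theorem FH.pab (h : FH P m) (a b : (P : Subgroup G)) : a * b = b * a := Subtype.ext (h.ab a a.2 b b.2)

theorem cc_one [Fintype (P : Subgroup G)] (χ : G → ℂ) : cc P χ 1 = 0 := by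
  unfold cc
  rw [Finset.sum_eq_zero, mul_zero]
  intro w _
  rw [MonoidHom.one_apply, Units.val_one, map_one, sub_self, mul_zero]

open Classical in
theorem char_expand (h : FH P m) [Fintype (P : Subgroup G)] [Fintype ((P : Subgroup G) →* ℂˣ)] (χ : G → ℂ)
    (x : (P : Subgroup G)) : χ x = classInner (fun w : (P : Subgroup G) => χ w) (lch 1) *
      (if x = 1 then (Nat.card (P : Subgroup G) : ℂ) else 0) - ∑ ψ : (P : Subgroup G) →* ℂˣ, cc P χ ψ * (ψ x : ℂ) := by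
  have h1 := fourier_inv h.pab (fun w : (P : Subgroup G) => χ w) x
  have h2 : ∀ ψ : (P : Subgroup G) →* ℂˣ, classInner (fun w : (P : Subgroup G) => χ w) (lch ψ) * (ψ x : ℂ) =
      classInner (fun w : (P : Subgroup G) => χ w) (lch 1) * (ψ x : ℂ) - cc P χ ψ * (ψ x : ℂ) := by
    intro ψ; rw [cc_eq]; ring
  rw [Finset.sum_congr rfl fun ψ _ => h2 ψ, Finset.sum_sub_distrib, ← Finset.mul_sum, sum_hom_val h.pab] at h1
  exact h1

open Classical in
theorem FD.sum_cc (h : FH P m) (D : FD M P m w d δ ζ) [Fintype (P : Subgroup G)]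
    [Fintype ((P : Subgroup G) →* ℂˣ)] {χ : IrrCharacter G} (hχ : χ ∈ principalBlock M G) (x : (P : Subgroup G)) :
    ∑ ψ : (P : Subgroup G) →* ℂˣ, cc P (χ : G → ℂ) ψ * (ψ x : ℂ) =
      w χ * ((if x = 1 then (Nat.card (P : Subgroup G) : ℂ) else 0) - 1) -
        δ * ∑ ψ : (P : Subgroup G) →* ℂˣ, (if ψ ≠ 1 ∧ ζ ψ = χ then (ψ x : ℂ) else 0) := by
  rw [← sum_hom_val h.pab x, ← Finset.add_sum_erase _ _ (Finset.mem_univ (1 : (P : Subgroup G) →* ℂˣ)), cc_one,
    ← Finset.add_sum_erase (Finset.univ) (fun ψ : (P : Subgroup G) →* ℂˣ => (ψ x : ℂ)) (Finset.mem_univ (1 : (P : Subgroup G) →* ℂˣ)),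
    ← Finset.add_sum_erase (Finset.univ) (fun ψ : (P : Subgroup G) →* ℂˣ => (if ψ ≠ 1 ∧ ζ ψ = χ then (ψ x : ℂ) else 0))
      (Finset.mem_univ (1 : (P : Subgroup G) →* ℂˣ))]
  rw [if_neg (fun h' => h'.1 rfl), MonoidHom.one_apply, Units.val_one, zero_mul, zero_add, zero_add, add_sub_cancel_left,
    Finset.mul_sum, Finset.mul_sum, ← Finset.sum_sub_distrib]
  refine Finset.sum_congr rfl fun ψ hψ => ?_
  have hψ1 : ψ ≠ 1 := (Finset.mem_erase.1 hψ).1
  rw [D.val χ hχ ψ hψ1]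
  by_cases hc : ζ ψ = χ
  · rw [if_pos hc.symm, if_pos ⟨hψ1, hc⟩]; ring
  · rw [if_neg (fun h' => hc h'.symm), if_neg (fun h' => hc h'.2)]; ring

open Classical in
theorem FD.values (h : FH P m) (D : FD M P m w d δ ζ) [Fintype ((P : Subgroup G) →* ℂˣ)]
    {χ : IrrCharacter G} (hχ : χ ∈ principalBlock M G) {x : (P : Subgroup G)} (hx : x ≠ 1) :
    (χ : G → ℂ) x = w χ + δ * ∑ ψ : (P : Subgroup G) →* ℂˣ, (if ψ ≠ 1 ∧ ζ ψ = χ then (ψ x : ℂ) else 0) := by
  haveI := Fintype.ofFinite (P : Subgroup G)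
  rw [char_expand h (χ : G → ℂ) x, D.sum_cc h hχ]
  simp only [if_neg hx]
  ring_nf

open Classical in
theorem FD.degree (h : FH P m) (D : FD M P m w d δ ζ)
    {χ : IrrCharacter G} (hχ : χ ∈ principalBlock M G) :
    ∃ k : ℕ, (charDegree (χ : G → ℂ) : ℤ) = Nat.card (P : Subgroup G) * k - (Nat.card (P : Subgroup G) - 1) * w χ +
      δ * Nat.card {ψ : (P : Subgroup G) →* ℂˣ // ψ ≠ 1 ∧ ζ ψ = χ} := by
  haveI := Fintype.ofFinite (P : Subgroup G)
  haveI : Finite ((P : Subgroup G) →* ℂˣ) := finite_hom _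
  haveI := Fintype.ofFinite ((P : Subgroup G) →* ℂˣ)
  obtain ⟨k, hk⟩ := IsCharacter.inner_irr_nat (isCharacter_restrict (P : Subgroup G) (IsIrr.isCharacter χ.2))
    (isCharacter_one_dim (1 : (P : Subgroup G) →* ℂˣ))
  refine ⟨k, ?_⟩
  have h1 := char_expand h (χ : G → ℂ) 1
  rw [D.sum_cc h hχ, if_pos rfl, OneMemClass.coe_one, (IsIrr.one_eq χ.2).1] at h1
  have hk' : classInner (fun w : (P : Subgroup G) => (χ : G → ℂ) w) (lch 1) = k := hk
  rw [hk'] at h1
  have h2 : ∑ ψ : (P : Subgroup G) →* ℂˣ, (if ψ ≠ 1 ∧ ζ ψ = χ then ((ψ 1 : ℂˣ) : ℂ) else 0) =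
      (Nat.card {ψ : (P : Subgroup G) →* ℂˣ // ψ ≠ 1 ∧ ζ ψ = χ} : ℂ) := by
    rw [Nat.card_eq_fintype_card, Fintype.card_subtype, Finset.card_filter, Nat.cast_sum]
    refine Finset.sum_congr rfl fun ψ _ => ?_
    split_ifs
    · rw [map_one, Units.val_one, Nat.cast_one]
    · rw [Nat.cast_zero]
  rw [h2] at h1
  have h3 : ((charDegree (χ : G → ℂ) : ℤ) : ℂ) = ((Nat.card (P : Subgroup G) * k - (Nat.card (P : Subgroup G) - 1) * w χ +
      δ * Nat.card {ψ : (P : Subgroup G) →* ℂˣ // ψ ≠ 1 ∧ ζ ψ = χ} : ℤ) : ℂ) := by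
    push_cast
    rw [h1]; ring
  exact_mod_cast h3

theorem FD.fib (D : FD M P m w d δ ζ) {ψ ψ' : (P : Subgroup G) →* ℂˣ} (hψ : ψ ≠ 1) :
    (ψ' ≠ 1 ∧ ζ ψ' = ζ ψ) ↔ ∃ n : nP P, ψ'.comp (cjP P n) = ψ := by
  constructor
  · rintro ⟨h1, h2⟩
    exact (D.rel ψ ψ' hψ h1).1 h2.symm
  · intro h1
    have h2 : ψ' ≠ 1 := by
      rintro rfl
      obtain ⟨n, hn⟩ := h1
      exact hψ hn.symm
    exact ⟨h2, ((D.rel ψ ψ' hψ h2).2 h1).symm⟩

theorem FD.fib_card (h : FH P m) (D : FD M P m w d δ ζ) {ψ : (P : Subgroup G) →* ℂˣ} (hψ : ψ ≠ 1) :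
    Nat.card {ψ' : (P : Subgroup G) →* ℂˣ // ψ' ≠ 1 ∧ ζ ψ' = ζ ψ} = m := by
  rw [← orbit_card h hψ]
  exact Nat.card_congr (Equiv.subtypeEquivRight fun ψ' => D.fib hψ)

/-- the number of exceptional characters -/
theorem FD.card_Y (h : FH P m) (D : FD M P m w d δ ζ) :
    Nat.card (YY ζ) * m = Nat.card (P : Subgroup G) - 1 := by
  classical
  haveI : Finite ((P : Subgroup G) →* ℂˣ) := finite_hom _
  haveI := Fintype.ofFinite ((P : Subgroup G) →* ℂˣ)
  have hcard : Nat.card ((P : Subgroup G) →* ℂˣ) = Nat.card (P : Subgroup G) := by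
    have hcom : commutator (P : Subgroup G) = ⊥ := by
      rw [commutator_eq_bot_iff_center_eq_top, eq_top_iff]
      intro x _
      exact Subgroup.mem_center_iff.2 fun g => h.pab g x
    rw [card_hom_units, hcom, Subgroup.index_bot]
  have h1 := Finset.card_eq_sum_card_fiberwise (s := (Finset.univ : Finset ((P : Subgroup G) →* ℂˣ)).erase 1)
    (t := (Finset.univ : Finset (IrrCharacter G)).filter (fun χ => χ ∈ YY ζ)) (f := ζ) (fun ψ hψ => by
      rw [Finset.mem_coe, Finset.mem_filter]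
      exact ⟨Finset.mem_univ _, ψ, (Finset.mem_erase.1 hψ).1, rfl⟩)
  have h2 : ∀ χ ∈ (Finset.univ : Finset (IrrCharacter G)).filter (fun χ => χ ∈ YY ζ),
      (((Finset.univ : Finset ((P : Subgroup G) →* ℂˣ)).erase 1).filter (fun ψ => ζ ψ = χ)).card = m := by
    intro χ hχ
    obtain ⟨ψ, hψ, rfl⟩ := (Finset.mem_filter.1 hχ).2
    rw [← D.fib_card h hψ, Nat.card_eq_fintype_card, Fintype.card_subtype]
    congr 1
    ext ψ'
    simp only [Finset.mem_filter, Finset.mem_erase, Finset.mem_univ, and_true, true_and, ne_eq]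
  rw [Finset.sum_congr rfl h2, Finset.sum_const, smul_eq_mul, Finset.card_erase_of_mem (Finset.mem_univ _),
    Finset.card_univ, ← Nat.card_eq_fintype_card, hcard] at h1
  rw [h1]
  congr 1
  rw [Nat.card_eq_fintype_card, ← Fintype.card_subtype]

theorem FD.two_le (h : FH P m) (D : FD M P m w d δ ζ) (hm : m + 1 < Nat.card (P : Subgroup G)) :
    2 ≤ Nat.card (YY ζ) := by
  have h1 := D.card_Y h
  by_contra hc
  push Not at hc
  have : Nat.card (YY ζ) ≤ 1 := by omega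
  have h2 : Nat.card (YY ζ) * m ≤ 1 * m := Nat.mul_le_mul_right m this
  omega

theorem FD.irrOne_notMem [hMp : M.IsPrime] (h : FH P m) (D : FD M P m w d δ ζ)
    (hm : m + 1 < Nat.card (P : Subgroup G)) : irrOne G ∉ YY ζ ∧ w (irrOne G) = 1 := by
  classical
  haveI := Fintype.ofFinite (P : Subgroup G)
  obtain ⟨ψ, ψ', hψ, hψ', hnr⟩ := h.exists_nonrel hm
  have hc1 : ∀ φ : (P : Subgroup G) →* ℂˣ, φ ≠ 1 → cc P ((irrOne G : IrrCharacter G) : G → ℂ) φ = 1 := by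
    intro φ hφ
    rw [cc_eq]
    have e1 : (fun w : (P : Subgroup G) => ((irrOne G : IrrCharacter G) : G → ℂ) w) = lch (1 : (P : Subgroup G) →* ℂˣ) := by
      funext w; unfold lch; rw [MonoidHom.one_apply, Units.val_one]; rfl
    rw [e1, lch_inner, lch_inner, if_pos rfl, if_neg (fun h' => hφ h'.symm), sub_zero]
  have hw : ∀ φ : (P : Subgroup G) →* ℂˣ, φ ≠ 1 → (w (irrOne G) : ℂ) - δ * (if irrOne G = ζ φ then 1 else 0) = 1 := by
    intro φ hφ
    rw [← D.val _ irrOne_mem φ hφ]; exact hc1 φ hφ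
  have hδ0 : (δ : ℂ) ≠ 0 := by
    have : δ ≠ 0 := by rcases D.sgn with h' | h' <;> rw [h'] <;> norm_num
    exact_mod_cast this
  have hne : irrOne G ∉ YY ζ := by
    rintro ⟨φ, hφ, hφ2⟩
    have e1 := hw φ hφ
    rw [if_pos hφ2.symm] at e1
    -- some character is not related to φ
    have h3 : ∃ φ' : (P : Subgroup G) →* ℂˣ, φ' ≠ 1 ∧ ζ φ' ≠ ζ φ := by
      by_contra hc
      push Not at hc
      have h4 := (hc ψ hψ).trans (hc ψ' hψ').symm
      exact hnr ((D.rel ψ ψ' hψ hψ').1 h4)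
    obtain ⟨φ', hφ', hne⟩ := h3
    have e2 := hw φ' hφ'
    rw [if_neg (fun h' => hne (h'.symm.trans hφ2.symm))] at e2
    apply hδ0
    linear_combination e2 - e1
  refine ⟨hne, ?_⟩
  have e1 := hw ψ hψ
  rw [if_neg (fun h' => hne ⟨ψ, hψ, h'.symm⟩)] at e1
  have e2 : (w (irrOne G) : ℂ) = ((1 : ℤ) : ℂ) := by push_cast; linear_combination e1
  exact_mod_cast e2

theorem FD.val_X (h : FH P m) (D : FD M P m w d δ ζ) {χ : IrrCharacter G} (hχ : χ ∈ XX M ζ)
    {x : G} (hx : x ∈ (P : Subgroup G)) (hx1 : x ≠ 1) : (χ : G → ℂ) x = w χ := by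
  classical
  haveI : Finite ((P : Subgroup G) →* ℂˣ) := finite_hom _
  haveI := Fintype.ofFinite ((P : Subgroup G) →* ℂˣ)
  have h1 := D.values h hχ.1 (x := ⟨x, hx⟩) (fun h' => hx1 (congrArg Subtype.val h'))
  rw [Finset.sum_eq_zero, mul_zero, add_zero] at h1
  · exact h1
  · intro ψ _
    rw [if_neg]
    rintro ⟨h2, h3⟩
    exact hχ.2 ⟨ψ, h2, h3⟩

open Classical in
theorem FD.val_Y (h : FH P m) (D : FD M P m w d δ ζ) [Fintype ((P : Subgroup G) →* ℂˣ)]
    {ψ : (P : Subgroup G) →* ℂˣ} (hψ : ψ ≠ 1)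
    {x : (P : Subgroup G)} (hx1 : x ≠ 1) : (ζ ψ : G → ℂ) x = d + δ * ∑ ψ' : (P : Subgroup G) →* ℂˣ,
      (if ∃ n : nP P, ψ'.comp (cjP P n) = ψ then (ψ' x : ℂ) else 0) := by
  rw [D.values h (D.mem ψ) hx1, D.wd]
  congr 2
  refine Finset.sum_congr rfl fun ψ' _ => ?_
  simp only [D.fib hψ]

open scoped Pointwise in
theorem conj_intoP (P : Sylow p G) {x : G} (hx : ∃ k, orderOf x = p ^ k) : ∃ c : G, c * x * c⁻¹ ∈ (P : Subgroup G) := by
  obtain ⟨Q, hQ⟩ := (isPGroup_zpowers hx).exists_le_sylow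
  obtain ⟨c, hc⟩ := MulAction.exists_smul_eq G Q P
  refine ⟨c, ?_⟩
  rw [← hc]
  show c * x * c⁻¹ ∈ MulAut.conj c • (Q : Subgroup G)
  rw [Subgroup.mem_pointwise_smul_iff_inv_smul_mem, ← map_inv]
  show c⁻¹ * (c * x * c⁻¹) * c⁻¹⁻¹ ∈ (Q : Subgroup G)
  have : c⁻¹ * (c * x * c⁻¹) * c⁻¹⁻¹ = x := by group
  rw [this]
  exact hQ (Subgroup.mem_zpowers x)

theorem ppart_singular {g x : G} (h : p ∣ orderOf g) (hx : IsPPart p g x) : x ≠ 1 := by
  rintro rfl
  exact regular_of_ppart_one hx h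

theorem FD.w_ne_zero [hMp : M.IsPrime] (hM : IsPModular p M) (h : FH P m) (D : FD M P m w d δ ζ)
    (hm : m + 1 < Nat.card (P : Subgroup G)) {χ : IrrCharacter G} (hχ : χ ∈ XX M ζ) : w χ ≠ 0 := by
  intro h0
  by_cases hne : χ = irrOne G
  · have := (D.irrOne_notMem h hm).2
    rw [← hne, h0] at this
    exact absurd this (by norm_num)
  · obtain ⟨g, hg1, hg2⟩ := principal_exists_singular hM hχ.1 hne
    apply hg2
    obtain ⟨x, hx⟩ := exists_ppart (p := p) g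
    have hxp := hx.choose_spec.2.2.1
    -- conjugate x into P
    obtain ⟨c, hc⟩ := conj_intoP P hxp
    have h1 := ppart_conj hx c
    have h2 : c * x * c⁻¹ ≠ 1 := fun h' => ppart_singular hg1 hx (by
      have := congrArg (fun z => c⁻¹ * z * c) h'
      simpa [mul_assoc] using this)
    have h3 := h.val hM hχ.1 h1 hc h2
    rw [D.val_X h hχ hc h2, h0, IsCharacter.conj_eq (IsIrr.isCharacter χ.2) g c] at h3
    rw [h3]; simp

theorem XX_union (D : FD M P m w d δ ζ) : principalBlock M G = XX M ζ ∪ YY ζ := by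
  ext χ
  constructor
  · intro h1
    by_cases h2 : χ ∈ YY ζ
    · exact Or.inr h2
    · exact Or.inl ⟨h1, h2⟩
  · rintro (h1 | ⟨ψ, _, rfl⟩)
    · exact h1.1
    · exact D.mem ψ

theorem XX_disj : Disjoint (XX M ζ) (YY ζ) := Set.disjoint_sdiff_left

open Classical in
theorem sum_split (D : FD M P m w d δ ζ) {A : Type*} [AddCommMonoid A] (F : IrrCharacter G → A) :
    ∑ χ : IrrCharacter G, (if χ ∈ principalBlock M G then F χ else 0) =
      ∑ χ : IrrCharacter G, (if χ ∈ XX M ζ then F χ else 0) + ∑ χ : IrrCharacter G, (if χ ∈ YY ζ then F χ else 0) := by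
  rw [← Finset.sum_add_distrib]
  refine Finset.sum_congr rfl fun χ _ => ?_
  by_cases h1 : χ ∈ YY ζ
  · have h2 : χ ∈ principalBlock M G := by rw [XX_union D]; exact Or.inr h1
    rw [if_pos h2, if_pos h1, if_neg (fun h' : χ ∈ XX M ζ => h'.2 h1), zero_add]
  · by_cases h2 : χ ∈ principalBlock M G
    · rw [if_pos h2, if_pos ⟨h2, h1⟩, if_neg h1, add_zero]
    · rw [if_neg h2, if_neg (fun h' : χ ∈ XX M ζ => h2 h'.1), if_neg h1, add_zero]

open Classical in
theorem sum_const_set {S : Set (IrrCharacter G)} (a : ℂ) :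
    ∑ χ : IrrCharacter G, (if χ ∈ S then a else 0) = Nat.card S * a := by
  rw [Finset.sum_ite, Finset.sum_const_zero, add_zero, Finset.sum_const, nsmul_eq_mul, Nat.card_eq_fintype_card,
    ← Fintype.card_subtype]

open Classical in
theorem FD.norm_split (D : FD M P m w d δ ζ) :
    ∑ χ : IrrCharacter G, (if χ ∈ XX M ζ then w χ ^ 2 else 0) + Nat.card (YY ζ) * d ^ 2 = m + 2 * δ * d := by
  rw [← D.norm, sum_split D]
  congr 1
  have h1 : ∀ χ : IrrCharacter G, (if χ ∈ YY ζ then w χ ^ 2 else 0) = if χ ∈ YY ζ then d ^ 2 else 0 := by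
    intro χ
    split_ifs with h1
    · obtain ⟨ψ, _, rfl⟩ := h1
      rw [D.wd]
    · rfl
  rw [Finset.sum_congr rfl fun χ _ => h1 χ, Finset.sum_ite, Finset.sum_const_zero, add_zero, Finset.sum_const,
    nsmul_eq_mul, Nat.card_eq_fintype_card, ← Fintype.card_subtype]

open Classical in
theorem FD.reg0 (hM : IsPModular p M) (D : FD M P m w d δ ζ) {ψ : (P : Subgroup G) →* ℂˣ} (hψ : ψ ≠ 1)
    {g : G} (hg : ¬ p ∣ orderOf g) :
    ∑ χ : IrrCharacter G, (if χ ∈ principalBlock M G then (w χ : ℂ) * (χ : G → ℂ) g else 0) =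
      δ * (ζ ψ : G → ℂ) g := by
  haveI := Fintype.ofFinite (P : Subgroup G)
  have h1 := reg_rel (P := P) hM ψ hg
  have h2 : ∀ χ : IrrCharacter G, (if χ ∈ principalBlock M G then cc P (χ : G → ℂ) ψ * (χ : G → ℂ) g else 0) =
      (if χ ∈ principalBlock M G then (w χ : ℂ) * (χ : G → ℂ) g else 0) -
        if χ = ζ ψ then δ * (ζ ψ : G → ℂ) g else 0 := by
    intro χ
    by_cases hχ : χ ∈ principalBlock M G
    · rw [if_pos hχ, if_pos hχ, D.val χ hχ ψ hψ]
      split_ifs with h3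
      · rw [h3]; ring
      · ring
    · rw [if_neg hχ, if_neg hχ, if_neg, sub_zero]
      rintro rfl
      exact hχ (D.mem ψ)
  rw [Finset.sum_congr rfl fun χ _ => h2 χ, Finset.sum_sub_distrib, Finset.sum_ite_eq' Finset.univ (ζ ψ),
    if_pos (Finset.mem_univ _)] at h1
  linear_combination h1

theorem FD.reg_agree (hM : IsPModular p M) (D : FD M P m w d δ ζ) {η η' : IrrCharacter G} (hη : η ∈ YY ζ)
    (hη' : η' ∈ YY ζ) {g : G} (hg : ¬ p ∣ orderOf g) : (η : G → ℂ) g = (η' : G → ℂ) g := by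
  obtain ⟨ψ, hψ, rfl⟩ := hη
  obtain ⟨ψ', hψ', rfl⟩ := hη'
  have h1 := (D.reg0 hM hψ hg).symm.trans (D.reg0 hM hψ' hg)
  have hδ0 : (δ : ℂ) ≠ 0 := by
    have : δ ≠ 0 := by rcases D.sgn with h' | h' <;> rw [h'] <;> norm_num
    exact_mod_cast this
  exact mul_left_cancel₀ hδ0 h1

open Classical in
theorem FD.reg (hM : IsPModular p M) (D : FD M P m w d δ ζ) {η : IrrCharacter G} (hη : η ∈ YY ζ)
    {g : G} (hg : ¬ p ∣ orderOf g) :
    ((Nat.card (YY ζ) : ℂ) * d - δ) * (η : G → ℂ) g +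
      ∑ χ : IrrCharacter G, (if χ ∈ XX M ζ then (w χ : ℂ) * (χ : G → ℂ) g else 0) = 0 := by
  obtain ⟨ψ, hψ, hψη⟩ := id hη
  have h1 := D.reg0 hM hψ hg
  rw [sum_split D] at h1
  have h2 : ∀ χ : IrrCharacter G, (if χ ∈ YY ζ then (w χ : ℂ) * (χ : G → ℂ) g else 0) =
      if χ ∈ YY ζ then (d : ℂ) * (η : G → ℂ) g else 0 := by
    intro χ
    split_ifs with h3
    · rw [D.reg_agree hM h3 hη hg]
      obtain ⟨ψ', _, rfl⟩ := h3
      rw [D.wd]
    · rfl
  rw [Finset.sum_congr rfl fun χ _ => h2 χ, sum_const_set, hψη] at h1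
  linear_combination h1

open Classical in
theorem FD.card_X_le [hMp : M.IsPrime] (hM : IsPModular p M) (h : FH P m) (D : FD M P m w d δ ζ)
    (hm : m + 1 < Nat.card (P : Subgroup G)) : Nat.card (XX M ζ) ≤ m := by
  have h1 := D.norm_split
  have h2 := D.two_le h hm
  have h3 : (Nat.card (XX M ζ) : ℤ) ≤ ∑ χ : IrrCharacter G, (if χ ∈ XX M ζ then w χ ^ 2 else 0) := by
    have h4 : (Nat.card (XX M ζ) : ℤ) = ∑ χ : IrrCharacter G, (if χ ∈ XX M ζ then 1 else 0) := by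
      rw [Finset.sum_ite, Finset.sum_const_zero, add_zero, Finset.sum_const, nsmul_eq_mul, mul_one,
        Nat.card_eq_fintype_card, ← Fintype.card_subtype]
    rw [h4]
    refine Finset.sum_le_sum fun χ _ => ?_
    split_ifs with h5
    · have h6 := D.w_ne_zero hM h hm h5
      have : 0 < w χ ^ 2 := by positivity
      omega
    · exact le_refl _
  have h4 : (2 : ℤ) * d ^ 2 ≤ Nat.card (YY ζ) * d ^ 2 := by
    have : (2 : ℤ) ≤ Nat.card (YY ζ) := by exact_mod_cast h2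
    nlinarith [sq_nonneg d]
  have h5 : 2 * δ * d ≤ 2 * d ^ 2 := by
    rcases D.sgn with h' | h' <;> rw [h']
    · have : d ≤ d ^ 2 := by nlinarith [Int.le_self_sq d]
      nlinarith
    · have : -d ≤ d ^ 2 := by
        have := Int.le_self_sq (-d)
        nlinarith
      nlinarith
  have h6 : (Nat.card (XX M ζ) : ℤ) ≤ m := by linarith
  exact_mod_cast h6

end Main

end CfsgH5
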