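import Cfsg.Agent.H5.ClifCorr
import Cfsg.Agent.H4.Glb6
import Cfsg.Agent.H4.Glb9
import Cfsg.Agent.S0867

/-!
# Characters over a fixed invariant character: inertia group, extension, Gallagher
-/

set_option autoImplicit false
open Cfsg
open CfsgH4 hiding centralChar sum_conj

namespace CfsgH5

open scoped ComplexConjugate

section Tri

variable {G : Type*} [Group G] [Fintype G] (N : Subgroup G) [hN : N.Normal] [Fintype N]
  {θ : N → ℂ} [Fintype (inertia N θ)]

theorem tri_sub (hθ : IsIrrCharacter N θ) (hNT : N ≤ inertia N θ) {η : inertia N θ → ℂ}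
    (hηN : resLE hNT η = θ) :
    IsIrrCharacter (N.subgroupOf (inertia N θ)) (fun n : N.subgroupOf (inertia N θ) => η n) := by
  have h1 : (fun n : N.subgroupOf (inertia N θ) => η n) =
      fun n => θ (Subgroup.subgroupOfEquivOfLe hNT n) := by
    funext n
    exact congrFun hηN (Subgroup.subgroupOfEquivOfLe hNT n)
  rw [h1]
  exact (isIrr_comp_equiv (Subgroup.subgroupOfEquivOfLe hNT)).2 hθ

theorem tri_irr (hθ : IsIrrCharacter N θ) (hNT : N ≤ inertia N θ) {η : inertia N θ → ℂ}
    (hη : IsIrrCharacter (inertia N θ) η) (hηN : resLE hNT η = θ)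
    {β : inertia N θ → ℂ} (hβ : IsIrrCharacter (inertia N θ) β)
    (hβN : ∀ t : inertia N θ, (t : G) ∈ N → β t = β 1) :
    IsIrrCharacter (inertia N θ) (β * η) ∧ resLE hNT (β * η) = β 1 • θ ∧
      classInner (resLE hNT (β * η)) θ ≠ 0 := by
  haveI := Fintype.ofFinite (N.subgroupOf (inertia N θ))
  have h1 := (gallagher (N.subgroupOf (inertia N θ)) (IsIrr.isCharacter hη)
    (tri_sub N hθ hNT hηN)).1 β hβ (fun n hn => hβN n (Subgroup.mem_subgroupOf.1 hn))
  have h2 : resLE hNT (β * η) = β 1 • θ := by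
    funext n
    show β ⟨n, hNT n.2⟩ * η ⟨n, hNT n.2⟩ = β 1 * θ n
    rw [hβN ⟨n, hNT n.2⟩ n.2]
    exact congrArg (fun z => β 1 * z) (congrFun hηN n)
  refine ⟨h1, h2, ?_⟩
  rw [h2, classInner_smul_left, classInner_irr_self hθ, mul_one]
  exact IsIrr.one_ne_zero hβ

/-- every irreducible character over `θ` is `Ind(β η)` -/
theorem tri_exists (hθ : IsIrrCharacter N θ) (hNT : N ≤ inertia N θ) {η : inertia N θ → ℂ}
    (hη : IsIrrCharacter (inertia N θ) η) (hηN : resLE hNT η = θ)
    {χ : G → ℂ} (hχ : IsIrrCharacter G χ) (hne : classInner (fun n : N => χ n) θ ≠ 0) :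
    ∃ β : inertia N θ → ℂ, IsIrrCharacter (inertia N θ) β ∧
      (∀ t : inertia N θ, (t : G) ∈ N → β t = β 1) ∧ χ = indFun (inertia N θ) (β * η) := by
  haveI := Fintype.ofFinite (N.subgroupOf (inertia N θ))
  obtain ⟨ψ, hψ, hψ1, hψ2, hψ3⟩ := clifford_corr N hχ hθ hne
  obtain ⟨β, hβ, hβN, hβe⟩ := (gallagher (N.subgroupOf (inertia N θ)) (IsIrr.isCharacter hη)
    (tri_sub N hθ hNT hηN)).2.2 ψ hψ (by
      intro h0
      apply hψ1
      have e := Subgroup.subgroupOfEquivOfLe hNT
      have h3 := classInner_comp_equiv (Subgroup.subgroupOfEquivOfLe hNT)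
        (resLE hNT ψ) θ
      rw [← h3, ← h0]
      refine congrArg₂ classInner rfl ?_
      funext n
      exact (congrFun hηN (Subgroup.subgroupOfEquivOfLe hNT n)).symm)
  exact ⟨β, hβ, fun t ht => hβN t (Subgroup.mem_subgroupOf.2 ht), by rw [hψ2, hβe]⟩

/-- `β` is determined by `Ind(β η)` -/
theorem tri_inj (hθ : IsIrrCharacter N θ) (hNT : N ≤ inertia N θ) {η : inertia N θ → ℂ}
    (hη : IsIrrCharacter (inertia N θ) η) (hηN : resLE hNT η = θ)
    {β β' : inertia N θ → ℂ} (hβ : IsIrrCharacter (inertia N θ) β)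
    (hβN : ∀ t : inertia N θ, (t : G) ∈ N → β t = β 1)
    (hβ' : IsIrrCharacter (inertia N θ) β')
    (hβN' : ∀ t : inertia N θ, (t : G) ∈ N → β' t = β' 1)
    (he : indFun (inertia N θ) (β * η) = indFun (inertia N θ) (β' * η)) : β = β' := by
  haveI := Fintype.ofFinite (N.subgroupOf (inertia N θ))
  obtain ⟨h1, h2, h3⟩ := tri_irr N hθ hNT hη hηN hβ hβN
  obtain ⟨h1', h2', h3'⟩ := tri_irr N hθ hNT hη hηN hβ' hβN'
  have h4 := clif_inj N hθ hNT h1 h3 h1' h3' he
  exact (gallagher (N.subgroupOf (inertia N θ)) (IsIrr.isCharacter hη)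
    (tri_sub N hθ hNT hηN)).2.1 β β' hβ hβ' (fun n hn => hβN n (Subgroup.mem_subgroupOf.1 hn))
    (fun n hn => hβN' n (Subgroup.mem_subgroupOf.1 hn)) h4.symm

/-- `Ind(β η)` restricted to the inertia group is `β η` plus a character not over `θ` -/
theorem tri_res (hθ : IsIrrCharacter N θ) (hNT : N ≤ inertia N θ) {η : inertia N θ → ℂ}
    (hη : IsIrrCharacter (inertia N θ) η) (hηN : resLE hNT η = θ)
    {β : inertia N θ → ℂ} (hβ : IsIrrCharacter (inertia N θ) β)
    (hβN : ∀ t : inertia N θ, (t : G) ∈ N → β t = β 1) :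
    ∃ R : inertia N θ → ℂ, IsCharacter (inertia N θ) R ∧
      (fun t : inertia N θ => indFun (inertia N θ) (β * η) t) = β * η + R ∧
      classInner (resLE hNT R) θ = 0 := by
  obtain ⟨h1, h2, h3⟩ := tri_irr N hθ hNT hη hηN hβ hβN
  have h4 := clif_irr N hθ hNT h1 h3
  have h5 : classInner (fun t : inertia N θ => indFun (inertia N θ) (β * η) t) (β * η) ≠ 0 := by
    rw [← frobenius_right _ _ (IsIrr.isClassFunction h4), classInner_irr_self h4]
    exact one_ne_zero
  obtain ⟨R, hR, hRe⟩ := IsCharacter.sub_irr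
    (isCharacter_restrict (inertia N θ) (IsIrr.isCharacter h4)) h1 h5
  refine ⟨R, hR, hRe, ?_⟩
  have h6 := clif_over N hθ hNT h1 h3
  have h7 : (fun n : N => indFun (inertia N θ) (β * η) n) = resLE hNT (β * η) + resLE hNT R := by
    funext n
    exact congrFun hRe ⟨n, hNT n.2⟩
  rw [h7, classInner_add_left] at h6
  linear_combination h6

theorem tri_over (hθ : IsIrrCharacter N θ) (hNT : N ≤ inertia N θ) {η : inertia N θ → ℂ}
    (hη : IsIrrCharacter (inertia N θ) η) (hηN : resLE hNT η = θ)
    {β : inertia N θ → ℂ} (hβ : IsIrrCharacter (inertia N θ) β)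
    (hβN : ∀ t : inertia N θ, (t : G) ∈ N → β t = β 1) :
    classInner (fun n : N => indFun (inertia N θ) (β * η) n) θ ≠ 0 := by
  obtain ⟨h1, h2, h3⟩ := tri_irr N hθ hNT hη hηN hβ hβN
  rw [clif_over N hθ hNT h1 h3]
  exact h3

end Tri

/-- a character of a group vanishing on inner product with something below is orthogonal above -/
theorem inner_zero_of_below {D N : Type*} [Group D] [Fintype D] [Group N] [Fintype N] (j : N →* D)
    {R ψ : D → ℂ} (hR : IsCharacter D R) (hψ : IsIrrCharacter D ψ) {θ : N → ℂ}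
    (hθ : IsIrrCharacter N θ) (h1 : classInner (fun n => R (j n)) θ = 0)
    (h2 : classInner (fun n => ψ (j n)) θ ≠ 0) : classInner R ψ = 0 := by
  by_contra hne
  obtain ⟨R', hR', he⟩ := IsCharacter.sub_irr hR hψ hne
  obtain ⟨a, ha⟩ := IsCharacter.inner_irr_nat (isCharacter_comp j (IsIrr.isCharacter hψ)) hθ
  obtain ⟨b, hb⟩ := IsCharacter.inner_irr_nat (isCharacter_comp j hR') hθ
  have h3 : (fun n => R (j n)) = (fun n => ψ (j n)) + fun n => R' (j n) := by
    funext n; rw [he]; rfl
  rw [h3, classInner_add_left, ha, hb] at h1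
  rw [ha] at h2
  have h4 : a + b = 0 := by exact_mod_cast h1
  apply h2
  rw [(Nat.add_eq_zero_iff.1 h4).1, Nat.cast_zero]

/-- inner products of functions inflated along a surjection -/
theorem inner_comp_surj {A B : Type*} [Group A] [Group B] [Fintype A] [Fintype B] (π : A →* B)
    (hπ : Function.Surjective π) (f g : B → ℂ) :
    classInner (fun a => f (π a)) (fun a => g (π a)) = classInner f g := by
  classical
  rw [classInner_def, classInner_def]
  have h1 : ∑ a : A, f (π a) * conj (g (π a)) = (Nat.card π.ker : ℂ) * ∑ b : B, f b * conj (g b) := by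
    rw [Finset.mul_sum, ← Finset.sum_fiberwise (s := Finset.univ) (g := π)]
    refine Finset.sum_congr rfl fun b _ => ?_
    rw [Finset.sum_congr rfl (g := fun _ => f b * conj (g b)) (fun a ha => by
      rw [(Finset.mem_filter.1 ha).2])]
    rw [Finset.sum_const, nsmul_eq_mul]
    congr 1
    obtain ⟨a0, rfl⟩ := hπ b
    norm_cast
    rw [Nat.card_eq_fintype_card, ← Finset.card_univ]
    symm
    refine Finset.card_bij (fun (k : π.ker) _ => (k : A) * a0) ?_ ?_ ?_
    · intro k _
      rw [Finset.mem_filter]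
      refine ⟨Finset.mem_univ _, ?_⟩
      rw [map_mul, k.2, one_mul]
    · intro k _ k' _ h
      exact Subtype.ext (mul_right_cancel h)
    · intro a ha
      refine ⟨⟨a * a0⁻¹, ?_⟩, Finset.mem_univ _, ?_⟩
      · rw [MonoidHom.mem_ker, map_mul, (Finset.mem_filter.1 ha).2, map_inv, mul_inv_cancel]
      · show a * a0⁻¹ * a0 = a
        group
  rw [h1]
  have h2 : (Nat.card A : ℂ) = (Nat.card π.ker : ℂ) * Nat.card B := by
    have h3 := Subgroup.card_mul_index π.ker
    rw [Subgroup.index_ker, MonoidHom.range_eq_top.2 hπ] at h3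
    rw [← h3, Nat.cast_mul]
    congr 2
    exact Subgroup.card_top
  have h4 := card_ne_zero π.ker
  have h5 := card_ne_zero B
  rw [h2]
  field_simp

/-- multiplying both sides by an extension does not change inner products of functions
trivial on cosets of `N` -/
theorem inner_mul_ext {D : Type*} [Group D] [Fintype D] (N : Subgroup D) [hN : N.Normal] [Fintype N]
    {η : D → ℂ} (hη : IsIrrCharacter D η) (hηN : IsIrrCharacter N (fun n : N => η n))
    {f g : D → ℂ} (hf : ∀ n ∈ N, ∀ x, f (n * x) = f x) (hg : ∀ n ∈ N, ∀ x, g (n * x) = g x) :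
    classInner (f * η) (g * η) = classInner f g := by
  classical
  rw [classInner_def, classInner_def]
  congr 1
  have hN0 := card_ne_zero N
  have h1 : (Nat.card N : ℂ) * ∑ x : D, (f * η) x * conj ((g * η) x) =
      (Nat.card N : ℂ) * ∑ x : D, f x * conj (g x) := by
    have h2 : (Nat.card N : ℂ) * ∑ x : D, (f * η) x * conj ((g * η) x) =
        ∑ n : N, ∑ x : D, (f * η) ((n : D) * x) * conj ((g * η) ((n : D) * x)) := by
      have h2' : ∀ n : N, ∑ x : D, (f * η) ((n : D) * x) * conj ((g * η) ((n : D) * x)) =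
          ∑ x : D, (f * η) x * conj ((g * η) x) := fun n =>
        Equiv.sum_comp (Equiv.mulLeft (n : D)) fun x => (f * η) x * conj ((g * η) x)
      rw [Finset.sum_congr rfl fun n _ => h2' n]
      rw [Finset.sum_const, nsmul_eq_mul, Finset.card_univ, Nat.card_eq_fintype_card]
    rw [h2, Finset.sum_comm, Finset.mul_sum]
    refine Finset.sum_congr rfl fun x _ => ?_
    have h3 := coset_self N (χ := ⟨η, hη⟩) hηN x
    have h4 : ∀ n : N, (f * η) ((n : D) * x) * conj ((g * η) ((n : D) * x)) =
        (f x * conj (g x)) * (η (n * x) * conj (η (n * x))) := by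
      intro n
      simp only [Pi.mul_apply, hf n n.2 x, hg n n.2 x, map_mul]
      ring
    rw [Finset.sum_congr rfl fun n _ => h4 n, ← Finset.mul_sum]
    have h5 : ∑ n : N, η (n * x) * conj (η (n * x)) = Nat.card N := h3
    rw [h5]
    ring
  exact mul_left_cancel₀ hN0 h1

/-- canonical extension of an invariant character of a normal Sylow subgroup: it is fixed by
every automorphism fixing the character -/
theorem exists_canon_ext {T : Type*} [Group T] [Finite T] (p : ℕ) [Fact p.Prime] (N : Subgroup T)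
    [hN : N.Normal] (hNp : IsPGroup p N) (hidx : ¬ p ∣ N.index) {θ : N → ℂ}
    (hθ : IsIrrCharacter N θ) (hinv : ∀ t : T, conjFun N θ t = θ) :
    ∃ η : T → ℂ, IsIrrCharacter T η ∧ (∀ n : N, η n = θ n) ∧
      ∀ α : MulAut T, (∀ n : N, ∃ h : α (n : T) ∈ N, θ ⟨α (n : T), h⟩ = θ n) →
        ∀ t, η (α t) = η t := by
  classical
  haveI := Fintype.ofFinite N
  haveI := Fintype.ofFinite T
  obtain ⟨d, hd⟩ := IsCharacter.one_nat (IsIrr.isCharacter hθ)
  have h1 : d ∣ Nat.card N := degree_dvd_card hθ hd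
  have h2 : detOrder θ ∣ Nat.card N := by
    obtain ⟨f, hf⟩ := exists_det_hom (IsIrr.isCharacter hθ)
    have hfe : detChar θ = fun n => (f n : ℂ) := by ext n; exact hf n
    unfold detOrder
    rw [hfe, orderOf_linear]
    exact orderOf_linear_dvd f
  obtain ⟨a, ha⟩ := IsPGroup.iff_card.1 hNp
  have hpi : Nat.Coprime N.index p := ((Fact.out : p.Prime).coprime_iff_not_dvd.2 hidx).symm
  have hci0 : Nat.Coprime N.index (Nat.card N) := by
    rw [ha]; exact Nat.Coprime.pow_right a hpi
  have hci : Nat.Coprime N.index (detOrder θ * d) :=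
    Nat.Coprime.mul_right (Nat.Coprime.coprime_dvd_right h2 hci0)
      (Nat.Coprime.coprime_dvd_right h1 hci0)
  obtain ⟨η, ⟨h3, h4, h5⟩, h6⟩ := Cfsg.Agent.S0867.result N θ hθ
    (fun g n => congrFun (hinv g) n) d hd hci
  refine ⟨η, h3, h4, fun α hα t => ?_⟩
  have h7 := h6 (fun t => η (α t)) (isIrrCharacter_comp_surj α.toMonoidHom α.surjective h3) (by
    intro n
    obtain ⟨h8, h9⟩ := hα n
    show η (α n) = θ n
    rw [← h9]
    exact h4 ⟨α n, h8⟩) (by
    refine Nat.Coprime.coprime_dvd_right ?_ hci0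
    obtain ⟨f, hf⟩ := exists_det_hom (IsIrr.isCharacter h3)
    have hfe : detChar η = fun n => (f n : ℂ) := by ext n; exact hf n
    have h10 : detChar (fun t => η (α t)) = fun t => ((f.comp α.toMonoidHom) t : ℂ) := by
      have h11 := detChar_comp α.toMonoidHom (IsIrr.isCharacter h3)
      funext t
      have h12 := h11 t
      refine Eq.trans h12 ?_
      rw [hfe]
      rfl
    have h13 : detOrder (fun t => η (α t)) = detOrder η := by
      unfold detOrder
      rw [hfe, h10, orderOf_linear, orderOf_linear]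
      apply orderOf_eq_orderOf_iff.2
      intro n
      rw [hom_pow_eq_one_iff, hom_pow_eq_one_iff]
      constructor
      · intro h g
        have := h (α.symm g)
        rw [MonoidHom.comp_apply] at this
        have h14 : α.toMonoidHom (α.symm g) = g := α.apply_symm_apply g
        rwa [h14] at this
      · intro h g
        exact h (α g)
    rw [h13, h5]
    exact h2)
  exact congrFun h7 t

end CfsgH5
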