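import Cfsg.Agent.H4.Glb2
import Cfsg.Agent.H4.Perms

/-!
# Glauberman correspondence and real characters
-/

set_option autoImplicit false
open Cfsg
open CfsgH4 hiding centralChar sum_conj

namespace CfsgH5

open scoped ComplexConjugate

variable {G S : Type*} [Group G] [Finite G] [Group S] [Finite S] {p : ℕ} [hp : Fact p.Prime]
  (φ : S →* MulAut G) [Fintype (fixS φ)]

theorem glr_conj {χ : IrrCharacter G} {β : IrrCharacter (fixS φ)} (h : GlR p φ χ β) :
    GlR p φ (irrConj χ) (irrConj β) := by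
  obtain ⟨m, hm, hpm⟩ := h
  refine ⟨m, ?_, hpm⟩
  have h1 := classInner_conj_conj (fun c : fixS φ => (χ : G → ℂ) c) (β : fixS φ → ℂ)
  refine Eq.trans h1 ?_
  rw [hm]
  exact Complex.conj_natCast m

theorem invF_irrConj {χ : IrrCharacter G} (h : InvF φ (χ : G → ℂ)) : InvF φ (irrConj χ : G → ℂ) := by
  intro s g
  show conj ((χ : G → ℂ) (φ s g)) = conj ((χ : G → ℂ) g)
  rw [h s g]

theorem card_real_glr (hG : ¬ p ∣ Nat.card G) (hS : IsPGroup p S) :
    Nat.card {χ : IrrCharacter G // InvF φ (χ : G → ℂ) ∧ ∀ g : G, ((χ : G → ℂ) g).im = 0} =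
    Nat.card {β : IrrCharacter (fixS φ) // ∀ g : fixS φ, ((β : fixS φ → ℂ) g).im = 0} := by
  classical
  haveI := Fintype.ofFinite G
  obtain ⟨g1, g2, g3, g4⟩ := glaub (p := p) (φ := φ) (Or.inl ⟨hG, hS⟩)
  choose F hF hFu using g1
  have hreal : ∀ χ : IrrCharacter G, ∀ hχ : InvF φ (χ : G → ℂ), (irrConj χ = χ) ↔
      irrConj (F χ hχ) = F χ hχ := by
    intro χ hχ
    constructor
    · intro h
      have h1 := glr_conj φ (hF χ hχ)
      rw [h] at h1
      exact hFu χ hχ _ h1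
    · intro h
      have h1 := glr_conj φ (hF χ hχ)
      rw [h] at h1
      exact g3 _ _ (invF_irrConj φ hχ) hχ _ h1 (hF χ hχ)
  refine Nat.card_congr (Equiv.ofBijective (fun χ => ⟨F χ.1 χ.2.1,
    (irrConj_eq_iff _).1 ((hreal χ.1 χ.2.1).1 ((irrConj_eq_iff _).2 χ.2.2))⟩) ⟨?_, ?_⟩)
  · intro χ χ' h
    have h1 : F χ.1 χ.2.1 = F χ'.1 χ'.2.1 := congrArg Subtype.val h
    have h2 := hF χ'.1 χ'.2.1
    rw [← h1] at h2
    exact Subtype.ext (g3 χ.1 χ'.1 χ.2.1 χ'.2.1 _ (hF χ.1 χ.2.1) h2)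
  · rintro ⟨β, hβ⟩
    obtain ⟨χ, hχ, hR⟩ := g4 β
    have h1 : β = F χ hχ := hFu χ hχ β hR
    refine ⟨⟨χ, hχ, (irrConj_eq_iff _).1 ((hreal χ hχ).2 ?_)⟩, Subtype.ext h1.symm⟩
    rw [← h1]
    exact (irrConj_eq_iff _).2 hβ

/-- an invariant class contains a fixed element -/
theorem exists_fix_of_inv (hG : ¬ p ∣ Nat.card G) (hS : IsPGroup p S) (g : G)
    (hg : ∀ s, IsConj g (φ s g)) : ∃ c : fixS φ, IsConj g c := by
  classical
  haveI := Fintype.ofFinite G
  letI act : MulAction S G :=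
    { smul := fun s g => φ s g
      one_smul := fun g => by show (φ 1) g = g; rw [map_one]; rfl
      mul_smul := fun a b g => by show (φ (a * b)) g = φ a (φ b g); rw [map_mul]; rfl }
  let X : SubMulAction S G :=
    { carrier := {x | IsConj g x}
      smul_mem' := by
        intro s x hx
        obtain ⟨c, hc⟩ := isConj_iff.1 hx
        refine (hg s).trans (isConj_iff.2 ⟨φ s c, ?_⟩)
        show φ s c * φ s g * (φ s c)⁻¹ = φ s x
        rw [← hc, map_mul, map_mul, map_inv] }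
  have hcard : ¬ p ∣ Nat.card X := by
    intro h
    apply hG
    refine h.trans ?_
    have h1 : Nat.card X = (Subgroup.centralizer ({g} : Set G)).index := by
      rw [Subgroup.index_eq_card]
      have h2 : Nat.card X = Nat.card (MulAction.orbit (ConjAct G) g) := by
        refine Nat.card_congr (Equiv.subtypeEquivRight fun x => ?_)
        show IsConj g x ↔ x ∈ MulAction.orbit (ConjAct G) g
        rw [ConjAct.mem_orbit_conjAct, isConj_comm]
      rw [h2, Nat.card_congr (MulAction.orbitEquivQuotientStabilizer (ConjAct G) g),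
        ← Subgroup.index_eq_card, ← Subgroup.index_eq_card, ConjAct.stabilizer_eq_centralizer]
      rfl
    rw [h1]
    exact Subgroup.index_dvd_card _
  obtain ⟨⟨x, hx⟩, hfix⟩ := hS.nonempty_fixed_point_of_prime_not_dvd_card X hcard
  exact ⟨⟨x, fun s => congrArg Subtype.val (hfix s)⟩, hx⟩

theorem card_real_cls (hG : ¬ p ∣ Nat.card G) (hS : IsPGroup p S) :
    Nat.card {c : ConjClasses G // (∀ k : G, ConjClasses.mk k = c → IsConj k k⁻¹) ∧
      ∀ k : G, ConjClasses.mk k = c → ∀ s, ConjClasses.mk (φ s k) = c} =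
    Nat.card {C : ConjClasses (fixS φ) // ∀ g : fixS φ, ConjClasses.mk g = C → IsConj g g⁻¹} := by
  classical
  haveI := Fintype.ofFinite G
  obtain ⟨M, hM⟩ := exists_mod p
  haveI := IsPModular.isPrime hM
  symm
  refine Nat.card_congr (Equiv.ofBijective (fun C => ⟨ConjClasses.map (fixS φ).subtype C.1, ?_, ?_⟩) ⟨?_, ?_⟩)
  · intro k hk
    obtain ⟨c, hc⟩ := ConjClasses.mk_surjective C.1
    have h1 := C.2 c hc
    rw [← hc] at hk
    have h2 : IsConj k (c : G) := ConjClasses.mk_eq_mk_iff_isConj.1 hk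
    have h3 : IsConj (c : G) (c : G)⁻¹ := MonoidHom.map_isConj (fixS φ).subtype h1
    have h4 : IsConj (c : G)⁻¹ k⁻¹ := by
      obtain ⟨x, hx⟩ := isConj_iff.1 h2.symm
      exact isConj_iff.2 ⟨x, by rw [← hx]; group⟩
    exact (h2.trans h3).trans h4
  · intro k hk s
    obtain ⟨c, hc⟩ := ConjClasses.mk_surjective C.1
    rw [← hc] at hk
    have h2 : IsConj k (c : G) := ConjClasses.mk_eq_mk_iff_isConj.1 hk
    rw [← hc]
    refine ConjClasses.mk_eq_mk_iff_isConj.2 ?_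
    obtain ⟨x, hx⟩ := isConj_iff.1 h2
    refine isConj_iff.2 ⟨φ s x, ?_⟩
    rw [← map_inv, ← map_mul, ← map_mul, hx]
    exact c.2 s
  · intro C C' h
    obtain ⟨c, hc⟩ := ConjClasses.mk_surjective C.1
    obtain ⟨c', hc'⟩ := ConjClasses.mk_surjective C'.1
    have h1 : ConjClasses.map (fixS φ).subtype C.1 = ConjClasses.map (fixS φ).subtype C'.1 :=
      congrArg Subtype.val h
    rw [← hc, ← hc'] at h1
    have h2 : IsConj (c : G) (c' : G) := ConjClasses.mk_eq_mk_iff_isConj.1 h1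
    have h3 := fix_conj hS hM hG h2
    refine Subtype.ext ?_
    rw [← hc, ← hc']
    exact ConjClasses.mk_eq_mk_iff_isConj.2 h3
  · rintro ⟨c, h1, h2⟩
    obtain ⟨k, rfl⟩ := ConjClasses.mk_surjective c
    obtain ⟨y, hy⟩ := exists_fix_of_inv (p := p) φ hG hS k
      (fun s => (ConjClasses.mk_eq_mk_iff_isConj.1 (h2 k rfl s)).symm)
    have hr : IsConj y y⁻¹ := by
      refine fix_conj hS hM hG ?_
      exact h1 y (ConjClasses.mk_eq_mk_iff_isConj.2 hy.symm)
    refine ⟨⟨ConjClasses.mk y, ?_⟩, Subtype.ext ?_⟩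
    · intro g hg
      have h3 : IsConj g y := ConjClasses.mk_eq_mk_iff_isConj.1 hg
      have h4 : IsConj y⁻¹ g⁻¹ := by
        obtain ⟨x, hx⟩ := isConj_iff.1 h3.symm
        exact isConj_iff.2 ⟨x, by rw [← hx]; group⟩
      exact (h3.trans hr).trans h4
    · exact ConjClasses.mk_eq_mk_iff_isConj.2 hy.symm

theorem real_inv_main (hG : ¬ p ∣ Nat.card G) (hS : IsPGroup p S) :
    Nat.card {χ : IrrCharacter G // InvF φ (χ : G → ℂ) ∧ ∀ g : G, ((χ : G → ℂ) g).im = 0} =
    Nat.card {c : ConjClasses G // (∀ k : G, ConjClasses.mk k = c → IsConj k k⁻¹) ∧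
      ∀ k : G, ConjClasses.mk k = c → ∀ s, ConjClasses.mk (φ s k) = c} := by
  haveI := Fintype.ofFinite G
  rw [card_real_glr (p := p) φ hG hS, card_real_cls (p := p) φ hG hS, card_real_irr]

theorem real_inv_fix (hG : ¬ p ∣ Nat.card G) (hS : IsPGroup p S)
    (h : ∀ χ : IrrCharacter G, (∀ g : G, ((χ : G → ℂ) g).im = 0) → InvF φ (χ : G → ℂ))
    (k : G) (hk : IsConj k k⁻¹) : ∃ c : fixS φ, IsConj k c := by
  classical
  haveI := Fintype.ofFinite G
  have h1 := real_inv_main (p := p) φ hG hS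
  have h2 : Nat.card {χ : IrrCharacter G // InvF φ (χ : G → ℂ) ∧ ∀ g : G, ((χ : G → ℂ) g).im = 0} =
      Nat.card {χ : IrrCharacter G // ∀ g : G, ((χ : G → ℂ) g).im = 0} :=
    Nat.card_congr (Equiv.subtypeEquivRight fun χ => ⟨fun h' => h'.2, fun h' => ⟨h χ h', h'⟩⟩)
  rw [h2, card_real_irr] at h1
  haveI : Finite {C : ConjClasses G // ∀ g : G, ConjClasses.mk g = C → IsConj g g⁻¹} := inferInstance
  let ι : {c : ConjClasses G // (∀ k : G, ConjClasses.mk k = c → IsConj k k⁻¹) ∧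
      ∀ k : G, ConjClasses.mk k = c → ∀ s, ConjClasses.mk (φ s k) = c} →
      {C : ConjClasses G // ∀ g : G, ConjClasses.mk g = C → IsConj g g⁻¹} := fun c => ⟨c.1, c.2.1⟩
  have hι : Function.Injective ι := fun a b h => Subtype.ext (congrArg (fun x => x.1) h)
  have hb : Function.Bijective ι := (Nat.bijective_iff_injective_and_card ι).2 ⟨hι, h1.symm⟩
  obtain ⟨c, hc⟩ := hb.2 ⟨ConjClasses.mk k, fun g hg => by
    have h3 : IsConj g k := ConjClasses.mk_eq_mk_iff_isConj.1 hg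
    have h4 : IsConj k⁻¹ g⁻¹ := by
      obtain ⟨x, hx⟩ := isConj_iff.1 h3.symm
      exact isConj_iff.2 ⟨x, by rw [← hx]; group⟩
    exact (h3.trans hk).trans h4⟩
  have h5 : c.1 = ConjClasses.mk k := congrArg Subtype.val hc
  refine exists_fix_of_inv (p := p) φ hG hS k fun s => ?_
  have h6 := c.2.2 k h5.symm s
  rw [h5] at h6
  exact (ConjClasses.mk_eq_mk_iff_isConj.1 h6).symm

end CfsgH5
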