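import Cfsg.Agent.H5.OneChar
import Cfsg.Agent.H5.Over2
import Cfsg.Agent.H5.GlReal
import Cfsg.Agent.H4.PSol
import Cfsg.Agent.H4.Extend2
import Cfsg.Agent.H2.SqFree2

/-!
# Itô–Michler for p-solvable groups
-/

set_option autoImplicit false
open Cfsg MonoidAlgebra
open CfsgH4 hiding centralChar sum_conj regInner_symm

namespace CfsgH5

universe u

variable {p : ℕ} [hp : Fact p.Prime]

theorem charDegree_dvd_over {G : Type u} [Group G] [Finite G] (N : Subgroup G) [hN : N.Normal]
    [Fintype N] {χ : IrrCharacter G} {θ : IrrCharacter N}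
    (h : classInner (fun n : N => (χ : G → ℂ) n) (θ : N → ℂ) ≠ 0) :
    ∃ e : ℕ, charDegree (χ : G → ℂ) = e * charDegree (θ : N → ℂ) ∧ e ∣ N.index := by
  haveI : Fintype G := Fintype.ofFinite G
  obtain ⟨e, he, hd⟩ := degree_quot N χ.2 θ.2 h
  refine ⟨e, ?_, hd⟩
  rw [(IsIrr.one_eq χ.2).1, (IsIrr.one_eq θ.2).1] at he
  exact_mod_cast he

theorem fixes_all {G : Type u} [Group G] [Finite G] {N : Subgroup G} [hNn : N.Normal]
    (hN : ¬ p ∣ Nat.card N) {P : Subgroup G} (hP : IsPGroup p P)
    (h : ∀ x ∈ P, ∀ θ : IrrCharacter N, cjI N x θ = θ) : ∀ n ∈ N, ∀ x ∈ P, x * n = n * x := by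
  classical
  let φ : P →* MulAut N := (MulAut.conjNormal).comp P.subtype
  haveI : Fintype (fixS φ) := Fintype.ofFinite _
  haveI : Fintype N := Fintype.ofFinite _
  have hφ : ∀ (s : P) (y : N), ((φ s y : N) : G) = s * y * (s : G)⁻¹ := fun s y => rfl
  have htop : fixS φ = ⊤ := by
    refine CfsgH2.eq_top_of_conj_cover _ fun y => ?_
    have h1 : ∀ s, IsConj y (φ s y) := by
      intro s
      rw [isConj_iff_irr]
      intro θ
      have h2 := congrArg (fun f : IrrCharacter N => (f : N → ℂ) y) (h s s.2 θ)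
      simp only [cjI_apply] at h2
      exact h2.symm
    obtain ⟨c, hc⟩ := exists_fix_of_inv φ hN hP y h1
    obtain ⟨g, hg⟩ := isConj_iff.1 hc
    refine ⟨g⁻¹, ?_⟩
    rw [inv_inv, hg]
    exact c.2
  intro n hn x hx
  have h1 : (⟨n, hn⟩ : N) ∈ fixS φ := by rw [htop]; trivial
  rw [mem_fixS] at h1
  have h2 := congrArg (Subtype.val) (h1 ⟨x, hx⟩)
  rw [hφ] at h2
  exact mul_inv_eq_iff_eq_mul.1 h2

theorem inv_of_deg {G : Type u} [Group G] [Finite G] {N : Subgroup G} [hNn : N.Normal] [Fintype N]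
    {χ : IrrCharacter G} {θ : IrrCharacter N}
    (h : classInner (fun n : N => (χ : G → ℂ) n) (θ : N → ℂ) ≠ 0)
    (hdeg : charDegree (χ : G → ℂ) = charDegree (θ : N → ℂ)) (x : G) : cjI N x θ = θ := by
  classical
  haveI : Fintype G := Fintype.ofFinite G
  by_contra hne
  have h2 : classInner (fun n : N => (χ : G → ℂ) n) (cjI N x θ : N → ℂ) ≠ 0 := by
    rw [inner_cjI]; exact h
  have h3 := deg_restrict (N := N) χ
  have h4 : ∑ ψ ∈ ({θ, cjI N x θ} : Finset (IrrCharacter N)), rmlt N χ ψ * charDegree (ψ : N → ℂ) ≤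
      ∑ ψ : IrrCharacter N, rmlt N χ ψ * charDegree (ψ : N → ℂ) :=
    Finset.sum_le_sum_of_subset (Finset.subset_univ _)
  rw [Finset.sum_pair (fun hh => hne hh.symm), ← h3] at h4
  have h5 : 1 ≤ rmlt N χ θ := Nat.one_le_iff_ne_zero.2 ((rmlt_ne_zero_iff (N := N) χ θ).2 h)
  have h6 : 1 ≤ rmlt N χ (cjI N x θ) := Nat.one_le_iff_ne_zero.2 ((rmlt_ne_zero_iff (N := N) χ _).2 h2)
  have h7 : 0 < charDegree (cjI N x θ : N → ℂ) := (IsIrr.one_eq (cjI N x θ).2).2
  have h8 : charDegree (θ : N → ℂ) ≤ rmlt N χ θ * charDegree (θ : N → ℂ) := Nat.le_mul_of_pos_left _ h5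
  have h9 : 0 < rmlt N χ (cjI N x θ) * charDegree (cjI N x θ : N → ℂ) := Nat.mul_pos h6 h7
  omega

theorem psolv_sylow_normal (n : ℕ) : ∀ (G : Type u) [Group G] [Finite G], Nat.card G = n →
    IsPSolvable p G → (∀ χ : IrrCharacter G, ¬ p ∣ charDegree (χ : G → ℂ)) →
    ∀ P : Sylow p G, (P : Subgroup G).Normal := by
  induction n using Nat.strong_induction_on with
  | _ n ih =>
  intro G _ _ hcard hsol hdeg P
  classical
  rcases subsingleton_or_nontrivial G with hs | hnt
  · exact ⟨fun n hn g => by rw [Subsingleton.elim (g * n * g⁻¹) n]; exact hn⟩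
  obtain ⟨N, hNn, hNtop, hgood⟩ := CfsgH1.IsPSolvable.exists_top hsol
  haveI := hNn
  haveI : Fintype N := Fintype.ofFinite _
  haveI : Fintype G := Fintype.ofFinite _
  have hNcard : Nat.card N < Nat.card G := by
    refine lt_of_le_of_ne (Nat.le_of_dvd Nat.card_pos (Subgroup.card_subgroup_dvd_card N)) fun h => ?_
    exact hNtop (Subgroup.eq_top_of_card_eq N h)
  have hNdeg : ∀ θ : IrrCharacter N, ¬ p ∣ charDegree (θ : N → ℂ) := by
    intro θ hθ
    obtain ⟨χ, hχ⟩ := exists_over (N := N) θ
    obtain ⟨e, he, -⟩ := charDegree_dvd_over N hχ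
    exact hdeg χ (he ▸ hθ.mul_left e)
  have hQn := ih (Nat.card N) (hcard ▸ hNcard) N rfl (CfsgH1.IsPSolvable.subgroup hsol N) hNdeg (default : Sylow p N)
  haveI := Sylow.characteristic_of_normal _ hQn
  haveI hQ'n : (((default : Sylow p N) : Subgroup N).map N.subtype).Normal := inferInstance
  obtain ⟨Q, hQdef⟩ : ∃ Q : Subgroup G, Q = ((default : Sylow p N) : Subgroup N).map N.subtype := ⟨_, rfl⟩
  rw [← hQdef] at hQ'n
  have hQp : IsPGroup p Q := by rw [hQdef]; exact (default : Sylow p N).isPGroup'.map _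
  have hQP : Q ≤ P := normal_le_sylow P Q hQp
  by_cases hQ : Q = ⊥
  · have hpN : ¬ p ∣ Nat.card N := by
      have h1 : ((default : Sylow p N) : Subgroup N) = ⊥ := by
        rw [hQ] at hQdef
        exact (Subgroup.map_eq_bot_iff_of_injective _ N.subtype_injective).1 hQdef.symm
      have h2 := (default : Sylow p N).not_dvd_index
      rw [h1, Subgroup.index_bot] at h2
      exact h2
    rcases hgood with ⟨m, hm⟩ | hcop
    · have hinv : ∀ (x : G) (θ : IrrCharacter N), cjI N x θ = θ := by
        intro x θ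
        obtain ⟨χ, hχ⟩ := exists_over (N := N) θ
        obtain ⟨e, he, hed⟩ := charDegree_dvd_over N hχ
        rw [hm] at hed
        obtain ⟨j, -, hj⟩ := (Nat.dvd_prime_pow hp.out).1 hed
        have hj0 : j = 0 := by
          by_contra hj0
          apply hdeg χ
          rw [he, hj]
          exact (dvd_pow_self p hj0).mul_right _
        refine inv_of_deg hχ ?_ x
        rw [he, hj, hj0, pow_zero, one_mul]
      have hc := fixes_all (p := p) hpN P.isPGroup' (fun x _ θ => hinv x θ)
      have htop : (P : Subgroup G) ⊔ N = ⊤ := by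
        rw [← Subgroup.index_eq_one]
        have h1 : ((P : Subgroup G) ⊔ N).index ∣ p ^ m := hm ▸ Subgroup.index_dvd_of_le le_sup_right
        obtain ⟨j, -, hj⟩ := (Nat.dvd_prime_pow hp.out).1 h1
        have h2 : ((P : Subgroup G) ⊔ N).index ∣ (P : Subgroup G).index := Subgroup.index_dvd_of_le le_sup_left
        rcases Nat.eq_zero_or_pos j with h0 | h0
        · rw [hj, h0, pow_zero]
        · exfalso
          apply P.not_dvd_index
          rw [hj] at h2
          exact (dvd_pow_self p h0.ne').trans h2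
      rw [← Subgroup.normalizer_eq_top_iff, eq_top_iff, ← htop]
      refine sup_le Subgroup.le_normalizer fun n hn => ?_
      rw [Subgroup.mem_normalizer_iff]
      have hcomm : ∀ x ∈ (P : Subgroup G), n * x * n⁻¹ = x := fun x hx => by
        rw [← hc n hn x hx, mul_inv_cancel_right]
      intro x
      constructor
      · intro hx; rw [hcomm x hx]; exact hx
      · intro hx
        have h1 := hcomm _ hx
        have h2 : n * x * n⁻¹ = x := by
          have h3 : n * (n * x * n⁻¹) * n⁻¹ = n * x * n⁻¹ := h1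
          have h4 : n * x * n⁻¹ = x := by
            have h5 := congrArg (fun t => n⁻¹ * t * n) h3
            simpa [mul_assoc] using h5
          exact h4
        rw [h2] at hx; exact hx
    · have h1 : ¬ p ∣ Nat.card G := by
        rw [← N.card_mul_index]
        intro h
        rcases (hp.out.dvd_mul).1 h with h | h
        · exact hpN h
        · exact (Nat.Prime.coprime_iff_not_dvd hp.out).1 hcop.symm h
      have h2 : (P : Subgroup G) = ⊥ := by
        obtain ⟨k, hk⟩ := IsPGroup.iff_card.1 P.isPGroup'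
        rw [← Subgroup.card_eq_one]
        rcases Nat.eq_zero_or_pos k with h0 | h0
        · rw [hk, h0, pow_zero]
        · exfalso
          apply h1
          refine Dvd.dvd.trans ?_ (Subgroup.card_subgroup_dvd_card (P : Subgroup G))
          rw [hk]
          exact dvd_pow_self p h0.ne'
      rw [h2]
      infer_instance
  · haveI : Finite (G ⧸ Q) := Quotient.finite _
    have hlt : Nat.card (G ⧸ Q) < Nat.card G := by
      rw [← Subgroup.index_eq_card]
      have h1 := Q.card_mul_index
      have h2 : 1 < Nat.card Q := by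
        rcases Nat.lt_or_ge 1 (Nat.card Q) with h | h
        · exact h
        · exfalso
          have h4 : 0 < Nat.card Q := Nat.card_pos
          exact hQ (Subgroup.card_eq_one.1 (by omega))
      have h3 : 0 < Q.index := Nat.pos_of_ne_zero Q.index_ne_zero_of_finite
      nlinarith
    have h1 := ih (Nat.card (G ⧸ Q)) (hcard ▸ hlt) (G ⧸ Q) rfl (psolvable_quotient hsol Q)
      (fun χ h => hdeg (inflI Q χ) h) (P.mapSurjective (QuotientGroup.mk'_surjective Q))
    rw [Sylow.coe_mapSurjective] at h1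
    have h2 : (((P : Subgroup G).map (QuotientGroup.mk' Q)).comap (QuotientGroup.mk' Q)) = P := by
      rw [Subgroup.comap_map_eq, QuotientGroup.ker_mk', sup_eq_left.2 hQP]
    rw [← h2]
    exact h1.comap _

/-- a normal p-subgroup over which all characters have degree prime to p is abelian -/
theorem comm_of_degrees {G : Type u} [Group G] [Finite G] (N : Subgroup G) [hNn : N.Normal]
    (hN : IsPGroup p N) (hdeg : ∀ χ : IrrCharacter G, ¬ p ∣ charDegree (χ : G → ℂ)) :
    IsMulCommutative N := by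
  classical
  haveI : Fintype N := Fintype.ofFinite _
  haveI : Fintype G := Fintype.ofFinite _
  refine ⟨⟨fun a b => comm_of_linear (G := N) (fun θ => ?_) a b⟩⟩
  obtain ⟨χ, hχ⟩ := exists_over (N := N) θ
  obtain ⟨e, he, -⟩ := charDegree_dvd_over N hχ
  rcases pgroup_degree' hN θ with h | h
  · exact h
  · exact absurd (he ▸ h.mul_left e) (hdeg χ)

theorem ito_michler_psolv {G : Type u} [Group G] [Finite G] (hsolv : IsPSolvable p G) (P : Sylow p G) :
    ((P : Subgroup G).Normal ∧ IsMulCommutative P) ↔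
      ∀ χ : IrrCharacter G, ¬ p ∣ charDegree (χ : G → ℂ) := by
  classical
  haveI : Fintype G := Fintype.ofFinite _
  constructor
  · rintro ⟨hn, hc⟩ χ h
    haveI := hn
    obtain ⟨d, hd, hdd⟩ := ito (P : Subgroup G) (fun a ha b hb =>
      congrArg Subtype.val (hc.is_comm.comm (⟨a, ha⟩ : P) ⟨b, hb⟩)) χ.2
    rw [(IsIrr.one_eq χ.2).1] at hd
    have h1 : charDegree (χ : G → ℂ) = d := by exact_mod_cast hd
    rw [h1] at h
    exact P.not_dvd_index (h.trans hdd)
  · intro hdeg
    have h1 := psolv_sylow_normal (p := p) _ G rfl hsolv hdeg P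
    exact ⟨h1, comm_of_degrees _ P.isPGroup' hdeg⟩

end CfsgH5
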