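import Cfsg.Agent.H5.ItoM
import Cfsg.Agent.H5.Princ2

/-!
# Height zero in the principal block of a p-solvable group
-/

set_option autoImplicit false
open Cfsg MonoidAlgebra
open CfsgH4 hiding centralChar sum_conj regInner_symm

namespace CfsgH5

universe u

variable {p : ℕ} [hp : Fact p.Prime] {M : Ideal AlgInt}

theorem one_block {G : Type u} [Group G] [Finite G] (hM : IsPModular p M) (P : Subgroup G) [hPn : P.Normal]
    (hP : IsPGroup p P) (hC : Subgroup.centralizer (P : Set G) ≤ P) (χ ψ : IrrCharacter G) :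
    SameBlock M (χ : G → ℂ) (ψ : G → ℂ) := by
  haveI := IsPModular.isPrime hM
  apply sameBlock_of_regular hM
  intro g hg
  by_cases h1 : g ∈ Subgroup.centralizer (P : Set G)
  · have h2 : g = 1 := by
      have h3 := hC h1
      obtain ⟨k, hk⟩ := hP ⟨g, h3⟩
      have h4 : g ^ p ^ k = 1 := congrArg Subtype.val hk
      have h5 := orderOf_dvd_of_pow_eq_one h4
      obtain ⟨j, -, hj⟩ := (Nat.dvd_prime_pow hp.out).1 h5
      rcases Nat.eq_zero_or_pos j with h0 | h0
      · rw [h0, pow_zero, orderOf_eq_one_iff] at hj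
        exact hj
      · exact absurd (hj ▸ dvd_pow_self p h0.ne') hg
    have h3 : ∀ ζ : IrrCharacter G, centralChar (ζ : G → ℂ) g = 1 := by
      intro ζ
      have h0 : (ζ : G → ℂ) 1 ≠ 0 := by
        rw [(IsIrr.one_eq ζ.2).1]
        exact_mod_cast (IsIrr.one_eq ζ.2).2.ne'
      have h5 : Subgroup.centralizer ({(1 : G)} : Set G) = ⊤ := by
        rw [eq_top_iff]
        intro x _
        rw [Subgroup.mem_centralizer_singleton_iff]
        simp
      rw [centralChar, h2, h5, Subgroup.index_top, Nat.cast_one, one_mul, div_self h0]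
    rw [h3, h3, sub_self]
    exact memLocalIdeal_zero
  · exact MemLocalIdeal.sub (centralChar_mem_of_notMem hM hP h1 χ.2) (centralChar_mem_of_notMem hM hP h1 ψ.2)

theorem height_principal_iff {G : Type u} [Group G] [Finite G] (hM : IsPModular p M) (χ : IrrCharacter G) :
    blockHeight p (principalBlock M G) (χ : G → ℂ) = 0 ↔ ¬ p ∣ charDegree (χ : G → ℂ) := by
  haveI := IsPModular.isPrime hM
  have h1 : charDegree ((irrOne G : IrrCharacter G) : G → ℂ) = 1 := by
    have h2 := (IsIrr.one_eq (irrOne G).2).1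
    have h3 : ((irrOne G : IrrCharacter G) : G → ℂ) 1 = 1 := rfl
    rw [h3] at h2
    exact_mod_cast h2.symm
  have h0 : sInf ((fun χ : IrrCharacter G => (charDegree (χ : G → ℂ)).factorization p) ''
      (principalBlock M G)) = 0 := by
    apply Nat.sInf_eq_zero.2
    left
    exact ⟨irrOne G, irrOne_mem, by simp only [h1]; simp⟩
  rw [blockHeight, h0, Nat.sub_zero]
  rw [Nat.factorization_eq_zero_iff]
  constructor
  · rintro (h | h | h)
    · exact absurd hp.out h
    · exact h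
    · exact absurd h (IsIrr.one_eq χ.2).2.ne'
  · intro h; exact Or.inr (Or.inl h)

theorem principal_height_psolv {G : Type u} [Group G] [Finite G] (hM : IsPModular p M)
    (hsolv : IsPSolvable p G) (P : Sylow p G) :
    IsMulCommutative P ↔ ∀ χ ∈ principalBlock M G, blockHeight p (principalBlock M G) (χ : G → ℂ) = 0 := by
  classical
  haveI := IsPModular.isPrime hM
  haveI : Fintype G := Fintype.ofFinite _
  obtain ⟨K, hK⟩ : ∃ K : Subgroup G, K = pPrimeCore p G := ⟨_, rfl⟩
  haveI hKn : K.Normal := by rw [hK]; infer_instance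
  have hKp : ¬ p ∣ Nat.card K := by rw [hK]; exact not_dvd_pPrimeCore hp.out
  have hbb : pPrimeCore p (G ⧸ K) = ⊥ := by subst hK; exact CfsgH2.pPrimeCore_quotient_pPrimeCore p
  have hsq : IsPSolvable p (G ⧸ K) := psolvable_quotient hsolv K
  have hC := hall_higman hsq hbb
  have hOp : IsPGroup p (pCore p (G ⧸ K)) := CfsgH2.isPGroup_pCore p
  have hall : (∀ χ ∈ principalBlock M G, blockHeight p (principalBlock M G) (χ : G → ℂ) = 0) ↔
      ∀ χ : IrrCharacter (G ⧸ K), ¬ p ∣ charDegree (χ : G ⧸ K → ℂ) := by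
    constructor
    · intro h χ
      have h1 : inflI K χ ∈ principalBlock M G := by
        have h2 := one_block hM (pCore p (G ⧸ K)) hOp hC (irrOne (G ⧸ K)) χ
        exact sameBlock_infl (N := K) h2
      have h2 := h _ h1
      rw [height_principal_iff hM] at h2
      exact h2
    · intro h χ hχ
      rw [height_principal_iff hM]
      obtain ⟨χ', rfl⟩ := exists_defl K (χ := χ) (fun n hn => principal_ker hM hχ (hK ▸ hn))
      exact h χ'
  obtain ⟨Pb, hPb⟩ : ∃ Pb : Sylow p (G ⧸ K), Pb = P.mapSurjective (QuotientGroup.mk'_surjective K) := ⟨_, rfl⟩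
  rw [hall, ← ito_michler_psolv hsq Pb]
  have hPbc : (Pb : Subgroup (G ⧸ K)) = (P : Subgroup G).map (QuotientGroup.mk' K) := by
    rw [hPb]; rfl
  have hinj : ∀ x ∈ (P : Subgroup G), x ∈ K → x = 1 := by
    intro x hx hxK
    have h1 : orderOf x ∣ Nat.card K := by
      have := orderOf_dvd_natCard (⟨x, hxK⟩ : K)
      rwa [Subgroup.orderOf_mk] at this
    obtain ⟨k, hk⟩ := P.isPGroup' ⟨x, hx⟩
    have h4 : x ^ p ^ k = 1 := congrArg Subtype.val hk
    have h5 := orderOf_dvd_of_pow_eq_one h4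
    obtain ⟨j, -, hj⟩ := (Nat.dvd_prime_pow hp.out).1 h5
    rcases Nat.eq_zero_or_pos j with h0 | h0
    · rw [h0, pow_zero, orderOf_eq_one_iff] at hj
      exact hj
    · exact absurd ((dvd_pow_self p h0.ne').trans (hj ▸ h1)) hKp
  constructor
  · intro hab
    have hab' : ∀ a ∈ (Pb : Subgroup (G ⧸ K)), ∀ b ∈ (Pb : Subgroup (G ⧸ K)), a * b = b * a := by
      rw [hPbc]
      rintro _ ⟨a, ha, rfl⟩ _ ⟨b, hb, rfl⟩
      have h1 : a * b = b * a := congrArg Subtype.val (hab.is_comm.comm (⟨a, ha⟩ : P) ⟨b, hb⟩)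
      rw [← map_mul, ← map_mul, h1]
    have h1 : pCore p (G ⧸ K) ≤ Pb := normal_le_sylow Pb _ hOp
    have h2 : (Pb : Subgroup (G ⧸ K)) ≤ Subgroup.centralizer ((pCore p (G ⧸ K) : Subgroup (G ⧸ K)) : Set (G ⧸ K)) := by
      intro a ha
      rw [Subgroup.mem_centralizer_iff]
      intro b hb
      exact hab' b (h1 hb) a ha
    have h3 : (Pb : Subgroup (G ⧸ K)) = pCore p (G ⧸ K) := le_antisymm (h2.trans hC) h1
    refine ⟨by rw [h3]; infer_instance, ⟨⟨fun a b => Subtype.ext (hab' a a.2 b b.2)⟩⟩⟩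
  · rintro ⟨-, hc⟩
    refine ⟨⟨fun a b => Subtype.ext ?_⟩⟩
    have h1 : ((a : G) : G ⧸ K) * ((b : G) : G ⧸ K) = ((b : G) : G ⧸ K) * ((a : G) : G ⧸ K) := by
      have ha : ((a : G) : G ⧸ K) ∈ (Pb : Subgroup (G ⧸ K)) := by rw [hPbc]; exact ⟨a, a.2, rfl⟩
      have hb : ((b : G) : G ⧸ K) ∈ (Pb : Subgroup (G ⧸ K)) := by rw [hPbc]; exact ⟨b, b.2, rfl⟩
      exact congrArg Subtype.val (hc.is_comm.comm (⟨_, ha⟩ : Pb) ⟨_, hb⟩)
    have h2 : ((a : G) * b)⁻¹ * (b * a) ∈ K := by
      rw [← QuotientGroup.eq]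
      exact h1
    have h3 := hinj _ ((P : Subgroup G).mul_mem ((P : Subgroup G).inv_mem ((P : Subgroup G).mul_mem a.2 b.2))
      ((P : Subgroup G).mul_mem b.2 a.2)) h2
    exact inv_mul_eq_one.1 h3

end CfsgH5
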