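import Cfsg.Agent.H5.ClassCount
import Cfsg.Agent.H5.Quick2
import Cfsg.Agent.H5.Princ2
import Cfsg.Agent.H4.Degrees

/-!
# The bound `k(GV) ≤ |C||V| - (|G| - k(G))`
-/

set_option autoImplicit false
open Cfsg
open CfsgH4 hiding centralChar sum_conj

namespace CfsgH5

open scoped ComplexConjugate

variable {X : Type*} [Group X] [Fintype X]

theorem centralizer_pow_unit {k : ℕ} (hk : k.Coprime (Nat.card X)) (v : X) :
    Subgroup.centralizer ({v ^ k} : Set X) = Subgroup.centralizer ({v} : Set X) := by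
  ext x
  rw [Subgroup.mem_centralizer_singleton_iff, Subgroup.mem_centralizer_singleton_iff]
  constructor
  · intro h
    obtain ⟨m, hm⟩ := exists_pow_eq_self_of_coprime (x := v) (Nat.Coprime.coprime_dvd_right (orderOf_dvd_natCard v) hk)
    have h1 : Commute x ((v ^ k) ^ m) := Commute.pow_right (show Commute x (v ^ k) from h) m
    rw [hm] at h1
    exact h1
  · intro h
    exact Commute.pow_right (show Commute x v from h) k

theorem sum_sq_centralizer (g : X) : ∑ χ : IrrCharacter X, ‖(χ : X → ℂ) g‖ ^ 2 = (Nat.card (Subgroup.centralizer ({g} : Set X)) : ℝ) := by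
  have h5 := col_orth_isConj (IsConj.refl g)
  have h6 : (∑ χ : IrrCharacter X, (χ : X → ℂ) g * conj ((χ : X → ℂ) g)) = ((∑ χ : IrrCharacter X, ‖(χ : X → ℂ) g‖ ^ 2 : ℝ) : ℂ) := by
    push_cast
    refine Finset.sum_congr rfl fun χ _ => ?_
    rw [Complex.mul_conj, Complex.normSq_eq_norm_sq]
    push_cast; rfl
  rw [h6] at h5
  exact_mod_cast h5

theorem deg_not_dvd {p : ℕ} (V : Subgroup X) [V.Normal] (hidx : ¬ p ∣ V.index)
    (hab : ∀ a ∈ V, ∀ b ∈ V, a * b = b * a) {χ : X → ℂ} (hχ : IsIrrCharacter X χ) : ∃ d : ℕ, χ 1 = d ∧ ¬ p ∣ d := by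
  obtain ⟨d, hd, hd2⟩ := ito V hab hχ
  exact ⟨d, hd, fun h => hidx (h.trans hd2)⟩

theorem nonvanish_on_V {p : ℕ} [hp : Fact p.Prime] (V : Subgroup X) [V.Normal] (hVp : IsPGroup p V) (hidx : ¬ p ∣ V.index)
    (hab : ∀ a ∈ V, ∀ b ∈ V, a * b = b * a) {χ : X → ℂ} (hχ : IsIrrCharacter X χ) {v : X} (hv : v ∈ V) : χ v ≠ 0 := by
  obtain ⟨d, hd, hd2⟩ := deg_not_dvd V hidx hab hχ
  obtain ⟨k, hk⟩ := hVp ⟨v, hv⟩
  exact ne_zero_of_p_element hp.out (IsIrr.isCharacter hχ) hd hd2 (congrArg Subtype.val hk)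

theorem card_classes_congr {A B : Type*} [Group A] [Group B] (ε : A ≃* B) : Nat.card (ConjClasses A) = Nat.card (ConjClasses B) := by
  apply Nat.card_congr
  exact Quotient.congr ε.toEquiv (fun a b => by
    constructor
    · intro h; exact ε.toMonoidHom.map_isConj h
    · intro h
      have h6 : IsConj (ε.symm (ε a)) (ε.symm (ε b)) := ε.symm.toMonoidHom.map_isConj h
      rw [ε.symm_apply_apply, ε.symm_apply_apply] at h6
      exact h6)

theorem kgv_bound {p : ℕ} [hp : Fact p.Prime] (V : Subgroup X) [hVn : V.Normal] (hVp : IsPGroup p V) (hidx : ¬ p ∣ V.index)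
    (hab : ∀ a ∈ V, ∀ b ∈ V, a * b = b * a) (v : X) (hv : v ∈ V) :
    Nat.card (ConjClasses X) + Nat.card (X ⧸ V) ≤ Nat.card (Subgroup.centralizer ({v} : Set X)) + Nat.card (ConjClasses (X ⧸ V)) := by
  classical
  haveI : NeZero (Nat.card X) := ⟨Nat.card_pos.ne'⟩
  haveI := Fintype.ofFinite (X ⧸ V)
  set U := (ZMod (Nat.card X))ˣ with hU
  have hφ : (0 : ℝ) < (Fintype.card U : ℝ) := by exact_mod_cast Fintype.card_pos
  have h1 : ∀ χ : IrrCharacter X, (Fintype.card U : ℝ) * (if (∀ n ∈ V, (χ : X → ℂ) n = (χ : X → ℂ) 1) then ‖(χ : X → ℂ) 1‖ ^ 2 else 1) ≤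
      ∑ k : U, ‖(χ : X → ℂ) (v ^ (k : ZMod (Nat.card X)).val)‖ ^ 2 := by
    intro χ
    split_ifs with h
    · rw [Finset.sum_congr rfl fun k _ => by rw [h _ (V.pow_mem hv _)], Finset.sum_const, Finset.card_univ, nsmul_eq_mul]
    · rw [mul_one]
      exact char_units_sq (IsIrr.isCharacter χ.2) v (fun k => nonvanish_on_V V hVp hidx hab χ.2 (V.pow_mem hv _))
  have h2 : (Fintype.card U : ℝ) * ∑ χ : IrrCharacter X, (if (∀ n ∈ V, (χ : X → ℂ) n = (χ : X → ℂ) 1) then ‖(χ : X → ℂ) 1‖ ^ 2 else 1) ≤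
      (Fintype.card U : ℝ) * (Nat.card (Subgroup.centralizer ({v} : Set X)) : ℝ) := by
    calc (Fintype.card U : ℝ) * ∑ χ : IrrCharacter X, (if (∀ n ∈ V, (χ : X → ℂ) n = (χ : X → ℂ) 1) then ‖(χ : X → ℂ) 1‖ ^ 2 else 1)
        ≤ ∑ χ : IrrCharacter X, ∑ k : U, ‖(χ : X → ℂ) (v ^ (k : ZMod (Nat.card X)).val)‖ ^ 2 := by
          rw [Finset.mul_sum]; exact Finset.sum_le_sum fun χ _ => h1 χ
      _ = ∑ k : U, (Nat.card (Subgroup.centralizer ({v} : Set X)) : ℝ) := by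
          rw [Finset.sum_comm]
          refine Finset.sum_congr rfl fun k _ => ?_
          rw [sum_sq_centralizer, centralizer_pow_unit (unit_val_coprime k)]
      _ = _ := by rw [Finset.sum_const, Finset.card_univ, nsmul_eq_mul]
  have h3 := le_of_mul_le_mul_left h2 hφ
  have h4 : ∑ χ : IrrCharacter X, (if (∀ n ∈ V, (χ : X → ℂ) n = (χ : X → ℂ) 1) then ‖(χ : X → ℂ) 1‖ ^ 2 else 1) =
      (Nat.card (X ⧸ V) : ℝ) + (Nat.card (ConjClasses X) : ℝ) - (Nat.card (ConjClasses (X ⧸ V)) : ℝ) := by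
    have e1 : ∑ χ : IrrCharacter X, (if (∀ n ∈ V, (χ : X → ℂ) n = (χ : X → ℂ) 1) then ‖(χ : X → ℂ) 1‖ ^ 2 else 1) =
        ∑ χ : IrrCharacter X, (if (∀ n ∈ V, (χ : X → ℂ) n = (χ : X → ℂ) 1) then ‖(χ : X → ℂ) 1‖ ^ 2 else 0) +
        (∑ χ : IrrCharacter X, (1 : ℝ) - ∑ χ : IrrCharacter X, (if (∀ n ∈ V, (χ : X → ℂ) n = (χ : X → ℂ) 1) then (1 : ℝ) else 0)) := by
      rw [← Finset.sum_sub_distrib, ← Finset.sum_add_distrib]
      refine Finset.sum_congr rfl fun χ _ => ?_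
      split_ifs <;> ring
    rw [e1, sum_ker V (fun χ : IrrCharacter X => ‖(χ : X → ℂ) 1‖ ^ 2), sum_ker V (fun _ : IrrCharacter X => (1 : ℝ))]
    have e2 : ∑ χ' : IrrCharacter (X ⧸ V), ‖((inflI V χ' : IrrCharacter X) : X → ℂ) 1‖ ^ 2 = (Nat.card (X ⧸ V) : ℝ) := by
      rw [← sum_norm_sq (X ⧸ V)]
      exact Finset.sum_congr rfl fun χ' _ => rfl
    rw [e2]
    simp only [Finset.sum_const, Finset.card_univ, nsmul_eq_mul, mul_one, ← Nat.card_eq_fintype_card, card_irr]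
    ring
  rw [h4] at h3
  have h5 : (Nat.card (ConjClasses X) : ℝ) + (Nat.card (X ⧸ V) : ℝ) ≤ (Nat.card (Subgroup.centralizer ({v} : Set X)) : ℝ) + (Nat.card (ConjClasses (X ⧸ V)) : ℝ) := by
    linarith
  exact_mod_cast h5

/-- the centralizer of an element of an abelian normal subgroup with complement -/
theorem card_centralizer_compl (V : Subgroup X) (hab : ∀ a ∈ V, ∀ b ∈ V, a * b = b * a)
    (G : Subgroup X) (hGV : Subgroup.IsComplement' V G) (v : X) (hv : v ∈ V) :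
    Nat.card (Subgroup.centralizer ({v} : Set X)) = Nat.card ↥(G ⊓ Subgroup.centralizer ({v} : Set X)) * Nat.card V := by
  rw [mul_comm, ← Nat.card_prod]
  symm
  have hmem : ∀ x : X, x ∈ V → x ∈ Subgroup.centralizer ({v} : Set X) := fun x hx =>
    Subgroup.mem_centralizer_singleton_iff.2 (hab x hx v hv)
  apply Nat.card_congr
  refine Equiv.ofBijective (fun q : V × ↥(G ⊓ Subgroup.centralizer ({v} : Set X)) =>
    (⟨(q.1 : X) * q.2, Subgroup.mul_mem _ (hmem _ q.1.2) (Subgroup.mem_inf.1 q.2.2).2⟩ : Subgroup.centralizer ({v} : Set X))) ⟨?_, ?_⟩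
  · rintro ⟨a, b⟩ ⟨a', b'⟩ h
    have h1 : (a : X) * b = a' * b' := congrArg Subtype.val h
    have h2 := hGV.1 (show (fun x : V × G => (x.1 : X) * x.2) (a, ⟨b, (Subgroup.mem_inf.1 b.2).1⟩) =
      (fun x : V × G => (x.1 : X) * x.2) (a', ⟨b', (Subgroup.mem_inf.1 b'.2).1⟩) from h1)
    have h3 : a = a' := congrArg Prod.fst h2
    have h4 : (b : X) = b' := congrArg (fun z : V × G => (z.2 : X)) h2
    exact Prod.ext h3 (Subtype.ext h4)
  · rintro ⟨x, hx⟩
    obtain ⟨⟨a, b⟩, hab'⟩ := hGV.2 x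
    have h1 : (a : X) * b = x := hab'
    have h2 : (b : X) ∈ Subgroup.centralizer ({v} : Set X) := by
      have h3 : (b : X) = (a : X)⁻¹ * x := by rw [← h1]; group
      rw [h3]
      exact Subgroup.mul_mem _ (Subgroup.inv_mem _ (hmem _ a.2)) hx
    exact ⟨(a, ⟨b, Subgroup.mem_inf.2 ⟨b.2, h2⟩⟩), Subtype.ext h1⟩

end CfsgH5
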