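import Mathlib
import Cfsg.Agent.H5.BSd
import Cfsg.Agent.H5.Third

/-!
# Külshammer's formula for the principal block idempotent
-/

set_option autoImplicit false
open scoped ComplexConjugate
open Cfsg MonoidAlgebra
open CfsgH4 hiding centralChar sum_conj

namespace CfsgH5

section Pow

variable {G : Type*} [Group G] [Fintype G]

open Classical in
theorem coeff_pow (α : MonoidAlgebra ℂ G) (n : ℕ) (g : G) :
    (α ^ n).coeff g = ∑ v : List.Vector G n, if v.toList.prod = g then (v.toList.map α.coeff).prod else 0 := by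
  induction n generalizing g with
  | zero =>
    rw [pow_zero]
    have hu : (Finset.univ : Finset (List.Vector G 0)) = {List.Vector.nil} := by
      ext v; simp [List.Vector.eq_nil v]
    rw [hu, Finset.sum_singleton]
    simp only [List.Vector.toList_nil, List.prod_nil, List.map_nil]
    rw [MonoidAlgebra.one_def, coeff_single_apply]
  | succ n ih =>
    rw [pow_succ', coeff_mul_left]
    let e : G × List.Vector G n ≃ List.Vector G (n + 1) :=
      { toFun := fun q => q.1 ::ᵥ q.2
        invFun := fun v => (v.head, v.tail)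
        left_inv := fun q => by simp
        right_inv := fun v => by simp }
    rw [← Equiv.sum_comp e, Fintype.sum_prod_type]
    refine Finset.sum_congr rfl fun x _ => ?_
    rw [ih, Finset.mul_sum]
    refine Finset.sum_congr rfl fun v _ => ?_
    show α.coeff x * _ = if (x ::ᵥ v).toList.prod = g then ((x ::ᵥ v).toList.map α.coeff).prod else 0
    rw [List.Vector.toList_cons, List.prod_cons, List.map_cons, List.prod_cons]
    have h1 : x * v.toList.prod = g ↔ v.toList.prod = x⁻¹ * g := by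
      rw [eq_inv_mul_iff_mul_eq]
    simp only [h1]
    split_ifs
    · rfl
    · rw [mul_zero]

/-- rotation of vectors -/
def rot (n : ℕ) (k : ℕ) (v : List.Vector G n) : List.Vector G n := ⟨v.toList.rotate k, by rw [List.length_rotate]; exact v.2⟩

theorem rot_zero (n : ℕ) (v : List.Vector G n) : rot n 0 v = v := Subtype.ext (List.rotate_zero _)
theorem rot_rot (n j k : ℕ) (v : List.Vector G n) : rot n k (rot n j v) = rot n (j + k) v :=
  Subtype.ext (List.rotate_rotate v.toList j k)
theorem rot_self (n : ℕ) (v : List.Vector G n) : rot n n v = v := by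
  apply Subtype.ext
  have h := List.rotate_length v.toList
  rw [v.toList_length] at h
  exact h

/-- the rotation as a permutation -/
def rotE (n : ℕ) (hn : 0 < n) : Equiv.Perm (List.Vector G n) where
  toFun := rot n 1
  invFun := rot n (n - 1)
  left_inv v := by rw [rot_rot, show 1 + (n - 1) = n by omega, rot_self]
  right_inv v := by rw [rot_rot, show n - 1 + 1 = n by omega, rot_self]

theorem rotE_pow (n : ℕ) (hn : 0 < n) (k : ℕ) (v : List.Vector G n) : (rotE n hn ^ k) v = rot n k v := by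
  induction k with
  | zero => rw [pow_zero, Equiv.Perm.one_apply, rot_zero]
  | succ k ih =>
    rw [pow_succ', Equiv.Perm.mul_apply, ih]
    exact rot_rot n k 1 v

variable {p : ℕ} [hp : Fact p.Prime] {M : Ideal AlgInt}

open Classical in
/-- the coefficient of `1` in a `p ^ n`-th power -/
theorem coeff_pow_one (hM : IsPModular p M) (α : MonoidAlgebra ℂ G) (hα : InS M α) (n : ℕ) :
    MemLocalIdeal M ((α ^ p ^ n).coeff 1 - ∑ g : G, if g ^ p ^ n = 1 then α.coeff g ^ p ^ n else 0) := by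
  haveI := IsPModular.isPrime hM
  have hq : 0 < p ^ n := pow_pos hp.out.pos n
  obtain ⟨f, hf⟩ : ∃ f : List.Vector G (p ^ n) → ℂ, f = fun v => if v.toList.prod = 1 then (v.toList.map α.coeff).prod else 0 := ⟨_, rfl⟩
  have hinv : ∀ v, f (rotE (p ^ n) hq v) = f v := by
    intro v
    rw [hf]
    show (if (v.toList.rotate 1).prod = 1 then ((v.toList.rotate 1).map α.coeff).prod else 0) = _
    have h1 : (v.toList.rotate 1).prod = 1 ↔ v.toList.prod = 1 := by
      constructor
      · intro h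
        have h2 := List.prod_rotate_eq_one_of_prod_eq_one h (p ^ n - 1)
        rw [List.rotate_rotate, show 1 + (p ^ n - 1) = p ^ n by omega] at h2
        have h3 := List.rotate_length v.toList
        rw [v.toList_length] at h3
        rwa [h3] at h2
      · intro h; exact List.prod_rotate_eq_one_of_prod_eq_one h 1
    simp only [h1]
    congr 1
    exact ((List.rotate_perm v.toList 1).map α.coeff).prod_eq
  obtain ⟨σ, hσ⟩ : ∃ σ : Equiv.Perm (List.Vector G (p ^ n)), σ = rotE (p ^ n) hq := ⟨_, rfl⟩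
  have hσq : σ ^ p ^ n = 1 := by
    ext1 v
    rw [hσ, rotE_pow, rot_self]; rfl
  obtain ⟨m, -, hm⟩ := (Nat.dvd_prime_pow hp.out).1 (orderOf_dvd_of_pow_eq_one hσq)
  have hP : IsPGroup p (Subgroup.zpowers σ) := IsPGroup.of_card (n := m) (by rw [Nat.card_zpowers, hm])
  have hinv' : ∀ (k : Subgroup.zpowers σ) (v : List.Vector G (p ^ n)), f (k • v) = f v := by
    intro k v
    obtain ⟨j, hj⟩ := (mem_powers_iff_mem_zpowers.2 k.2)
    have h1 : k • v = (σ ^ j) v := by
      show (k : Equiv.Perm (List.Vector G (p ^ n))) v = _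
      rw [← hj]
    rw [h1]
    clear h1 hj
    induction j with
    | zero => simp
    | succ j ih => rw [pow_succ', Equiv.Perm.mul_apply, hσ, hinv, ← hσ, ih]
  have hT : ∀ v, f v ∈ (locRing M).toAddSubgroup := by
    intro v
    rw [hf]
    show MemLocalRing M _
    simp only
    split_ifs
    · have : ∀ l : List G, MemLocalRing M (l.map α.coeff).prod := by
        intro l
        induction l with
        | nil => exact memLocalRing_one
        | cons a l ih => rw [List.map_cons, List.prod_cons]; exact MemLocalRing.mul (hα a) ih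
      exact this _
    · exact memLocalRing_zero
  obtain ⟨t, ht, h⟩ := orbit_sum hP f hinv' (locRing M).toAddSubgroup hT
  have h1 : (α ^ p ^ n).coeff 1 = ∑ v : List.Vector G (p ^ n), f v := by rw [coeff_pow, hf]
  -- the fixed points
  have hfix : ∀ v : List.Vector G (p ^ n), v ∈ MulAction.fixedPoints (Subgroup.zpowers σ) (List.Vector G (p ^ n)) ↔
      ∃ g : G, v = List.Vector.replicate (p ^ n) g := by
    intro v
    constructor
    · intro hv
      have h2 : σ v = v := hv ⟨σ, Subgroup.mem_zpowers σ⟩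
      rw [hσ] at h2
      have h3 : v.toList.rotate 1 = v.toList := congrArg Subtype.val h2
      obtain ⟨g, hg⟩ := List.rotate_one_eq_self_iff_eq_replicate.1 h3
      refine ⟨g, Subtype.ext ?_⟩
      rw [v.toList_length] at hg
      exact hg
    · rintro ⟨g, rfl⟩ k
      obtain ⟨j, hj⟩ := (mem_powers_iff_mem_zpowers.2 k.2)
      show (k : Equiv.Perm (List.Vector G (p ^ n))) _ = _
      rw [← hj]
      show (σ ^ j) _ = _
      rw [hσ, rotE_pow]
      exact Subtype.ext (List.rotate_replicate g (p ^ n) j)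
  have h2 : (∑ v : List.Vector G (p ^ n), if v ∈ MulAction.fixedPoints (Subgroup.zpowers σ) (List.Vector G (p ^ n)) then f v else 0) =
      ∑ g : G, if g ^ p ^ n = 1 then α.coeff g ^ p ^ n else 0 := by
    rw [← Finset.sum_filter]
    symm
    refine Finset.sum_bij (fun g _ => List.Vector.replicate (p ^ n) g) ?_ ?_ ?_ ?_
    · intro g _
      exact Finset.mem_filter.2 ⟨Finset.mem_univ _, (hfix _).2 ⟨g, rfl⟩⟩
    · intro a _ b _ hab
      have h3 : List.replicate (p ^ n) a = List.replicate (p ^ n) b := congrArg Subtype.val hab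
      rw [List.replicate_right_inj hq.ne'] at h3
      exact h3
    · intro v hv
      obtain ⟨g, hg⟩ := (hfix v).1 (Finset.mem_filter.1 hv).2
      exact ⟨g, Finset.mem_univ _, hg.symm⟩
    · intro g _
      rw [hf]
      have h3 : (List.Vector.replicate (p ^ n) g).toList = List.replicate (p ^ n) g := rfl
      simp only [h3, List.prod_replicate, List.map_replicate]
  rw [h1, h, h2, add_sub_cancel_left, nsmul_eq_mul]
  exact MemLocalIdeal.mul_right (memLocalIdeal_p hM) ht

end Pow

section Nilp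

variable {G : Type*} [Group G] [Finite G] {p : ℕ} [hp : Fact p.Prime] {M : Ideal AlgInt}

theorem nilp_aux [hMp : M.IsPrime] {ν : MonoidAlgebra ℂ G} (hν : IsCen ν) (hνS : InS M ν)
    (h : ∀ χ : IrrCharacter G, MemLocalIdeal M (om (χ : G → ℂ) ν)) (s : Finset (IrrCharacter G)) :
    ∃ w : MonoidAlgebra ℂ G, IsCen w ∧ InS M w ∧ InP M (w - ν ^ s.card) ∧
      ∀ χ : IrrCharacter G, om (χ : G → ℂ) w = ∏ i ∈ s, (om (χ : G → ℂ) ν - om (i : G → ℂ) ν) := by
  classical
  induction s using Finset.induction_on with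
  | empty =>
    refine ⟨1, isCen_one, inS_one, ?_, fun χ => ?_⟩
    · rw [Finset.card_empty, pow_zero, sub_self]; exact inP_zero
    · rw [om_one χ.2]; simp
  | insert a s ha ih =>
    obtain ⟨w, hw, hwS, hwP, hwo⟩ := ih
    refine ⟨w * (ν - om (a : G → ℂ) ν • 1), hw.mul (hν.sub (isCen_one.smul _)), ?_, ?_, fun χ => ?_⟩
    · exact hwS.mul (hνS.sub (InS.smul (MemLocalIdeal.memLocalRing (h a)) inS_one))
    · have h1 : w * (ν - om (a : G → ℂ) ν • 1) - ν ^ (insert a s).card = (w - ν ^ s.card) * ν - om (a : G → ℂ) ν • w := by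
        rw [Finset.card_insert_of_notMem ha, pow_succ, mul_sub, sub_mul, mul_smul_comm, mul_one]
        abel
      rw [h1]
      exact (InP.mul_right hwP hνS).sub (InP.smul_right (h a) hwS)
    · rw [om_mul χ.2 hw, hwo, om_sub, om_smul, om_one χ.2, mul_one, Finset.prod_insert ha, mul_comm]

/-- central elements with all central characters in the ideal are nilpotent modulo the ideal -/
theorem nilp [hMp : M.IsPrime] {ν : MonoidAlgebra ℂ G} (hν : IsCen ν) (hνS : InS M ν)
    (h : ∀ χ : IrrCharacter G, MemLocalIdeal M (om (χ : G → ℂ) ν)) :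
    InP M (ν ^ Nat.card (IrrCharacter G)) := by
  classical
  haveI := Fintype.ofFinite G
  obtain ⟨w, hw, hwS, hwP, hwo⟩ := nilp_aux hν hνS h Finset.univ
  have h1 : w = 0 := by
    apply cen_eq_zero hw
    intro χ
    rw [hwo]
    exact Finset.prod_eq_zero (Finset.mem_univ χ) (sub_self _)
  rw [h1, zero_sub] at hwP
  have h2 : (Finset.univ : Finset (IrrCharacter G)).card = Nat.card (IrrCharacter G) := by
    rw [Nat.card_eq_fintype_card]; rfl
  rw [h2] at hwP
  intro g
  have h3 := hwP g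
  rw [coeff_neg] at h3
  have h4 := MemLocalIdeal.neg h3
  simpa using h4

theorem inP_p_smul [hMp : M.IsPrime] (hM : IsPModular p M) {α : MonoidAlgebra ℂ G} (hα : InS M α) {c : ℕ} (hc : p ∣ c) :
    InP M ((c : MonoidAlgebra ℂ G) * α) := by
  rw [← nsmul_eq_mul]
  intro g
  have h1 : (c • α).coeff g = (c : ℂ) * α.coeff g := by
    rw [← Nat.cast_smul_eq_nsmul ℂ, coeff_smul, Finsupp.smul_apply, smul_eq_mul]
  rw [h1]
  exact MemLocalIdeal.mul_right ((memLocalIdeal_natCast_iff hM c).2 hc) (hα g)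

theorem pow_idem (hM : IsPModular p M) {A : Set (IrrCharacter G)} (hA : InS M (eSet A)) {α : MonoidAlgebra ℂ G}
    (hα : IsCen α) (hαS : InS M α) (hαA : ∀ χ : IrrCharacter G, χ ∉ A → om (χ : G → ℂ) α = 0)
    (hα1 : ∀ χ ∈ A, MemLocalIdeal M (om (χ : G → ℂ) α - 1)) {n : ℕ} (hn : Nat.card (IrrCharacter G) ≤ p ^ n) :
    InP M (α ^ p ^ n - eSet A) := by
  classical
  haveI := IsPModular.isPrime hM
  obtain ⟨ν, hν⟩ : ∃ ν, ν = α - eSet A := ⟨_, rfl⟩
  have hνc : IsCen ν := by rw [hν]; exact hα.sub (isCen_eSet A)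
  have hνS : InS M ν := by rw [hν]; exact hαS.sub hA
  have hom : ∀ χ : IrrCharacter G, MemLocalIdeal M (om (χ : G → ℂ) ν) := by
    intro χ
    rw [hν, om_sub, om_eSet]
    split_ifs with h
    · exact hα1 χ h
    · rw [hαA χ h, sub_zero]; exact memLocalIdeal_zero
  have hnil := nilp hνc hνS hom
  have hαe : α = eSet A + ν := by rw [hν]; abel
  have hcomm : Commute (eSet A) ν := (isCen_eSet A).comm ν
  have hq : 0 < p ^ n := pow_pos hp.out.pos n
  have hpow : ∀ k : ℕ, eSet A ^ (k + 1) = eSet A := by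
    intro k
    induction k with
    | zero => rw [zero_add, pow_one]
    | succ k ih => rw [pow_succ, ih, eSet_mul_self]
  have hnilq : InP M (ν ^ p ^ n) := by
    rw [← Nat.sub_add_cancel hn, pow_add]
    exact InP.mul_left (hνS.pow _) hnil
  have htop : eSet A ^ p ^ n * ν ^ (p ^ n - p ^ n) * (((p ^ n).choose (p ^ n) : ℕ) : MonoidAlgebra ℂ G) = eSet A := by
    rw [Nat.sub_self, pow_zero, Nat.choose_self, Nat.cast_one, mul_one, mul_one, ← Nat.sub_add_cancel hq, hpow]
  rw [hαe, hcomm.add_pow, Finset.sum_range_succ, htop, add_sub_cancel_right]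
  refine inP_sum _ _ fun m hm => ?_
  have hm' := Finset.mem_range.1 hm
  rcases Nat.eq_zero_or_pos m with rfl | hm0
  · rw [pow_zero, one_mul, Nat.sub_zero, Nat.choose_zero_right, Nat.cast_one, mul_one]
    exact hnilq
  · rw [← Nat.cast_comm]
    exact inP_p_smul hM ((hA.pow _).mul (hνS.pow _)) (hp.out.dvd_choose_pow hm0.ne' hm'.ne)

open Classical in
/-- the sum of the `p`-regular elements -/
noncomputable def regA (p : ℕ) (G : Type*) [Group G] [Finite G] : MonoidAlgebra ℂ G :=
  mkA fun x => if ¬ p ∣ orderOf x then 1 else 0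

open Classical in
theorem coeff_regA (x : G) : (regA p G).coeff x = if ¬ p ∣ orderOf x then 1 else 0 := rfl

theorem isCen_regA : IsCen (regA p G) := by
  classical
  intro x g
  rw [coeff_regA, coeff_regA, CfsgH3.orderOf_conj]

theorem inS_regA [hMp : M.IsPrime] : InS M (regA p G) := by
  classical
  intro x
  rw [coeff_regA]
  by_cases h : p ∣ orderOf x
  · rw [if_neg (not_not.2 h)]; exact memLocalRing_zero
  · rw [if_pos h]; exact memLocalRing_one

theorem om_regA_zero (hM : IsPModular p M) {χ : IrrCharacter G} (hχ : χ ∉ principalBlock M G) :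
    om (χ : G → ℂ) (regA p G) = 0 := by
  classical
  haveI := IsPModular.isPrime hM
  haveI := Fintype.ofFinite G
  have h1 := regInner_eq_zero hM (inS_eSet (isPBlock_principalBlock (M := M) (G := G))) (one_mem_principalBlock (M := M) (G := G)) hχ
  rw [om, ev_eq_sum]
  have h2 : ∑ g : G, (regA p G).coeff g * (χ : G → ℂ) g = 0 := by
    rw [regInner] at h1
    refine (Finset.sum_congr rfl fun x _ => ?_).trans h1
    rw [coeff_regA]
    split_ifs <;> simp_all
  rw [h2, zero_div]

theorem om_regA (hM : IsPModular p M) {χ : IrrCharacter G} (hχ : χ ∈ principalBlock M G) :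
    MemLocalIdeal M (om (χ : G → ℂ) (regA p G) - (Nat.card {y : G // ¬ p ∣ orderOf y} : ℂ)) := by
  classical
  haveI := IsPModular.isPrime hM
  haveI := Fintype.ofFinite G
  have h1 : om (fun _ : G => (1 : ℂ)) (regA p G) = (Nat.card {y : G // ¬ p ∣ orderOf y} : ℂ) := by
    rw [om, ev_eq_sum, div_one]
    simp only [coeff_regA, mul_one]
    rw [Finset.sum_boole, Nat.card_eq_fintype_card, Fintype.card_subtype]
  rw [← h1]
  have h2 : SameBlock M (fun _ : G => (1 : ℂ)) (χ : G → ℂ) := hχ
  exact sameBlock_om χ.2 isIrrCharacter_one (sameBlock_symm h2) (isCen_regA (p := p)) (inS_regA (p := p))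

theorem exists_good_pow {g : G} (hg : ¬ p ∣ orderOf g) :
    ∃ n : ℕ, Nat.card (IrrCharacter G) ≤ p ^ n ∧ g ^ p ^ n = g ∧
      ∀ x : G, (∃ k, orderOf x = p ^ k) ↔ x ^ p ^ n = 1 := by
  have hcop : p.Coprime (orderOf g) := (Nat.Prime.coprime_iff_not_dvd hp.out).2 hg
  have hφ : 0 < Nat.totient (orderOf g) := Nat.totient_pos.2 (orderOf_pos g)
  refine ⟨Nat.totient (orderOf g) * (Nat.card (IrrCharacter G) + (Nat.card G).factorization p), ?_, ?_, ?_⟩
  · refine le_trans ?_ (Nat.lt_pow_self hp.out.one_lt).le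
    nlinarith
  · rw [pow_mul]
    have h1 : (p ^ Nat.totient (orderOf g)) ^ (Nat.card (IrrCharacter G) + (Nat.card G).factorization p) ≡ 1 [MOD orderOf g] := by
      have := (Nat.ModEq.pow_totient hcop).pow (Nat.card (IrrCharacter G) + (Nat.card G).factorization p)
      rwa [one_pow] at this
    conv_rhs => rw [← pow_one g]
    exact (pow_eq_pow_iff_modEq).2 h1
  · intro x
    constructor
    · rintro ⟨k, hk⟩
      have h1 : p ^ k ∣ Nat.card G := hk ▸ orderOf_dvd_natCard x
      have h2 : k ≤ (Nat.card G).factorization p := (hp.out.pow_dvd_iff_le_factorization Nat.card_pos.ne').1 h1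
      rw [← orderOf_dvd_iff_pow_eq_one, hk]
      apply pow_dvd_pow
      nlinarith
    · intro h
      obtain ⟨k, -, hk⟩ := (Nat.dvd_prime_pow hp.out).1 (orderOf_dvd_of_pow_eq_one h)
      exact ⟨k, hk⟩

theorem not_dvd_card_regular (hM : IsPModular p M) : ¬ p ∣ Nat.card {y : G // ¬ p ∣ orderOf y} := by
  classical
  haveI := IsPModular.isPrime hM
  haveI := Fintype.ofFinite G
  intro hd
  obtain ⟨n, hn1, -, hn3⟩ := exists_good_pow (p := p) (g := (1 : G)) (by rw [orderOf_one]; exact hp.out.not_dvd_one)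
  have hR : MemLocalIdeal M (Nat.card {y : G // ¬ p ∣ orderOf y} : ℂ) := (memLocalIdeal_natCast_iff hM _).2 hd
  have h1 : ∀ χ : IrrCharacter G, MemLocalIdeal M (om (χ : G → ℂ) (regA p G)) := by
    intro χ
    by_cases hχ : χ ∈ principalBlock M G
    · have := MemLocalIdeal.add (om_regA hM hχ) hR
      rwa [sub_add_cancel] at this
    · rw [om_regA_zero hM hχ]; exact memLocalIdeal_zero
  have h2 := nilp (isCen_regA (p := p)) (inS_regA (p := p)) h1
  have h3 : InP M (regA p G ^ p ^ n) := by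
    rw [← Nat.sub_add_cancel hn1, pow_add]
    exact InP.mul_left ((inS_regA (p := p)).pow _) h2
  have h4 := coeff_pow_one hM (regA p G) (inS_regA (p := p)) n
  have h5 := MemLocalIdeal.sub (h3 1) h4
  rw [sub_sub_cancel] at h5
  apply not_memLocalIdeal_one (M := M)
  have h6 : (∑ g : G, if g ^ p ^ n = 1 then (regA p G).coeff g ^ p ^ n else 0) = 1 := by
    rw [Finset.sum_eq_single 1]
    · rw [one_pow, if_pos rfl, coeff_regA, if_pos (by rw [orderOf_one]; exact hp.out.not_dvd_one), one_pow]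
    · intro x _ hx
      by_cases h7 : x ^ p ^ n = 1
      · rw [if_pos h7, coeff_regA, if_neg, zero_pow (pow_pos hp.out.pos n).ne']
        rw [not_not]
        obtain ⟨k, hk⟩ := (hn3 x).2 h7
        rw [hk]
        apply dvd_pow_self
        rintro rfl
        rw [pow_zero, orderOf_eq_one_iff] at hk
        exact hx hk
      · rw [if_neg h7]
    · intro h; exact absurd (Finset.mem_univ _) h
  rwa [h6] at h5

theorem memLocalIdeal_pow_sub (hM : IsPModular p M) (R n : ℕ) : MemLocalIdeal M ((R : ℂ) - (R : ℂ) ^ p ^ n) := by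
  have h1 : ((R : ℤ) : ZMod p) ^ p ^ n = ((R : ℤ) : ZMod p) := ZMod.pow_card_pow _
  have h2 : (p : ℤ) ∣ (R : ℤ) - (R : ℤ) ^ p ^ n := by
    rw [← ZMod.intCast_zmod_eq_zero_iff_dvd]
    push_cast
    push_cast at h1
    rw [h1, sub_self]
  have h3 := (memLocalIdeal_intCast_iff hM _).2 h2
  push_cast at h3
  exact h3

theorem kulshammer (hM : IsPModular p M) {g : G} (hg : ¬ p ∣ orderOf g) :
    MemLocalIdeal M (blockCoeff (principalBlock M G) g -
      (Nat.card {xy : G × G // (∃ k : ℕ, orderOf xy.1 = p ^ k) ∧ ¬ p ∣ orderOf xy.2 ∧ xy.1 * xy.2 = g} : ℂ) /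
      (Nat.card {y : G // ¬ p ∣ orderOf y} : ℂ)) := by
  classical
  haveI := IsPModular.isPrime hM
  haveI := Fintype.ofFinite G
  obtain ⟨n, hn1, hn2, hn3⟩ := exists_good_pow (p := p) hg
  obtain ⟨R, hR⟩ : ∃ R, R = Nat.card {y : G // ¬ p ∣ orderOf y} := ⟨_, rfl⟩
  obtain ⟨N, hN⟩ : ∃ N, N = Nat.card {xy : G × G // (∃ k : ℕ, orderOf xy.1 = p ^ k) ∧ ¬ p ∣ orderOf xy.2 ∧ xy.1 * xy.2 = g} := ⟨_, rfl⟩
  have hRp : ¬ p ∣ R := by rw [hR]; exact not_dvd_card_regular hM
  have hR0 : (R : ℂ) ≠ 0 := by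
    intro h0
    apply hRp
    have : R = 0 := by exact_mod_cast h0
    rw [this]; exact dvd_zero p
  have hRi := memLocalRing_natCast_inv hM hRp
  rw [← hR, ← hN]
  have hαS : InS M ((R : ℂ)⁻¹ • regA p G) := InS.smul hRi (inS_regA (p := p))
  have hα := (isCen_regA (p := p) (G := G)).smul ((R : ℂ)⁻¹)
  have h1 := pow_idem hM (A := principalBlock M G) (inS_eSet isPBlock_principalBlock) hα hαS
    (fun χ hχ => by rw [om_smul, om_regA_zero hM hχ, mul_zero])
    (fun χ hχ => by
      have h2 := MemLocalIdeal.mul_left hRi (om_regA hM hχ)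
      rw [← hR] at h2
      rw [om_smul]
      have h3 : (R : ℂ)⁻¹ * om (χ : G → ℂ) (regA p G) - 1 = (R : ℂ)⁻¹ * (om (χ : G → ℂ) (regA p G) - R) := by
        rw [mul_sub, inv_mul_cancel₀ hR0]
      rw [h3]; exact h2) hn1
  have h2 := h1 g
  rw [coeff_sub, Finsupp.sub_apply, coeff_eSet] at h2
  -- the coefficient at g
  have hcs : ∀ (β : MonoidAlgebra ℂ G) (x : G), (β * single g⁻¹ 1).coeff x = β.coeff (x * g) := by
    intro β x
    rw [coeff_mul_left]
    rw [Finset.sum_eq_single (x * g)]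
    · rw [coeff_single_apply, if_pos (by group), mul_one]
    · intro y _ hy
      rw [coeff_single_apply, if_neg, mul_zero]
      intro h3
      apply hy
      calc y = x * (y⁻¹ * x)⁻¹ := by group
        _ = x * g := by rw [← h3, inv_inv]
    · intro h; exact absurd (Finset.mem_univ _) h
  have h3 : (((R : ℂ)⁻¹ • regA p G) ^ p ^ n).coeff g = ((((R : ℂ)⁻¹ • regA p G) * single g⁻¹ 1) ^ p ^ n).coeff 1 := by
    have hc : Commute ((R : ℂ)⁻¹ • regA p G) (single g⁻¹ 1) := hα.comm _
    rw [hc.mul_pow, single_pow, one_pow, inv_pow, hn2, hcs, one_mul]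
  have h4 := coeff_pow_one hM (((R : ℂ)⁻¹ • regA p G) * single g⁻¹ 1) (hαS.mul (inS_single memLocalRing_one _)) n
  rw [← h3] at h4
  have h5 : (∑ x : G, if x ^ p ^ n = 1 then ((((R : ℂ)⁻¹ • regA p G) * single g⁻¹ 1).coeff x) ^ p ^ n else 0) =
      (N : ℂ) * ((R : ℂ)⁻¹) ^ p ^ n := by
    have h6 : ∀ x : G, (if x ^ p ^ n = 1 then ((((R : ℂ)⁻¹ • regA p G) * single g⁻¹ 1).coeff x) ^ p ^ n else 0) =
        if (x ^ p ^ n = 1 ∧ ¬ p ∣ orderOf (x * g)) then ((R : ℂ)⁻¹) ^ p ^ n else 0 := by
      intro x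
      rw [hcs, coeff_smul, Finsupp.smul_apply, coeff_regA, smul_eq_mul]
      by_cases h7 : x ^ p ^ n = 1
      · by_cases h8 : ¬ p ∣ orderOf (x * g)
        · rw [if_pos h7, if_pos h8, if_pos ⟨h7, h8⟩, mul_one]
        · rw [if_pos h7, if_neg h8, if_neg (fun h => h8 h.2), mul_zero, zero_pow (pow_pos hp.out.pos n).ne']
      · rw [if_neg h7, if_neg (fun h => h7 h.1)]
    rw [Finset.sum_congr rfl (fun x _ => h6 x), ← Finset.sum_filter, Finset.sum_const, nsmul_eq_mul, hN]
    congr 2
    rw [← Fintype.card_subtype, ← Nat.card_eq_fintype_card]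
    refine Nat.card_congr ⟨fun x => ⟨(x.1⁻¹, x.1 * g), ?_, x.2.2, by simp⟩, fun xy => ⟨xy.1.1⁻¹, ?_, ?_⟩, fun x => ?_, fun xy => ?_⟩
    · rw [orderOf_inv]; exact (hn3 _).2 x.2.1
    · rw [inv_pow, inv_eq_one]; exact (hn3 _).1 xy.2.1
    · rw [inv_mul_eq_iff_eq_mul.2 xy.2.2.2.symm]; exact xy.2.2.1
    · apply Subtype.ext; simp
    · apply Subtype.ext
      ext
      · simp
      · exact inv_mul_eq_iff_eq_mul.2 xy.2.2.2.symm
  rw [h5] at h4
  have h6 := MemLocalIdeal.sub h4 h2
  -- compare powers of R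
  have h7 : MemLocalIdeal M ((N : ℂ) * ((R : ℂ)⁻¹) ^ p ^ n - (N : ℂ) / R) := by
    have h8 := MemLocalIdeal.mul_left (MemLocalRing.mul (memLocalRing_natCast (M := M) N)
      (MemLocalRing.pow hRi (p ^ n + 1))) (memLocalIdeal_pow_sub hM R n)
    have h9 : (N : ℂ) * ((R : ℂ)⁻¹) ^ p ^ n - (N : ℂ) / R = (N : ℂ) * (R : ℂ)⁻¹ ^ (p ^ n + 1) * ((R : ℂ) - (R : ℂ) ^ p ^ n) := by
      rw [pow_succ, div_eq_mul_inv, inv_pow]
      have : (R : ℂ) ^ p ^ n ≠ 0 := pow_ne_zero _ hR0
      field_simp
    rw [h9]; exact h8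
  have h8 := MemLocalIdeal.add h6 h7
  have h9 : (((R : ℂ)⁻¹ • regA p G) ^ p ^ n).coeff g - (N : ℂ) * ((R : ℂ)⁻¹) ^ p ^ n -
      ((((R : ℂ)⁻¹ • regA p G) ^ p ^ n).coeff g - blockCoeff (principalBlock M G) g) +
      ((N : ℂ) * ((R : ℂ)⁻¹) ^ p ^ n - (N : ℂ) / R) = blockCoeff (principalBlock M G) g - (N : ℂ) / R := by ring
  rw [h9] at h8
  exact h8

end Nilp

end CfsgH5
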