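import Cfsg.Agent.H5.Tate2
import Cfsg.Agent.H5.KGV1
import Cfsg.Agent.H2.LocalQ
import Cfsg.Agent.H2.Cores
import Cfsg.Agent.H1.PNilp

/-!
# characters of Sylow normalizers which extend
-/

set_option autoImplicit false

open Cfsg MonoidAlgebra
open CfsgH4 hiding centralChar sum_conj regInner_symm

namespace CfsgH5

open scoped ComplexConjugate commutatorElement

section A

/-- irreducible characters separate the identity -/
theorem exists_irr_ne_one {H : Type*} [Group H] [Finite H] {x : H} (hx : x ≠ 1) :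
    ∃ α : IrrCharacter H, (α : H → ℂ) x ≠ (α : H → ℂ) 1 := by
  classical
  haveI := Fintype.ofFinite H
  by_contra hcon
  push Not at hcon
  have h1 : ∑ χ : IrrCharacter H, (χ : H → ℂ) x * conj ((χ : H → ℂ) 1) = 0 := by
    apply col_orth_not
    intro hc
    exact hx (isConj_one_left.1 hc)
  have h2 : ∑ χ : IrrCharacter H, (χ : H → ℂ) 1 * conj ((χ : H → ℂ) 1) ≠ 0 := by
    rw [col_orth_isConj (IsConj.refl 1)]
    exact card_ne_zero _
  apply h2
  rw [← h1]
  exact Finset.sum_congr rfl fun χ _ => by rw [hcon]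

variable {G : Type*} [Group G] [Finite G] {p : ℕ} [hp : Fact p.Prime]

/-- generic step -/
theorem inf_normalClosure_le (N R : Subgroup G) (hRN : R ≤ N) (hR : ∀ x ∈ N, ∀ r ∈ R, x * r * x⁻¹ ∈ R)
    (hdeg : ∀ [(R.subgroupOf N).Normal], ∀ α : IrrCharacter (N ⧸ R.subgroupOf N), ¬ p ∣ charDegree (α : N ⧸ R.subgroupOf N → ℂ))
    (hext : ∀ θ : IrrCharacter N, ¬ p ∣ charDegree (θ : N → ℂ) → ∃ χ : IrrCharacter G, ∀ x : N, (χ : G → ℂ) x = (θ : N → ℂ) x) :
    N ⊓ Subgroup.normalClosure (R : Set G) ≤ R := by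
  rintro x ⟨hxN, hxR⟩
  by_contra hx
  haveI hn : (R.subgroupOf N).Normal := ⟨fun r hr n => by
    rw [Subgroup.mem_subgroupOf] at hr ⊢
    exact hR n n.2 r hr⟩
  have hx1 : (QuotientGroup.mk' (R.subgroupOf N) ⟨x, hxN⟩) ≠ 1 := by
    intro h
    exact hx (Subgroup.mem_subgroupOf.1 ((QuotientGroup.eq_one_iff (N := R.subgroupOf N) _).1 h))
  obtain ⟨α, hα⟩ := exists_irr_ne_one hx1
  have hθ := isIrrCharacter_comp_surj (QuotientGroup.mk' (R.subgroupOf N)) (QuotientGroup.mk'_surjective _) α.2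
  have hd : charDegree (fun y : N => (α : N ⧸ R.subgroupOf N → ℂ) (QuotientGroup.mk' (R.subgroupOf N) y)) =
      charDegree (α : N ⧸ R.subgroupOf N → ℂ) := by
    unfold charDegree
    simp only [map_one]
  obtain ⟨χ, hχ⟩ := hext ⟨_, hθ⟩ (by rw [show ((⟨_, hθ⟩ : IrrCharacter N) : N → ℂ) = _ from rfl, hd]; exact hdeg α)
  haveI := charKerSub_normal (IsIrr.isCharacter χ.2)
  have h1 : Subgroup.normalClosure (R : Set G) ≤ charKerSub (IsIrr.isCharacter χ.2) := by
    apply Subgroup.normalClosure_le_normal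
    intro r hr
    show r ∈ charKerSub (IsIrr.isCharacter χ.2)
    rw [mem_charKerSub]
    have e1 := hχ ⟨r, hRN hr⟩
    have e2 := hχ 1
    rw [show (((1 : N) : G)) = 1 from rfl] at e2
    rw [show ((⟨r, hRN hr⟩ : N) : G) = r from rfl] at e1
    rw [e1, e2]
    show (α : N ⧸ R.subgroupOf N → ℂ) (QuotientGroup.mk' (R.subgroupOf N) ⟨r, hRN hr⟩) = (α : N ⧸ R.subgroupOf N → ℂ) (QuotientGroup.mk' (R.subgroupOf N) 1)
    rw [map_one]
    exact congrArg (α : N ⧸ R.subgroupOf N → ℂ) ((QuotientGroup.eq_one_iff (N := R.subgroupOf N) ⟨r, hRN hr⟩).2 (Subgroup.mem_subgroupOf.2 hr))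
  have h2 := (mem_charKerSub _ _).1 (h1 hxR)
  apply hα
  have e1 := hχ ⟨x, hxN⟩
  have e2 := hχ 1
  rw [show (((1 : N) : G)) = 1 from rfl] at e2
  rw [show ((⟨x, hxN⟩ : N) : G) = x from rfl] at e1
  rw [e1, e2] at h2
  have h3 : (α : N ⧸ R.subgroupOf N → ℂ) (QuotientGroup.mk' (R.subgroupOf N) ⟨x, hxN⟩) = (α : N ⧸ R.subgroupOf N → ℂ) (QuotientGroup.mk' (R.subgroupOf N) 1) := h2
  rw [map_one] at h3
  exact h3

/-- extension of homs across a normal supplement -/
theorem exists_hom_ext {L A : Type*} [Group L] [Group A] (C P : Subgroup L) [C.Normal] (h : C ⊔ P = ⊤) (f : P →* A)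
    (hf : ∀ x : P, (x : L) ∈ C → f x = 1) : ∃ g : L →* A, ∀ x : P, g x = f x := by
  obtain ⟨φ, hφ⟩ : ∃ φ : P →* L ⧸ C, φ = (QuotientGroup.mk' C).comp P.subtype := ⟨_, rfl⟩
  have hsurj : Function.Surjective φ := by
    intro y
    obtain ⟨y, rfl⟩ := QuotientGroup.mk'_surjective C y
    have hy : y ∈ C ⊔ P := by rw [h]; trivial
    obtain ⟨c, hc, x, hx, rfl⟩ := Subgroup.mem_sup_of_normal_left.1 hy
    refine ⟨⟨x, hx⟩, ?_⟩
    rw [hφ, map_mul, show QuotientGroup.mk' C c = 1 from (QuotientGroup.eq_one_iff _).2 hc, one_mul]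
    rfl
  have hker : φ.ker ≤ f.ker := by
    intro x hx
    rw [MonoidHom.mem_ker] at hx ⊢
    apply hf
    rw [hφ] at hx
    exact (QuotientGroup.eq_one_iff (N := C) (x : L)).1 hx
  refine ⟨(φ.liftOfSurjective hsurj ⟨f, hker⟩).comp (QuotientGroup.mk' C), fun x => ?_⟩
  have := MonoidHom.liftOfRightInverse_comp_apply φ _ (Function.rightInverse_surjInv hsurj) ⟨f, hker⟩ x
  show (φ.liftOfSurjective hsurj ⟨f, hker⟩) (QuotientGroup.mk' C x) = f x
  rw [show QuotientGroup.mk' C (x : L) = φ x by rw [hφ]; rfl]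
  exact this

/-- Frattini for quotients by arbitrary normal subgroups: elements normalising the image of a Sylow subgroup -/
theorem norm_sup_sylow {L : Type*} [Group L] [Finite L] (P : Sylow p L) (K : Subgroup L) [K.Normal] {x : L}
    (hx : x ∈ Subgroup.normalizer (((P : Subgroup L) ⊔ K : Subgroup L) : Set L)) :
    ∃ n ∈ Subgroup.normalizer ((P : Subgroup L) : Set L), ∃ m ∈ (P : Subgroup L) ⊔ K, x = m * n := by
  obtain ⟨M, hM⟩ : ∃ M, M = (P : Subgroup L) ⊔ K := ⟨_, rfl⟩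
  rw [← hM] at hx ⊢
  have hPM : (P : Subgroup L) ≤ M := by rw [hM]; exact le_sup_left
  have hxPM : ((x • P : Sylow p L) : Subgroup L) ≤ M := by
    intro y hy
    rw [Sylow.coe_subgroup_smul, Subgroup.mem_pointwise_smul_iff_inv_smul_mem] at hy
    have h1 := hPM hy
    have h2 : (x⁻¹ • y : L) = x⁻¹ • y := rfl
    rw [← map_inv, MulAut.smul_def, MulAut.conj_apply, inv_inv] at h1
    have := (Subgroup.mem_normalizer_iff.1 hx _).1 h1
    convert this using 1
    group
  obtain ⟨m, hm⟩ := MulAction.exists_smul_eq M (P.subtype hPM) ((x • P).subtype hxPM)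
  have h3 : (m : L) • P = x • P := by
    rw [Sylow.smul_subtype] at hm
    exact Sylow.subtype_injective hm
  refine ⟨(m : L)⁻¹ * x, ?_, m, m.2, by group⟩
  refine Sylow.smul_eq_iff_mem_normalizer.1 ?_
  rw [mul_smul, ← h3, inv_smul_smul]

theorem not_dvd_charDegree_of {X : Type*} [Group X] [Finite X] (V : Subgroup X) [V.Normal] (hidx : ¬ p ∣ V.index)
    (hab : ∀ a ∈ V, ∀ b ∈ V, a * b = b * a) (α : IrrCharacter X) : ¬ p ∣ charDegree (α : X → ℂ) := by
  haveI := Fintype.ofFinite X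
  obtain ⟨d, hd, hd2⟩ := deg_not_dvd V hidx hab α.2
  rw [(IsIrr.one_eq α.2).1] at hd
  have : charDegree (α : X → ℂ) = d := by exact_mod_cast hd
  rwa [this]

theorem s4931_mp (P : Sylow p G)
    (hext : ∀ θ : IrrCharacter ↥(Subgroup.normalizer ((P : Subgroup G) : Set G)), ¬ p ∣ charDegree (θ : ↥(Subgroup.normalizer ((P : Subgroup G) : Set G)) → ℂ) →
      ∃ χ : IrrCharacter G, ∀ x : ↥(Subgroup.normalizer ((P : Subgroup G) : Set G)), (χ : G → ℂ) x = (θ : ↥(Subgroup.normalizer ((P : Subgroup G) : Set G)) → ℂ) x) :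
    ∃ K : Subgroup G, K.Normal ∧ K ⊔ Subgroup.normalizer ((P : Subgroup G) : Set G) = ⊤ ∧ K ⊓ Subgroup.normalizer ((P : Subgroup G) : Set G) = ⊥ := by
  obtain ⟨N, hN⟩ : ∃ N, N = Subgroup.normalizer ((P : Subgroup G) : Set G) := ⟨_, rfl⟩
  rw [← hN] at hext ⊢
  have hPN : (P : Subgroup G) ≤ N := by rw [hN]; exact Subgroup.le_normalizer
  have hPnorm : ∀ x ∈ N, ∀ r ∈ (P : Subgroup G), x * r * x⁻¹ ∈ (P : Subgroup G) := by
    intro x hx r hr
    rw [hN] at hx
    exact (Subgroup.mem_normalizer_iff.1 hx r).1 hr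
  haveI hPNn : ((P : Subgroup G).subgroupOf N).Normal := ⟨fun r hr n => by
    rw [Subgroup.mem_subgroupOf] at hr ⊢
    exact hPnorm n n.2 r hr⟩
  have hidxN : ¬ p ∣ ((P : Subgroup G).subgroupOf N).index := fun h =>
    P.not_dvd_index (h.trans (Subgroup.relIndex_dvd_index_of_le hPN))
  -- first step
  have h1 : N ⊓ Subgroup.normalClosure ((P : Subgroup G) : Set G) ≤ (P : Subgroup G) := by
    refine inf_normalClosure_le (p := p) N (P : Subgroup G) hPN hPnorm ?_ hext
    intro _ α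
    refine not_dvd_charDegree_of (⊥ : Subgroup (N ⧸ (P : Subgroup G).subgroupOf N)) ?_ ?_ α
    · rw [Subgroup.index_bot]; exact hidxN
    · intro a ha b hb
      rw [Subgroup.mem_bot] at ha hb
      rw [ha, hb]
  -- second step
  obtain ⟨D, hD⟩ : ∃ D : Subgroup G, D = (commutator ↥(P : Subgroup G)).map (P : Subgroup G).subtype := ⟨_, rfl⟩
  have hDP : D ≤ (P : Subgroup G) := by rw [hD]; exact Subgroup.map_subtype_le _
  have hDnorm : ∀ x ∈ N, ∀ r ∈ D, x * r * x⁻¹ ∈ D := by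
    intro x hx r hr
    rw [hN] at hx
    have := CfsgH2.normalizer_le_normalizer_map_of_characteristic (commutator ↥(P : Subgroup G)) hx
    rw [← hD] at this
    exact (Subgroup.mem_normalizer_iff.1 this r).1 hr
  have h2 : N ⊓ Subgroup.normalClosure (D : Set G) ≤ D := by
    refine inf_normalClosure_le (p := p) N D (hDP.trans hPN) hDnorm ?_ hext
    intro _ α
    haveI : (((P : Subgroup G).subgroupOf N).map (QuotientGroup.mk' (D.subgroupOf N))).Normal :=
      hPNn.map _ (QuotientGroup.mk'_surjective _)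
    refine not_dvd_charDegree_of (((P : Subgroup G).subgroupOf N).map (QuotientGroup.mk' (D.subgroupOf N))) ?_ ?_ α
    · exact fun h => hidxN (h.trans (Subgroup.index_map_dvd _ (QuotientGroup.mk'_surjective _)))
    · rintro _ ⟨a, ha, rfl⟩ _ ⟨b, hb, rfl⟩
      rw [← map_mul, ← map_mul]
      apply QuotientGroup.eq.2
      rw [Subgroup.mem_subgroupOf, hD]
      refine ⟨⁅(⟨b, Subgroup.mem_subgroupOf.1 hb⟩ : ↥(P : Subgroup G))⁻¹, ⟨a, Subgroup.mem_subgroupOf.1 ha⟩⁻¹⁆,
        Subgroup.commutator_mem_commutator (Subgroup.mem_top _) (Subgroup.mem_top _), ?_⟩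
      simp only [commutatorElement_def]
      simp [mul_assoc]
  -- the normal closures
  obtain ⟨L, hL⟩ : ∃ L, L = Subgroup.normalClosure ((P : Subgroup G) : Set G) := ⟨_, rfl⟩
  obtain ⟨K1, hK1⟩ : ∃ K1, K1 = Subgroup.normalClosure (D : Set G) := ⟨_, rfl⟩
  rw [← hL] at h1
  rw [← hK1] at h2
  haveI hLn : L.Normal := by rw [hL]; infer_instance
  haveI hK1n : K1.Normal := by rw [hK1]; infer_instance
  have hPL : (P : Subgroup G) ≤ L := by rw [hL]; exact Subgroup.le_normalClosure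
  have hDK1 : D ≤ K1 := by rw [hK1]; exact Subgroup.le_normalClosure
  obtain ⟨PL, hPLd⟩ : ∃ PL : Sylow p L, PL = P.subtype hPL := ⟨_, rfl⟩
  have hmemPL : ∀ x : L, x ∈ (PL : Subgroup L) ↔ (x : G) ∈ (P : Subgroup G) := by
    intro x
    rw [hPLd, Sylow.coe_subtype, Subgroup.mem_subgroupOf]
  have hnPL : ∀ n ∈ Subgroup.normalizer ((PL : Subgroup L) : Set L), n ∈ (PL : Subgroup L) := by
    intro n hn
    rw [hmemPL]
    refine h1 ⟨?_, n.2⟩
    rw [hN]
    refine Subgroup.mem_normalizer_iff.2 fun y => ⟨fun hy => ?_, fun hy => ?_⟩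
    · have h3 := (Subgroup.mem_normalizer_iff.1 hn ⟨y, hPL hy⟩).1 ((hmemPL _).2 hy)
      exact (hmemPL _).1 h3
    · have hyL : y ∈ L := by
        have h4 := hLn.conj_mem _ (hPL hy) (n : G)⁻¹
        convert h4 using 1
        group
      exact (hmemPL _).1 ((Subgroup.mem_normalizer_iff.1 hn ⟨y, hyL⟩).2 ((hmemPL _).2 hy))
  haveI hK1Ln : (K1.subgroupOf L).Normal := inferInstance
  -- Burnside in the quotient
  have hQ : HasNormalPComplement p (L ⧸ K1.subgroupOf L) := by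
    refine CfsgH1.burnside_npc (PL.mapSurjective (QuotientGroup.mk'_surjective (K1.subgroupOf L))) ?_
    rw [Sylow.coe_mapSurjective]
    have hle : Subgroup.normalizer ((((PL : Subgroup L).map (QuotientGroup.mk' (K1.subgroupOf L)) : Subgroup (L ⧸ K1.subgroupOf L))) : Set (L ⧸ K1.subgroupOf L)) ≤
        (PL : Subgroup L).map (QuotientGroup.mk' (K1.subgroupOf L)) := by
      intro y hy
      obtain ⟨y, rfl⟩ := QuotientGroup.mk'_surjective _ y
      have hy2 : y ∈ (Subgroup.normalizer ((((PL : Subgroup L).map (QuotientGroup.mk' (K1.subgroupOf L)) : Subgroup (L ⧸ K1.subgroupOf L))) : Set (L ⧸ K1.subgroupOf L))).comap (QuotientGroup.mk' (K1.subgroupOf L)) := hy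
      rw [CfsgH2.comap_normalizer_map] at hy2
      obtain ⟨n, hn, m, hm, rfl⟩ := norm_sup_sylow PL (K1.subgroupOf L) hy2
      have hmn : m * n ∈ (PL : Subgroup L) ⊔ K1.subgroupOf L := mul_mem hm (Subgroup.mem_sup_left (hnPL n hn))
      have := Subgroup.mem_map_of_mem (QuotientGroup.mk' (K1.subgroupOf L)) hmn
      rw [Subgroup.map_sup] at this
      rw [show (K1.subgroupOf L).map (QuotientGroup.mk' (K1.subgroupOf L)) = ⊥ from QuotientGroup.map_mk'_self _, sup_bot_eq] at this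
      exact this
    refine hle.trans ?_
    rintro _ ⟨a, ha, rfl⟩
    rw [Subgroup.mem_centralizer_iff]
    rintro _ ⟨b, hb, rfl⟩
    rw [← map_mul, ← map_mul]
    apply QuotientGroup.eq.2
    rw [Subgroup.mem_subgroupOf]
    apply hDK1
    rw [hD]
    refine ⟨⁅(⟨a, (hmemPL _).1 ha⟩ : ↥(P : Subgroup G))⁻¹, ⟨b, (hmemPL _).1 hb⟩⁻¹⁆,
      Subgroup.commutator_mem_commutator (Subgroup.mem_top _) (Subgroup.mem_top _), ?_⟩
    simp only [commutatorElement_def]
    simp [mul_assoc]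
  -- `L` has a normal complement
  have hLc : HasNormalPComplement p L := by
    refine npc_of_extend PL fun f => ?_
    obtain ⟨Cb, hCbn, hCbc, k, hk⟩ := CfsgH1.hasNPC_iff.1 hQ
    haveI := hCbn
    obtain ⟨C, hC⟩ : ∃ C, C = Cb.comap (QuotientGroup.mk' (K1.subgroupOf L)) := ⟨_, rfl⟩
    haveI hCn : C.Normal := by rw [hC]; infer_instance
    have hCidx : C.index = p ^ k := by
      rw [hC, Subgroup.index_comap_of_surjective _ (QuotientGroup.mk'_surjective _), hk]
    refine exists_hom_ext C (PL : Subgroup L) ?_ f ?_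
    · rw [← Subgroup.index_eq_one]
      have e1 : (C ⊔ (PL : Subgroup L)).index ∣ p ^ k := by
        rw [← hCidx]; exact Subgroup.index_dvd_of_le le_sup_left
      obtain ⟨j, hj, e2⟩ := (Nat.dvd_prime_pow hp.out).1 e1
      have e3 : ¬ p ∣ (C ⊔ (PL : Subgroup L)).index := fun h =>
        PL.not_dvd_index (h.trans (Subgroup.index_dvd_of_le le_sup_right))
      rw [e2] at e3 ⊢
      have : j = 0 := by
        by_contra hc; exact e3 (dvd_pow_self p hc)
      rw [this, pow_zero]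
    · intro x hxC
      -- `x` lies in `K1`
      have hxK : (x : L) ∈ K1.subgroupOf L := by
        rw [hC] at hxC
        have e1 : (QuotientGroup.mk' (K1.subgroupOf L) (x : L)) ∈ Cb := hxC
        have e2 : orderOf (QuotientGroup.mk' (K1.subgroupOf L) (x : L)) ∣ Nat.card Cb := by
          rw [← Subgroup.orderOf_mk _ e1]; exact orderOf_dvd_natCard _
        obtain ⟨j, hj⟩ := IsPGroup.iff_orderOf.1 PL.2 x
        have e3 : orderOf (QuotientGroup.mk' (K1.subgroupOf L) (x : L)) ∣ p ^ j := by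
          rw [← hj, ← Subgroup.orderOf_coe x]; exact orderOf_map_dvd _ _
        have e4 : Nat.Coprime (p ^ j) (Nat.card Cb) := Nat.Coprime.pow_left _ ((Nat.Prime.coprime_iff_not_dvd hp.out).2 hCbc)
        have e5 := Nat.dvd_gcd e3 e2
        rw [e4, Nat.dvd_one, orderOf_eq_one_iff] at e5
        exact (QuotientGroup.eq_one_iff (N := K1.subgroupOf L) _).1 e5
      have hxD : ((x : L) : G) ∈ D := h2 ⟨hPN ((hmemPL _).1 x.2), Subgroup.mem_subgroupOf.1 hxK⟩
      rw [hD] at hxD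
      obtain ⟨y, hy, hyx⟩ := hxD
      let ι : ↥(P : Subgroup G) →* ↥(PL : Subgroup L) :=
        ⟨⟨fun z => ⟨⟨z, hPL z.2⟩, (hmemPL _).2 z.2⟩, rfl⟩, fun a b => rfl⟩
      have e6 : (f.comp ι) y = 1 := by
        have := Abelianization.commutator_subset_ker (f.comp ι) hy
        rwa [MonoidHom.mem_ker] at this
      have e7 : ι y = x := Subtype.ext (Subtype.ext hyx)
      rw [← e7]; exact e6
  -- conclusion
  obtain ⟨O, hOn, hOc, k, hk⟩ := CfsgH1.hasNPC_iff.1 hLc
  have hOle : O ≤ pPrimeCore p L := CfsgH2.le_pPrimeCore hOn ((Nat.Prime.coprime_iff_not_dvd hp.out).2 hOc).symm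
  have hcop := CfsgH2.coprime_card_pPrimeCore (G := L) p
  obtain ⟨K, hK⟩ : ∃ K, K = (pPrimeCore p L).map L.subtype := ⟨_, rfl⟩
  have hKc : (Nat.card K).Coprime p := by
    rw [hK, Subgroup.card_map_of_injective L.subtype_injective]; exact hcop
  have hKL : K ≤ L := by rw [hK]; exact Subgroup.map_subtype_le _
  refine ⟨K, ?_, ?_, ?_⟩
  · rw [hK]
    haveI : (pPrimeCore p L).Characteristic := inferInstance
    exact ConjAct.normal_of_characteristic_of_normal
  · have hfr : N ⊔ L = ⊤ := by rw [hN]; exact Sylow.normalizer_sup_eq_top' P hPL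
    rw [eq_top_iff, ← hfr]
    refine sup_le le_sup_right ?_
    -- `L ≤ K ⊔ P`
    have h5 : pPrimeCore p L ⊔ (PL : Subgroup L) = ⊤ := by
      rw [← Subgroup.index_eq_one]
      have e1 : (pPrimeCore p L ⊔ (PL : Subgroup L)).index ∣ p ^ k := by
        rw [← hk]; exact Subgroup.index_dvd_of_le (hOle.trans le_sup_left)
      obtain ⟨j, hj, e2⟩ := (Nat.dvd_prime_pow hp.out).1 e1
      have e3 : ¬ p ∣ (pPrimeCore p L ⊔ (PL : Subgroup L)).index := fun h =>
        PL.not_dvd_index (h.trans (Subgroup.index_dvd_of_le le_sup_right))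
      rw [e2] at e3 ⊢
      have : j = 0 := by
        by_contra hc; exact e3 (dvd_pow_self p hc)
      rw [this, pow_zero]
    intro x hx
    have h6 : (⟨x, hx⟩ : L) ∈ pPrimeCore p L ⊔ (PL : Subgroup L) := by rw [h5]; trivial
    obtain ⟨a, ha, b, hb, hab⟩ := Subgroup.mem_sup_of_normal_left.1 h6
    have h7 : x = (a : G) * (b : G) := (congrArg Subtype.val hab).symm
    rw [h7]
    refine mul_mem (Subgroup.mem_sup_left ?_) (Subgroup.mem_sup_right (hPN ((hmemPL _).1 hb)))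
    rw [hK]; exact Subgroup.mem_map_of_mem L.subtype ha
  · rw [eq_bot_iff]
    rintro x ⟨hxK, hxN⟩
    have hxP : x ∈ (P : Subgroup G) := h1 ⟨hxN, hKL hxK⟩
    obtain ⟨j, hj⟩ := IsPGroup.iff_orderOf.1 P.2 ⟨x, hxP⟩
    rw [Subgroup.orderOf_mk] at hj
    have e2 : orderOf x ∣ Nat.card K := by
      rw [← Subgroup.orderOf_mk x hxK]; exact orderOf_dvd_natCard _
    rw [hj] at e2
    have e4 : Nat.Coprime (p ^ j) (Nat.card K) := Nat.Coprime.pow_left _ hKc.symm
    have e5 := Nat.dvd_gcd (dvd_refl _) e2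
    rw [e4, Nat.dvd_one] at e5
    rw [e5, orderOf_eq_one_iff] at hj
    exact hj

theorem s4931_mpr (N K : Subgroup G) (hKn : K.Normal) (h1 : K ⊔ N = ⊤) (h2 : K ⊓ N = ⊥) (θ : IrrCharacter N) :
    ∃ χ : IrrCharacter G, ∀ x : N, (χ : G → ℂ) x = (θ : N → ℂ) x := by
  obtain ⟨g, hg⟩ := exists_hom_ext K N h1 (MonoidHom.id N) (fun x hx => by
    have : (x : G) ∈ K ⊓ N := ⟨hx, x.2⟩
    rw [h2, Subgroup.mem_bot] at this
    exact Subtype.ext this)
  have hsurj : Function.Surjective g := fun x => ⟨x, hg x⟩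
  refine ⟨⟨_, isIrrCharacter_comp_surj g hsurj θ.2⟩, fun x => ?_⟩
  show (θ : N → ℂ) (g x) = _
  rw [hg]; rfl

end A

end CfsgH5
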