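import Cfsg.Agent.H4.Perms
import Cfsg.Agent.H4.Tools
import Cfsg.Agent.H4.Corr

/-!
# Orbits of a group on the real characters and real classes of a normal subgroup of odd index
-/

set_option autoImplicit false
open Cfsg
open CfsgH4 hiding centralChar sum_conj

namespace CfsgH5

open scoped ComplexConjugate

variable {G : Type*} [Group G] [Finite G]

section
variable (K : Subgroup G) [hK : K.Normal]

/-- conjugation action on the irreducible characters of a normal subgroup -/
@[reducible] noncomputable def actIrr : MulAction G (IrrCharacter K) where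
  smul g θ := ⟨fun k => (θ : K → ℂ) (MulAut.conjNormal g⁻¹ k),
    (isIrr_comp_equiv (MulAut.conjNormal g⁻¹ : K ≃* K)).2 θ.2⟩
  one_smul θ := by
    apply Subtype.ext
    show (fun k => (θ : K → ℂ) (MulAut.conjNormal (1 : G)⁻¹ k)) = (θ : K → ℂ)
    ext k
    refine congrArg (θ : K → ℂ) (Subtype.ext ?_)
    rw [MulAut.conjNormal_apply]
    simp
  mul_smul a b θ := by
    apply Subtype.ext
    show (fun k => (θ : K → ℂ) (MulAut.conjNormal (a * b)⁻¹ k)) =
      fun k => (θ : K → ℂ) (MulAut.conjNormal b⁻¹ (MulAut.conjNormal a⁻¹ k))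
    ext k
    refine congrArg (θ : K → ℂ) (Subtype.ext ?_)
    rw [MulAut.conjNormal_apply, MulAut.conjNormal_apply, MulAut.conjNormal_apply]
    group

/-- conjugation action on the classes of a normal subgroup -/
@[reducible] noncomputable def actCl : MulAction G (ConjClasses K) where
  smul g C := ConjClasses.map (MulAut.conjNormal g : K ≃* K).toMonoidHom C
  one_smul C := by
    obtain ⟨x, rfl⟩ := ConjClasses.mk_surjective C
    show ConjClasses.mk (MulAut.conjNormal (1 : G) x) = ConjClasses.mk x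
    refine congrArg ConjClasses.mk (Subtype.ext ?_)
    rw [MulAut.conjNormal_apply]
    simp
  mul_smul a b C := by
    obtain ⟨x, rfl⟩ := ConjClasses.mk_surjective C
    show ConjClasses.mk (MulAut.conjNormal (a * b) x) = ConjClasses.mk (MulAut.conjNormal a (MulAut.conjNormal b x))
    refine congrArg ConjClasses.mk (Subtype.ext ?_)
    rw [MulAut.conjNormal_apply, MulAut.conjNormal_apply, MulAut.conjNormal_apply]
    group

end

theorem isConj_inv' {A : Type*} [Group A] {x y : A} (h : IsConj x y) : IsConj x⁻¹ y⁻¹ := by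
  rw [isConj_iff] at h ⊢
  obtain ⟨c, hc⟩ := h
  exact ⟨c, by rw [← hc]; group⟩

/-- inversion on conjugacy classes -/
def invCl {A : Type*} [Group A] : ConjClasses A → ConjClasses A :=
  Quotient.map (fun x => x⁻¹) fun _ _ h => isConj_inv' h

theorem invCl_mk {A : Type*} [Group A] (x : A) : invCl (ConjClasses.mk x) = ConjClasses.mk x⁻¹ := rfl

theorem invCl_invCl {A : Type*} [Group A] (C : ConjClasses A) : invCl (invCl C) = C := by
  obtain ⟨x, rfl⟩ := ConjClasses.mk_surjective C
  rw [invCl_mk, invCl_mk, inv_inv]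

theorem fix_pair {X : Type*} [MulAction G X] (σ : X → X) (hσ : ∀ x, σ (σ x) = x) (hc : ∀ (g : G) x, σ (g • x) = g • σ x)
    {m : ℕ} (hm : Odd m) {g : G} (hg : ∀ x : X, g ^ m • x = x) (x : X) : g • σ x = x ↔ σ x = x ∧ g • x = x := by
  constructor
  · intro h
    have h2 : ∀ j : ℕ, g ^ (2 * j) • x = x := by
      intro j
      induction j with
      | zero => simp
      | succ j ih =>
        rw [show 2 * (j + 1) = 2 * j + 2 by ring, pow_add, mul_smul, pow_two, mul_smul]
        have h3 : g • x = σ x := by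
          have h4 := congrArg σ h
          rw [hc, hσ] at h4
          exact h4
        rw [h3, h, ih]
    obtain ⟨j, hj⟩ := hm
    have h3 : g ^ m • σ x = x := by
      rw [hj, pow_add, pow_one, mul_smul, h, h2 j]
    rw [hg] at h3
    refine ⟨h3, ?_⟩
    rw [h3] at h
    exact h
  · rintro ⟨h1, h2⟩
    rw [h1, h2]

/-- the action on the fixed points of a commuting involution -/
@[reducible] def actFix {X : Type*} [MulAction G X] (σ : X → X) (hc : ∀ (g : G) x, σ (g • x) = g • σ x) :
    MulAction G {x : X // σ x = x} where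
  smul g x := ⟨g • x.1, by rw [hc, x.2]⟩
  one_smul x := Subtype.ext (one_smul G x.1)
  mul_smul a b x := Subtype.ext (mul_smul a b x.1)

theorem fix_card {Z : Type*} [MulAction G Z] [Finite Z] (ρ : Z → Z) (hρ : ∀ x, ρ (ρ x) = x) (hcρ : ∀ (g : G) x, ρ (g • x) = g • ρ x)
    {m : ℕ} (hm : Odd m) (hgρ : ∀ (g : G) (x : Z), g ^ m • x = x) (g : G) :
    Nat.card {x : Z // g • ρ x = x} = Nat.card (@MulAction.fixedBy G {x : Z // ρ x = x} _ (actFix ρ hcρ) g) := by
  letI A3 := actFix ρ hcρ
  apply Nat.card_congr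
  refine ⟨fun x => ⟨⟨x.1, ((fix_pair ρ hρ hcρ hm (hgρ g) x.1).1 x.2).1⟩, ?_⟩, fun x => ⟨x.1.1, ?_⟩, ?_, ?_⟩
  · apply Subtype.ext
    exact ((fix_pair ρ hρ hcρ hm (hgρ g) x.1).1 x.2).2
  · apply (fix_pair ρ hρ hcρ hm (hgρ g) x.1.1).2
    exact ⟨x.1.2, congrArg Subtype.val x.2⟩
  · intro x; rfl
  · intro x; rfl

theorem card_orbits_fix {X Y : Type*} [MulAction G X] [MulAction G Y] [Finite X] [Finite Y]
    (σ : X → X) (hσ : ∀ x, σ (σ x) = x) (hc : ∀ (g : G) x, σ (g • x) = g • σ x)
    (τ : Y → Y) (hτ : ∀ x, τ (τ x) = x) (hc' : ∀ (g : G) x, τ (g • x) = g • τ x)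
    {m : ℕ} (hm : Odd m) (hg : ∀ (g : G) (x : X), g ^ m • x = x) (hg' : ∀ (g : G) (y : Y), g ^ m • y = y)
    (hcard : ∀ g : G, Nat.card {x : X // g • σ x = x} = Nat.card {y : Y // g • τ y = y}) :
    Nat.card (Quotient (@MulAction.orbitRel G {x : X // σ x = x} _ (actFix σ hc))) =
      Nat.card (Quotient (@MulAction.orbitRel G {y : Y // τ y = y} _ (actFix τ hc'))) := by
  classical
  haveI := Fintype.ofFinite G
  letI A1 := actFix σ hc
  letI A2 := actFix τ hc'
  have h1 := inner_perm_one (G := G) {x : X // σ x = x}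
  have h2 := inner_perm_one (G := G) {y : Y // τ y = y}
  have h3 : (fun g : G => (Nat.card (MulAction.fixedBy {x : X // σ x = x} g) : ℂ)) =
      fun g : G => (Nat.card (MulAction.fixedBy {y : Y // τ y = y} g) : ℂ) := by
    ext g
    have e1 := fix_card σ hσ hc hm hg g
    have e2 := fix_card τ hτ hc' hm hg' g
    rw [← e1, ← e2, hcard g]
  rw [h3, h2] at h1
  exact_mod_cast h1.symm

/-- S4866 -/
theorem real_orbits (K : Subgroup G) [hK : K.Normal] (hodd : Odd K.index) :
    Nat.card (Quot (fun θ η : {θ : IrrCharacter ↥K // (∀ k : ↥K, ((θ : ↥K → ℂ) k).im = 0)} =>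
      ∃ g : G, ∀ k k' : ↥K, (k' : G) = g * (k : G) * g⁻¹ → (η.1 : ↥K → ℂ) k' = (θ.1 : ↥K → ℂ) k)) =
    Nat.card (Quot (fun x y : {x : ↥K // IsConj x x⁻¹} => ∃ g : G, (y.1 : G) = g * x.1 * g⁻¹)) := by
  classical
  haveI := Fintype.ofFinite G
  haveI := Fintype.ofFinite K
  letI A1 := actIrr K
  letI A2 := actCl K
  have hc1 : ∀ (g : G) (θ : IrrCharacter K), irrConj (g • θ) = g • irrConj θ := fun g θ => rfl
  have hc2 : ∀ (g : G) (C : ConjClasses K), invCl (g • C) = g • invCl C := by
    intro g C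
    obtain ⟨x, rfl⟩ := ConjClasses.mk_surjective C
    show ConjClasses.mk (MulAut.conjNormal g x)⁻¹ = ConjClasses.mk (MulAut.conjNormal g x⁻¹)
    rw [map_inv]
  have hg1 : ∀ (g : G) (θ : IrrCharacter K), g ^ K.index • θ = θ := by
    intro g θ
    apply Subtype.ext
    show (fun k => (θ : K → ℂ) (MulAut.conjNormal (g ^ K.index)⁻¹ k)) = (θ : K → ℂ)
    ext k
    have h1 : g ^ K.index ∈ K := Subgroup.pow_index_mem K g
    have h2 : MulAut.conjNormal (g ^ K.index)⁻¹ k = (⟨g ^ K.index, h1⟩ : K)⁻¹ * k * ((⟨g ^ K.index, h1⟩ : K)⁻¹)⁻¹ := by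
      apply Subtype.ext
      rw [MulAut.conjNormal_apply]
      rfl
    rw [h2]
    exact IsIrr.isClassFunction θ.2 k _
  have hg2 : ∀ (g : G) (C : ConjClasses K), g ^ K.index • C = C := by
    intro g C
    obtain ⟨x, rfl⟩ := ConjClasses.mk_surjective C
    show ConjClasses.mk (MulAut.conjNormal (g ^ K.index) x) = ConjClasses.mk x
    have h1 : g ^ K.index ∈ K := Subgroup.pow_index_mem K g
    rw [ConjClasses.mk_eq_mk_iff_isConj, isConj_comm, isConj_iff]
    refine ⟨⟨g ^ K.index, h1⟩, ?_⟩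
    apply Subtype.ext
    rw [MulAut.conjNormal_apply]
    rfl
  have hfix : ∀ g : G, Nat.card {θ : IrrCharacter K // g • irrConj θ = θ} = Nat.card {C : ConjClasses K // g • invCl C = C} := by
    intro g
    have h1 := card_fixed_irr (G := K) (fun x => (MulAut.conjNormal g⁻¹ x)⁻¹)
      (fun x y h => isConj_inv' ((MulAut.conjNormal g⁻¹ : K ≃* K).toMonoidHom.map_isConj h))
      (fun χ => by
        have h2 := (g • irrConj χ).2
        have h3 : (fun x : K => (χ : K → ℂ) (MulAut.conjNormal g⁻¹ x)⁻¹) = ((g • irrConj χ : IrrCharacter K) : K → ℂ) := by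
          ext x
          show (χ : K → ℂ) (MulAut.conjNormal g⁻¹ x)⁻¹ = conj ((χ : K → ℂ) (MulAut.conjNormal g⁻¹ x))
          exact IsCharacter.inv_eq (IsIrr.isCharacter χ.2) _
        rw [h3]
        exact h2)
    have h4 : Nat.card {θ : IrrCharacter K // g • irrConj θ = θ} =
        Nat.card {χ : IrrCharacter K // (fun x : K => (χ : K → ℂ) (MulAut.conjNormal g⁻¹ x)⁻¹) = (χ : K → ℂ)} := by
      apply Nat.card_congr
      apply Equiv.subtypeEquivRight
      intro χ
      have h3 : (fun x : K => (χ : K → ℂ) (MulAut.conjNormal g⁻¹ x)⁻¹) = ((g • irrConj χ : IrrCharacter K) : K → ℂ) := by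
        ext x
        show (χ : K → ℂ) (MulAut.conjNormal g⁻¹ x)⁻¹ = conj ((χ : K → ℂ) (MulAut.conjNormal g⁻¹ x))
        exact IsCharacter.inv_eq (IsIrr.isCharacter χ.2) _
      rw [h3]
      exact ⟨fun h => congrArg Subtype.val h, fun h => Subtype.ext h⟩
    have h5 : Nat.card {C : ConjClasses K // g • invCl C = C} =
        Nat.card {C : ConjClasses K // ∀ x : K, ConjClasses.mk x = C → IsConj (MulAut.conjNormal g⁻¹ x)⁻¹ x} := by
      apply Nat.card_congr
      apply Equiv.subtypeEquivRight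
      intro C
      have h6 : (g • invCl C = C) ↔ (g⁻¹ • invCl C = C) := by
        constructor
        · intro h
          have h7 : g⁻¹ • (g • invCl C) = g⁻¹ • C := by rw [h]
          rw [inv_smul_smul] at h7
          rw [← hc2, ← h7, invCl_invCl]
        · intro h
          have h7 : g • (g⁻¹ • invCl C) = g • C := by rw [h]
          rw [smul_inv_smul] at h7
          rw [← hc2, ← h7, invCl_invCl]
      rw [h6]
      obtain ⟨x, rfl⟩ := ConjClasses.mk_surjective C
      constructor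
      · intro h y hy
        rw [ConjClasses.mk_eq_mk_iff_isConj] at hy
        have h7 : ConjClasses.mk (MulAut.conjNormal g⁻¹ x⁻¹) = ConjClasses.mk x := h
        rw [ConjClasses.mk_eq_mk_iff_isConj, map_inv] at h7
        have h8 : IsConj (MulAut.conjNormal g⁻¹ y)⁻¹ (MulAut.conjNormal g⁻¹ x)⁻¹ :=
          isConj_inv' ((MulAut.conjNormal g⁻¹ : K ≃* K).toMonoidHom.map_isConj hy)
        exact (h8.trans h7).trans hy.symm
      · intro h
        show ConjClasses.mk (MulAut.conjNormal g⁻¹ x⁻¹) = ConjClasses.mk x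
        rw [ConjClasses.mk_eq_mk_iff_isConj, map_inv]
        exact h x rfl
    rw [h4, h5, h1]
  have hmain := card_orbits_fix (G := G) (X := IrrCharacter K) (Y := ConjClasses K) irrConj irrConj_irrConj hc1 invCl invCl_invCl hc2
    hodd hg1 hg2 hfix
  letI B1 := actFix (G := G) (X := IrrCharacter K) irrConj hc1
  letI B2 := actFix (G := G) (X := ConjClasses K) invCl hc2
  have hL : Nat.card (Quot (fun θ η : {θ : IrrCharacter ↥K // (∀ k : ↥K, ((θ : ↥K → ℂ) k).im = 0)} =>
      ∃ g : G, ∀ k k' : ↥K, (k' : G) = g * (k : G) * g⁻¹ → (η.1 : ↥K → ℂ) k' = (θ.1 : ↥K → ℂ) k)) =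
      Nat.card (Quotient (MulAction.orbitRel G {θ : IrrCharacter K // irrConj θ = θ})) := by
    set r := (fun θ η : {θ : IrrCharacter ↥K // (∀ k : ↥K, ((θ : ↥K → ℂ) k).im = 0)} =>
      ∃ g : G, ∀ k k' : ↥K, (k' : G) = g * (k : G) * g⁻¹ → (η.1 : ↥K → ℂ) k' = (θ.1 : ↥K → ℂ) k) with hr
    have hrel : ∀ (θ η : {θ : IrrCharacter ↥K // (∀ k : ↥K, ((θ : ↥K → ℂ) k).im = 0)}),
        r θ η ↔ ∃ g : G, g • θ.1 = η.1 := by
      intro θ η
      constructor
      · rintro ⟨g, hg⟩
        refine ⟨g, Subtype.ext ?_⟩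
        show (fun k => (θ.1 : K → ℂ) (MulAut.conjNormal g⁻¹ k)) = (η.1 : K → ℂ)
        ext k
        refine (hg _ k ?_).symm
        rw [MulAut.conjNormal_apply]
        group
      · rintro ⟨g, hg⟩
        refine ⟨g, fun k k' hk => ?_⟩
        rw [← hg]
        show (θ.1 : K → ℂ) (MulAut.conjNormal g⁻¹ k') = _
        refine congrArg (θ.1 : K → ℂ) (Subtype.ext ?_)
        rw [MulAut.conjNormal_apply, hk]
        group
    have hwd : ∀ θ η : {θ : IrrCharacter ↥K // (∀ k : ↥K, ((θ : ↥K → ℂ) k).im = 0)}, r θ η →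
        (⟦⟨θ.1, (irrConj_eq_iff θ.1).2 θ.2⟩⟧ : Quotient (MulAction.orbitRel G {θ : IrrCharacter K // irrConj θ = θ})) =
          ⟦⟨η.1, (irrConj_eq_iff η.1).2 η.2⟩⟧ := by
      intro θ η h
      obtain ⟨g, hg⟩ := (hrel θ η).1 h
      apply Quotient.sound
      show _ ∈ MulAction.orbit G _
      refine ⟨g⁻¹, Subtype.ext ?_⟩
      show g⁻¹ • η.1 = θ.1
      rw [← hg, inv_smul_smul]
    apply Nat.card_congr
    refine Equiv.ofBijective (Quot.lift _ hwd) ⟨?_, ?_⟩
    · intro a b hab
      induction a using Quot.ind with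
      | _ θ =>
      induction b using Quot.ind with
      | _ η =>
      have h1 := Quotient.exact hab
      obtain ⟨g, hg⟩ := h1
      apply Quot.sound
      apply (hrel θ η).2
      refine ⟨g⁻¹, ?_⟩
      have h2 : g • η.1 = θ.1 := congrArg Subtype.val hg
      rw [← h2, inv_smul_smul]
    · intro b
      induction b using Quotient.ind with
      | _ θ =>
      exact ⟨Quot.mk _ ⟨θ.1, (irrConj_eq_iff θ.1).1 θ.2⟩, rfl⟩
  have hR : Nat.card (Quot (fun x y : {x : ↥K // IsConj x x⁻¹} => ∃ g : G, (y.1 : G) = g * x.1 * g⁻¹)) =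
      Nat.card (Quotient (MulAction.orbitRel G {C : ConjClasses K // invCl C = C})) := by
    have hwd : ∀ x y : {x : ↥K // IsConj x x⁻¹}, (∃ g : G, (y.1 : G) = g * x.1 * g⁻¹) →
        (⟦⟨ConjClasses.mk x.1, by rw [invCl_mk, ConjClasses.mk_eq_mk_iff_isConj]; exact x.2.symm⟩⟧ :
          Quotient (MulAction.orbitRel G {C : ConjClasses K // invCl C = C})) =
          ⟦⟨ConjClasses.mk y.1, by rw [invCl_mk, ConjClasses.mk_eq_mk_iff_isConj]; exact y.2.symm⟩⟧ := by
      rintro x y ⟨g, hg⟩
      apply Quotient.sound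
      show _ ∈ MulAction.orbit G _
      refine ⟨g⁻¹, Subtype.ext ?_⟩
      show ConjClasses.mk (MulAut.conjNormal g⁻¹ y.1) = ConjClasses.mk x.1
      congr 1
      apply Subtype.ext
      rw [MulAut.conjNormal_apply, hg]
      group
    apply Nat.card_congr
    refine Equiv.ofBijective (Quot.lift _ hwd) ⟨?_, ?_⟩
    · intro a b hab
      induction a using Quot.ind with
      | _ x =>
      induction b using Quot.ind with
      | _ y =>
      have h1 := Quotient.exact hab
      obtain ⟨g, hg⟩ := h1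
      have h2 : ConjClasses.mk (MulAut.conjNormal g y.1) = ConjClasses.mk x.1 := congrArg Subtype.val hg
      rw [ConjClasses.mk_eq_mk_iff_isConj, isConj_iff] at h2
      obtain ⟨c, hc⟩ := h2
      apply Quot.sound
      refine ⟨((c : G) * g)⁻¹, ?_⟩
      rw [← hc]
      push_cast
      rw [MulAut.conjNormal_apply]
      group
    · intro b
      induction b using Quotient.ind with
      | _ C =>
      obtain ⟨C, hC⟩ := C
      obtain ⟨x, rfl⟩ := ConjClasses.mk_surjective C
      rw [invCl_mk, ConjClasses.mk_eq_mk_iff_isConj] at hC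
      exact ⟨Quot.mk _ ⟨x, hC.symm⟩, rfl⟩
  rw [hL, hR]
  exact hmain

end CfsgH5
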