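import Cfsg.Agent.H5.FrobD
import Cfsg.Agent.H5.Cover
import Cfsg.Agent.H4.Extend2
import Cfsg.Agent.H4.Cover
import Cfsg.Agent.H1.CopExtra
import Cfsg.Agent.H3.NPC

/-!
# Tate's theorem
-/

set_option autoImplicit false

open Cfsg MonoidAlgebra
open CfsgH4 hiding centralChar sum_conj regInner_symm

namespace CfsgH5

open scoped ComplexConjugate commutatorElement

section Core

variable {G : Type*} [Group G] [Fintype G] {p : ℕ} [hp : Fact p.Prime]

/-- a nonprincipal invariant linear character -/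
theorem exists_inv_lin {A : Type*} [Group A] [Finite A] (hA : IsPGroup p A) (Q : Subgroup A) [hQ : Q.Normal] (hne : Q ≠ ⊥) :
    ∃ μ : Q →* ℂˣ, μ ≠ 1 ∧ ∀ (x : A) (q : Q), μ ⟨x * q * x⁻¹, hQ.conj_mem q q.2 x⟩ = μ q := by
  classical
  have h1 : ⁅Q, (⊤ : Subgroup A)⁆ < Q := CfsgH1.commutator_lt_of_pgroup (hA.to_subgroup Q) (hA.to_subgroup ⊤)
    (by rw [Subgroup.normalizer_eq_top_iff.2 hQ]) hne
  obtain ⟨K, hK⟩ : ∃ K, K = ⁅Q, (⊤ : Subgroup A)⁆ := ⟨_, rfl⟩
  rw [← hK] at h1
  obtain ⟨q, hqQ, hqK⟩ := SetLike.exists_of_lt h1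
  haveI hKn : K.Normal := by rw [hK]; infer_instance
  haveI hKn' : (K.subgroupOf Q).Normal := inferInstance
  have hcomm : commutator (Q ⧸ K.subgroupOf Q) = ⊥ := by
    rw [commutator_eq_bot_iff_center_eq_top, eq_top_iff]
    intro x _
    rw [Subgroup.mem_center_iff]
    intro y
    obtain ⟨x, rfl⟩ := QuotientGroup.mk'_surjective _ x
    obtain ⟨y, rfl⟩ := QuotientGroup.mk'_surjective _ y
    rw [← map_mul, ← map_mul]
    have : (y * x)⁻¹ * (x * y) ∈ K.subgroupOf Q := by
      rw [Subgroup.mem_subgroupOf, hK]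
      have h2 : (((y * x)⁻¹ * (x * y) : Q) : A) = ⁅((x : A))⁻¹, ((y : A))⁻¹⁆ := by
        push_cast [commutatorElement_def]; group
      rw [h2]
      exact Subgroup.commutator_mem_commutator (Q.inv_mem x.2) (Subgroup.mem_top _)
    exact QuotientGroup.eq.2 this
  haveI : Fintype (Q ⧸ K.subgroupOf Q) := Fintype.ofFinite _
  obtain ⟨f, hf⟩ := exists_lin_ne (G := Q ⧸ K.subgroupOf Q) (g := QuotientGroup.mk' _ ⟨q, hqQ⟩) (by
    rw [hcomm, Subgroup.mem_bot]
    intro h2
    exact hqK ((QuotientGroup.eq_one_iff (N := K.subgroupOf Q) _).1 h2))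
  refine ⟨f.comp (QuotientGroup.mk' _), ?_, ?_⟩
  · intro h2
    apply hf
    exact DFunLike.congr_fun h2 ⟨q, hqQ⟩
  · intro x q
    show f (QuotientGroup.mk' _ _) = f (QuotientGroup.mk' _ _)
    congr 1
    apply QuotientGroup.eq.2
    rw [Subgroup.mem_subgroupOf, hK]
    have h2 : (((⟨x * q * x⁻¹, hQ.conj_mem q q.2 x⟩ : Q)⁻¹ * q : Q) : A) = ⁅x, ((q : A))⁻¹⁆ := by
      push_cast [commutatorElement_def]; group
    rw [h2, ← inv_mem_iff, commutatorElement_inv]
    exact Subgroup.commutator_mem_commutator (Q.inv_mem q.2) (Subgroup.mem_top _)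

theorem tate_core (P : Sylow p G) (M : Subgroup G) [hM : M.Normal] (hMP : M ⊔ (P : Subgroup G) = ⊤)
    (hidx : ∃ k : ℕ, M.index = p ^ k) (hMh : ∀ f : M →* ℂˣ, (∃ k : ℕ, ∀ x, f x ^ p ^ k = 1) → f = 1)
    (hPh : ∀ f : (P : Subgroup G) →* ℂˣ, ∀ x : (P : Subgroup G), (x : G) ∈ M → f x = 1) : ¬ p ∣ Nat.card M := by
  classical
  intro hdvd
  obtain ⟨Q, hQ⟩ : ∃ Q : Subgroup (P : Subgroup G), Q = M.subgroupOf (P : Subgroup G) := ⟨_, rfl⟩
  haveI hQn : Q.Normal := by rw [hQ]; infer_instance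
  have hQM' : ∀ x : (P : Subgroup G), x ∈ Q → (x : G) ∈ M := by
    intro x hx
    rw [hQ, Subgroup.mem_subgroupOf] at hx
    exact hx
  have hQM : ∀ q : Q, ((q : (P : Subgroup G)) : G) ∈ M := fun q => hQM' _ q.2
  have hQne : Q ≠ ⊥ := by
    intro hbot
    obtain ⟨x, hx⟩ := exists_prime_orderOf_dvd_card' p hdvd
    have hxG : orderOf (x : G) = p := by rw [Subgroup.orderOf_coe]; exact hx
    obtain ⟨c, hc⟩ := conj_intoP P (x := (x : G)) ⟨1, by rw [hxG, pow_one]⟩
    have h1 : (⟨c * x * c⁻¹, hc⟩ : (P : Subgroup G)) ∈ Q := by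
      rw [hQ, Subgroup.mem_subgroupOf]
      exact hM.conj_mem x x.2 c
    rw [hbot, Subgroup.mem_bot] at h1
    have h2 : c * (x : G) * c⁻¹ = 1 := congrArg Subtype.val h1
    have h3 : (x : G) = 1 := by
      have := congrArg (fun z => c⁻¹ * z * c) h2
      simpa [mul_assoc] using this
    rw [h3, orderOf_one] at hxG
    exact hp.out.one_lt.ne hxG
  obtain ⟨μ, hμ1, hμinv⟩ := exists_inv_lin P.2 Q hQne
  haveI : Fintype M := Fintype.ofFinite _
  haveI : Fintype Q := Fintype.ofFinite _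
  haveI : Fintype (P : Subgroup G) := Fintype.ofFinite _
  let ι : Q →* M := ⟨⟨fun q => ⟨((q : (P : Subgroup G)) : G), hQM q⟩, rfl⟩, fun a b => rfl⟩
  have hιinj : Function.Injective ι := fun a b hab => by
    have h1 : ((ι a : M) : G) = ((ι b : M) : G) := by rw [hab]
    exact Subtype.ext (Subtype.ext h1)
  -- cardinalities
  have hrel : ¬ p ∣ (P : Subgroup G).relIndex M := fun h =>
    P.not_dvd_index (h.trans (CfsgH3.relIndex_dvd_index_of_normal_right (P : Subgroup G) M))
  have hcQ : Nat.card Q = Nat.card ((P : Subgroup G).subgroupOf M) := by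
    rw [hQ]
    refine Nat.card_congr ⟨fun q => ⟨⟨((q : (P : Subgroup G)) : G), Subgroup.mem_subgroupOf.1 q.2⟩,
      Subgroup.mem_subgroupOf.2 q.1.2⟩, fun q => ⟨⟨((q : M) : G), Subgroup.mem_subgroupOf.1 q.2⟩,
      Subgroup.mem_subgroupOf.2 q.1.2⟩, fun q => rfl, fun q => rfl⟩
  have hcM : Nat.card M = Nat.card Q * (P : Subgroup G).relIndex M := by
    rw [hcQ, Subgroup.relIndex, Subgroup.card_mul_index]
  -- multiplicities
  have ha : ∀ χ : IrrCharacter M, ∃ n : ℕ, classInner (fun q : Q => (χ : M → ℂ) (ι q)) (lch μ) = n := fun χ =>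
    IsCharacter.inner_irr_nat (isCharacter_comp ι (IsIrr.isCharacter χ.2)) (isCharacter_one_dim μ)
  choose a ha using ha
  have hsum : ∑ χ : IrrCharacter M, ((a χ : ℤ) * (charDegree (χ : M → ℂ) : ℤ)) = (P : Subgroup G).relIndex M := by
    have h1 : ((∑ χ : IrrCharacter M, ((a χ : ℤ) * (charDegree (χ : M → ℂ) : ℤ)) : ℤ) : ℂ) =
        ((P : Subgroup G).relIndex M : ℂ) := by
      push_cast
      have h2 : ∀ χ : IrrCharacter M, (a χ : ℂ) * (charDegree (χ : M → ℂ) : ℂ) =
          (Nat.card Q : ℂ)⁻¹ * ∑ q : Q, conj (lch μ q) * ((χ : M → ℂ) (ι q) * conj ((χ : M → ℂ) 1)) := by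
        intro χ
        rw [← ha, classInner_def, mul_assoc, Finset.sum_mul, (IsIrr.one_eq χ.2).1, Complex.conj_natCast]
        congr 1
        exact Finset.sum_congr rfl fun q _ => by ring
      rw [Finset.sum_congr rfl fun χ _ => h2 χ, ← Finset.mul_sum, Finset.sum_comm]
      have h3 : ∀ q : Q, ∑ χ : IrrCharacter M, conj (lch μ q) * ((χ : M → ℂ) (ι q) * conj ((χ : M → ℂ) 1)) =
          if q = 1 then (Nat.card M : ℂ) else 0 := by
        intro q
        rw [← Finset.mul_sum]
        split_ifs with hq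
        · subst hq
          rw [map_one, col_orth_isConj (IsConj.refl 1)]
          have : lch μ 1 = 1 := by unfold lch; rw [map_one, Units.val_one]
          rw [this, map_one, one_mul]
          congr 1
          have : Subgroup.centralizer ({(1 : M)} : Set M) = ⊤ := by
            rw [eq_top_iff]; intro x _
            rw [Subgroup.mem_centralizer_singleton_iff, mul_one, one_mul]
          rw [this]; exact Nat.card_congr Subgroup.topEquiv.toEquiv
        · rw [col_orth_not, mul_zero]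
          intro hc
          rw [isConj_one_left] at hc
          exact hq (hιinj (hc.trans (map_one ι).symm))
      rw [Finset.sum_congr rfl fun q _ => h3 q, Finset.sum_ite_eq' Finset.univ (1 : Q), if_pos (Finset.mem_univ _), hcM]
      have : (Nat.card Q : ℂ) ≠ 0 := card_ne_zero Q
      push_cast
      field_simp
    exact_mod_cast h1
  -- the action
  letI act : MulAction (P : Subgroup G) (IrrCharacter M) :=
    { smul := fun x χ => cjI M ((x : G)⁻¹) χ
      one_smul := fun χ => by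
        apply Subtype.ext
        funext n
        exact congrArg (χ : M → ℂ) (Subtype.ext (by simp))
      mul_smul := fun x y χ => by
        apply Subtype.ext
        funext n
        exact congrArg (χ : M → ℂ) (Subtype.ext (by simp [mul_assoc])) }
  have hact : ∀ (x : (P : Subgroup G)) (χ : IrrCharacter M), x • χ = cjI M ((x : G)⁻¹) χ := fun _ _ => rfl
  have hainv : ∀ (x : (P : Subgroup G)) (χ : IrrCharacter M), a (x • χ) = a χ := by
    intro x χ
    have h1 : classInner (fun q : Q => ((x • χ : IrrCharacter M) : M → ℂ) (ι q)) (lch μ) =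
        classInner (fun q : Q => (χ : M → ℂ) (ι q)) (lch μ) := by
      rw [classInner_def, classInner_def]
      congr 1
      let φ : Q ≃ Q :=
        { toFun := fun q => ⟨x⁻¹ * q * x⁻¹⁻¹, hQn.conj_mem q q.2 x⁻¹⟩
          invFun := fun q => ⟨x * q * x⁻¹, hQn.conj_mem q q.2 x⟩
          left_inv := fun q => Subtype.ext (by show x * (x⁻¹ * q * x⁻¹⁻¹) * x⁻¹ = q; group)
          right_inv := fun q => Subtype.ext (by show x⁻¹ * (x * q * x⁻¹) * x⁻¹⁻¹ = q; group) }
      refine Fintype.sum_equiv φ _ _ fun q => ?_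
      have h2 : lch μ q = lch μ (φ q) := congrArg (fun u : ℂˣ => (u : ℂ)) (hμinv x⁻¹ q).symm
      show (χ : M → ℂ) (ι (φ q)) * conj (lch μ q) = (χ : M → ℂ) (ι (φ q)) * conj (lch μ (φ q))
      rw [h2]
    rw [ha, ha] at h1
    exact_mod_cast h1
  have hdinv : ∀ (x : (P : Subgroup G)) (χ : IrrCharacter M),
      charDegree ((x • χ : IrrCharacter M) : M → ℂ) = charDegree (χ : M → ℂ) := by
    intro x χ
    have h1 : ((x • χ : IrrCharacter M) : M → ℂ) 1 = (χ : M → ℂ) 1 := by
      rw [hact, cjI_apply]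
      exact congrArg (χ : M → ℂ) (Subtype.ext (by simp))
    rw [(IsIrr.one_eq (x • χ : IrrCharacter M).2).1, (IsIrr.one_eq χ.2).1] at h1
    exact_mod_cast h1
  obtain ⟨t, -, ht⟩ := orbit_sum (P := (P : Subgroup G)) P.2
    (fun χ : IrrCharacter M => ((a χ : ℤ) * (charDegree (χ : M → ℂ) : ℤ)))
    (fun x χ => by rw [hainv, hdinv]) ⊤ (fun _ => trivial)
  have hex : ∃ χ : IrrCharacter M, χ ∈ MulAction.fixedPoints (P : Subgroup G) (IrrCharacter M) ∧
      ¬ (p : ℤ) ∣ ((a χ : ℤ) * (charDegree (χ : M → ℂ) : ℤ)) := by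
    by_contra hc
    push Not at hc
    apply hrel
    have h1 : (p : ℤ) ∣ ∑ χ : IrrCharacter M, ((a χ : ℤ) * (charDegree (χ : M → ℂ) : ℤ)) := by
      rw [ht]
      apply dvd_add
      · apply Finset.dvd_sum
        intro χ _
        split_ifs with h2
        · exact hc χ h2
        · exact dvd_zero _
      · rw [nsmul_eq_mul]; exact dvd_mul_right _ _
    rw [hsum] at h1
    exact_mod_cast h1
  obtain ⟨χ, hfix, hnd⟩ := hex
  have hda : ¬ p ∣ a χ := fun h => hnd (Dvd.dvd.mul_right (Int.natCast_dvd_natCast.2 h) _)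
  have hdd : ¬ p ∣ charDegree (χ : M → ℂ) := fun h => hnd (Dvd.dvd.mul_left (Int.natCast_dvd_natCast.2 h) _)
  -- invariance
  have hinv : ∀ g : G, conjFun M (χ : M → ℂ) g = (χ : M → ℂ) := by
    have h1 : inertia M (χ : M → ℂ) = ⊤ := by
      rw [eq_top_iff, ← hMP]
      refine sup_le (le_inertia M (IsIrr.isClassFunction χ.2)) fun x hx => ?_
      have h2 := hfix ⟨x⁻¹, (P : Subgroup G).inv_mem hx⟩
      have h3 := congrArg Subtype.val h2
      rw [hact] at h3
      have h4 : ((⟨x⁻¹, (P : Subgroup G).inv_mem hx⟩ : (P : Subgroup G)) : G)⁻¹ = x := inv_inv x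
      rw [h4] at h3
      exact h3
    intro g
    have : g ∈ inertia M (χ : M → ℂ) := by rw [h1]; trivial
    exact this
  -- extension
  obtain ⟨f, hf⟩ := exists_det_hom (IsIrr.isCharacter χ.2)
  obtain ⟨k, hk⟩ := hidx
  haveI : Finite (M →* ℂˣ) := finite_hom _
  have hfo : ¬ p ∣ orderOf f := by
    intro hpo
    have ho : 0 < orderOf f := orderOf_pos f
    obtain ⟨m', hm'⟩ := Nat.ordProj_dvd (orderOf f) p
    have h2 : orderOf f ∣ m' := by
      apply orderOf_dvd_of_pow_eq_one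
      rw [hom_pow_eq_one_iff]
      intro x
      have h1 := hMh ((powMonoidHom m').comp f) ⟨(orderOf f).factorization p, fun x => by
        show (f x ^ m') ^ p ^ (orderOf f).factorization p = 1
        rw [← pow_mul, mul_comm, ← hm']
        exact hom_orderOf_apply f x⟩
      exact DFunLike.congr_fun h1 x
    have hm0 : m' ≠ 0 := by
      rintro rfl; rw [mul_zero] at hm'; omega
    have h3 := Nat.le_of_dvd (Nat.pos_of_ne_zero hm0) h2
    have h4 : 2 ≤ p ^ (orderOf f).factorization p := by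
      have h5 : 1 ≤ (orderOf f).factorization p := (hp.out.dvd_iff_one_le_factorization ho.ne').1 hpo
      calc 2 ≤ p := hp.out.two_le
        _ = p ^ 1 := (pow_one p).symm
        _ ≤ _ := Nat.pow_le_pow_right hp.out.pos h5
    have h5 : 2 * m' ≤ p ^ (orderOf f).factorization p * m' := Nat.mul_le_mul_right m' h4
    rw [← hm'] at h5
    omega
  have hcop1 : Nat.Coprime M.index (orderOf f) := by
    rw [hk]; exact Nat.Coprime.pow_left _ ((Nat.Prime.coprime_iff_not_dvd hp.out).2 hfo)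
  have hcop2 : Nat.Coprime M.index (charDegree (χ : M → ℂ)) := by
    rw [hk]; exact Nat.Coprime.pow_left _ ((Nat.Prime.coprime_iff_not_dvd hp.out).2 hdd)
  have hfinv : ∀ (g : G) (n : M), f ⟨g * n * g⁻¹, hM.conj_mem n n.2 g⟩ = f n := by
    intro g n
    apply Units.ext
    rw [← hf, ← hf]
    let φ : M →* M := ⟨⟨fun n => ⟨g * n * g⁻¹, hM.conj_mem n n.2 g⟩, Subtype.ext (by simp)⟩, fun a b => Subtype.ext (by
      show g * (a * b : G) * g⁻¹ = g * a * g⁻¹ * (g * b * g⁻¹); group)⟩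
    have h1 := detChar_comp φ (IsIrr.isCharacter χ.2) n
    have h2 : (fun x => (χ : M → ℂ) (φ x)) = (χ : M → ℂ) := hinv g
    rw [h2] at h1
    exact h1.symm
  obtain ⟨ν, hν, -, -⟩ := linear_canonical f hfinv hcop1
  obtain ⟨χ', hχ', hχ'M⟩ := extend_of_det χ.2 hinv (IsIrr.one_eq χ.2).1 hcop2 ν (fun n => by rw [hν, hf])
  -- restrict to P
  have hres : IsCharacter (P : Subgroup G) (fun x : (P : Subgroup G) => χ' x) :=
    isCharacter_restrict (P : Subgroup G) (IsIrr.isCharacter hχ')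
  have hb : ∀ β : IrrCharacter (P : Subgroup G), ∃ n : ℕ,
      classInner (fun x : (P : Subgroup G) => χ' x) (β : ↥(P : Subgroup G) → ℂ) = n := fun β =>
    IsCharacter.inner_irr_nat hres β.2
  choose b hb using hb
  have hcβ : ∀ β : IrrCharacter (P : Subgroup G), ∃ n : ℕ, classInner (fun q : Q => (β : ↥(P : Subgroup G) → ℂ) q) (lch μ) = n ∧
      p ∣ n := by
    intro β
    obtain ⟨n, hn⟩ := IsCharacter.inner_irr_nat (isCharacter_restrict Q (IsIrr.isCharacter β.2)) (isCharacter_one_dim μ)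
    have hn' : classInner (fun q : Q => (β : ↥(P : Subgroup G) → ℂ) q) (lch μ) = n := hn
    refine ⟨n, hn', ?_⟩
    by_contra hpn
    have hn0 : (n : ℂ) ≠ 0 := by
      intro h
      have : n = 0 := by exact_mod_cast h
      exact hpn (this ▸ dvd_zero p)
    have h1 := clifford_degree Q β.2 (isCharacter_one_dim μ) (by rw [hn]; exact hn0)
    have h2 : inertia Q (fun q => (μ q : ℂ)) = ⊤ := by
      rw [eq_top_iff]
      intro x _
      show conjFun Q (fun q => (μ q : ℂ)) x = _
      funext q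
      show (μ _ : ℂ) = (μ q : ℂ)
      exact congrArg _ (hμinv x q)
    rw [h2, Subgroup.index_top, hn, map_one, Units.val_one, mul_one, Nat.cast_one, mul_one,
      (IsIrr.one_eq β.2).1] at h1
    have h3 : charDegree (β : ↥(P : Subgroup G) → ℂ) = n := by exact_mod_cast h1
    -- degree is a power of p
    have h4 : charDegree (β : ↥(P : Subgroup G) → ℂ) ∣ Nat.card (P : Subgroup G) :=
      degree_dvd_card β.2 (IsIrr.one_eq β.2).1
    obtain ⟨j, hj⟩ := IsPGroup.iff_card.1 P.2
    rw [hj] at h4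
    obtain ⟨i, -, hi⟩ := (Nat.dvd_prime_pow hp.out).1 h4
    have hi0 : i = 0 := by
      by_contra h
      apply hpn
      rw [← h3, hi]
      exact dvd_pow_self p h
    rw [hi0, pow_zero] at hi
    obtain ⟨g, hg⟩ := exists_hom_of_degree_one hi
    -- β is trivial on Q
    have h5 : (fun q : Q => (β : ↥(P : Subgroup G) → ℂ) q) = lch (1 : Q →* ℂˣ) := by
      funext q
      rw [hg]
      show (g q : ℂ) = 1
      rw [hPh g q (hQM q), Units.val_one]
    rw [h5, lch_inner, if_neg (fun h => hμ1 h.symm)] at hn'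
    exact hn0 hn'.symm
  choose c hc1 hc2 using hcβ
  have hfin : (a χ : ℂ) = ∑ β : IrrCharacter (P : Subgroup G), (b β : ℂ) * (c β : ℂ) := by
    rw [← ha]
    have h1 : (fun q : Q => (χ : M → ℂ) (ι q)) = fun q : Q => ∑ β : IrrCharacter (P : Subgroup G),
        (b β : ℂ) * (β : ↥(P : Subgroup G) → ℂ) q := by
      funext q
      rw [← hχ'M (ι q)]
      have h2 := classFun_apply (IsCharacter.isClassFunction hres) (q : (P : Subgroup G))
      refine h2.trans (Finset.sum_congr rfl fun β _ => ?_)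
      rw [hb]
    rw [h1, classInner_def]
    simp only [Finset.sum_mul]
    rw [Finset.sum_comm, Finset.mul_sum]
    refine Finset.sum_congr rfl fun β _ => ?_
    rw [← hc1, classInner_def]
    rw [Finset.mul_sum, Finset.mul_sum, Finset.mul_sum]
    exact Finset.sum_congr rfl fun q _ => by ring
  apply hda
  have h1 : (p : ℕ) ∣ ∑ β : IrrCharacter (P : Subgroup G), b β * c β :=
    Finset.dvd_sum fun β _ => (hc2 β).mul_left _
  have h2 : a χ = ∑ β : IrrCharacter (P : Subgroup G), b β * c β := by exact_mod_cast hfin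
  rw [h2]; exact h1

end Core

section Tate

variable {G : Type*} [Group G] [Finite G] {p : ℕ} [hp : Fact p.Prime]

/-- the subgroup generated by the `p`-regular elements of `N` -/
def regSub (p : ℕ) (N : Subgroup G) : Subgroup G := Subgroup.closure {g | g ∈ N ∧ ¬ p ∣ orderOf g}

theorem regSub_le (N : Subgroup G) : regSub p N ≤ N := by
  unfold regSub
  rw [Subgroup.closure_le]
  rintro g ⟨h, -⟩
  exact h

theorem mem_regSub {N : Subgroup G} {g : G} (h : g ∈ N) (h' : ¬ p ∣ orderOf g) : g ∈ regSub p N :=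
  Subgroup.subset_closure ⟨h, h'⟩

instance regSub_normal (N : Subgroup G) [hN : N.Normal] : (regSub p N).Normal := by
  refine ⟨fun n hn g => ?_⟩
  have h1 : regSub p N ≤ (regSub p N).comap (MulAut.conj g).toMonoidHom := by
    conv_lhs => unfold regSub
    rw [Subgroup.closure_le]
    rintro x ⟨hx, hx2⟩
    show g * x * g⁻¹ ∈ regSub p N
    refine mem_regSub (hN.conj_mem x hx g) ?_
    rw [← MulAut.conj_apply, MulEquiv.orderOf_eq]
    exact hx2
  exact h1 hn

theorem regSub_hom (N : Subgroup G) (f : regSub p N →* ℂˣ) (hf : ∃ k : ℕ, ∀ x, f x ^ p ^ k = 1) : f = 1 := by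
  obtain ⟨k, hk⟩ := hf
  have h1 : regSub p N ≤ f.ker.map (regSub p N).subtype := by
    conv_lhs => unfold regSub
    rw [Subgroup.closure_le]
    rintro x ⟨hx, hx2⟩
    refine ⟨⟨x, mem_regSub hx hx2⟩, ?_, rfl⟩
    show f ⟨x, mem_regSub hx hx2⟩ = 1
    have e1 := hk ⟨x, mem_regSub hx hx2⟩
    have e2 : f ⟨x, mem_regSub hx hx2⟩ ^ orderOf x = 1 := by
      rw [← map_pow]
      have : (⟨x, mem_regSub hx hx2⟩ : regSub p N) ^ orderOf x = 1 := Subtype.ext (pow_orderOf_eq_one x)
      rw [this, map_one]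
    have e3 := Nat.dvd_gcd (orderOf_dvd_of_pow_eq_one e1) (orderOf_dvd_of_pow_eq_one e2)
    have e4 : Nat.gcd (p ^ k) (orderOf x) = 1 := Nat.Coprime.pow_left _ ((Nat.Prime.coprime_iff_not_dvd hp.out).2 hx2)
    rw [e4, Nat.dvd_one, orderOf_eq_one_iff] at e3
    exact e3
  ext x
  obtain ⟨y, hy, hyx⟩ := h1 x.2
  have : y = x := Subtype.ext hyx
  rw [← this]
  exact congrArg _ hy

theorem regSub_pgroup (N : Subgroup G) [hN : N.Normal] : ∃ k : ℕ, (regSub p N).relIndex N = p ^ k := by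
  haveI : ((regSub p N).subgroupOf N).Normal := inferInstance
  have h1 : IsPGroup p (N ⧸ (regSub p N).subgroupOf N) := by
    intro x
    obtain ⟨x, rfl⟩ := QuotientGroup.mk'_surjective _ x
    obtain ⟨a, b, ha, hab, hc, ⟨k, hk⟩, hb⟩ := exists_decomp (p := p) (x : G)
    refine ⟨k, ?_⟩
    rw [← map_pow]
    apply (QuotientGroup.eq_one_iff _).2
    rw [Subgroup.mem_subgroupOf]
    push_cast
    rw [← hab, hc.mul_pow, ← hk, pow_orderOf_eq_one, one_mul]
    apply Subgroup.pow_mem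
    have haN : a ∈ N := ppart_mem ha x.2
    have hbN : b ∈ N := by
      have : b = a⁻¹ * x := by rw [← hab]; group
      rw [this]
      exact N.mul_mem (N.inv_mem haN) x.2
    exact mem_regSub hbN hb
  obtain ⟨k, hk⟩ := IsPGroup.iff_card.1 h1
  exact ⟨k, hk⟩

/-- **Tate's theorem** -/
theorem tate (P : Sylow p G) (N : Subgroup G) [hN : N.Normal]
    (h : ∀ f : (P : Subgroup G) →* ℂˣ, ∀ x : (P : Subgroup G), (x : G) ∈ N → f x = 1) :
    ¬ p ∣ Nat.card (regSub p N) := by
  classical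
  obtain ⟨M, hMdef⟩ : ∃ M, M = regSub p N := ⟨_, rfl⟩
  haveI hMn : M.Normal := by rw [hMdef]; infer_instance
  have hMN : M ≤ N := by rw [hMdef]; exact regSub_le N
  rw [← hMdef]
  obtain ⟨H, hH⟩ : ∃ H, H = M ⊔ (P : Subgroup G) := ⟨_, rfl⟩
  have hPH : (P : Subgroup G) ≤ H := by rw [hH]; exact le_sup_right
  have hMH : M ≤ H := by rw [hH]; exact le_sup_left
  haveI := Fintype.ofFinite H
  haveI : (M.subgroupOf H).Normal := inferInstance
  have hdec : ∀ x : H, ∃ m : M, ∃ y : (P : Subgroup G), (x : G) = m * y := by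
    intro x
    have hx2 : (x : G) ∈ ((M ⊔ (P : Subgroup G) : Subgroup G) : Set G) := by rw [← hH]; exact x.2
    rw [Subgroup.normal_mul] at hx2
    obtain ⟨m, hm, y, hy, hmy⟩ := hx2
    exact ⟨⟨m, hm⟩, ⟨y, hy⟩, hmy.symm⟩
  have hcore := tate_core (P.subtype hPH) (M.subgroupOf H) ?_ ?_ ?_ ?_
  · rwa [Nat.card_congr (Subgroup.subgroupOfEquivOfLe hMH).toEquiv] at hcore
  · rw [eq_top_iff]
    intro x _
    obtain ⟨m, y, hxy⟩ := hdec x
    have : x = ⟨m, hMH m.2⟩ * ⟨y, hPH y.2⟩ := Subtype.ext hxy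
    rw [this]
    apply Subgroup.mul_mem
    · exact (le_sup_left (a := M.subgroupOf H)) (Subgroup.mem_subgroupOf.2 m.2)
    · apply (le_sup_right (a := M.subgroupOf H) (b := ((P.subtype hPH : Sylow p H) : Subgroup H)))
      rw [Sylow.coe_subtype, Subgroup.mem_subgroupOf]; exact y.2
  · have h1 : IsPGroup p (H ⧸ M.subgroupOf H) := by
      let f : (P : Subgroup G) →* H ⧸ M.subgroupOf H := (QuotientGroup.mk' _).comp (Subgroup.inclusion hPH)
      have hf : Function.Surjective f := by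
        intro x
        obtain ⟨x, rfl⟩ := QuotientGroup.mk'_surjective _ x
        obtain ⟨m, y, hxy⟩ := hdec x
        refine ⟨y, ?_⟩
        show QuotientGroup.mk' (M.subgroupOf H) (Subgroup.inclusion hPH y) = QuotientGroup.mk' (M.subgroupOf H) x
        have : x = ⟨m, hMH m.2⟩ * Subgroup.inclusion hPH y := Subtype.ext hxy
        rw [this, map_mul]
        have e1 : QuotientGroup.mk' (M.subgroupOf H) ⟨m, hMH m.2⟩ = 1 :=
          (QuotientGroup.eq_one_iff _).2 (Subgroup.mem_subgroupOf.2 m.2)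
        rw [e1, one_mul]
      exact P.2.of_surjective f hf
    obtain ⟨k, hk⟩ := IsPGroup.iff_card.1 h1
    exact ⟨k, hk⟩
  · intro f hf
    subst hMdef
    obtain ⟨k, hk⟩ := hf
    have h1 := regSub_hom N (f.comp (Subgroup.subgroupOfEquivOfLe hMH).symm.toMonoidHom) ⟨k, fun x => hk _⟩
    ext x
    have h2 := DFunLike.congr_fun h1 (Subgroup.subgroupOfEquivOfLe hMH x)
    have h3 : f ((Subgroup.subgroupOfEquivOfLe hMH).symm (Subgroup.subgroupOfEquivOfLe hMH x)) = 1 := h2
    rw [MulEquiv.symm_apply_apply] at h3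
    rw [h3]; rfl
  · intro f x hx
    have h1 := h (f.comp (Subgroup.subgroupOfEquivOfLe hPH).symm.toMonoidHom) (Subgroup.subgroupOfEquivOfLe hPH x)
      (hMN (Subgroup.mem_subgroupOf.1 hx))
    have h3 : f ((Subgroup.subgroupOfEquivOfLe hPH).symm (Subgroup.subgroupOfEquivOfLe hPH x)) = 1 := h1
    exact h3

end Tate

end CfsgH5
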