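import Cfsg.Agent.H5.Tate
import Cfsg.Agent.H5.Kuls
import Cfsg.Agent.H5.ItoM2
import Cfsg.Agent.H1.PNilp

/-!
# Tate's theorem: applications
-/

set_option autoImplicit false

open Cfsg MonoidAlgebra
open CfsgH4 hiding centralChar sum_conj regInner_symm

namespace CfsgH5

open scoped ComplexConjugate

section Ext

variable {G : Type*} [Group G] [Finite G] {p : ℕ} [hp : Fact p.Prime]

theorem regSub_top_eq : regSub p (regSub p (⊤ : Subgroup G)) = regSub p (⊤ : Subgroup G) := by
  apply le_antisymm (regSub_le _)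
  conv_lhs => unfold regSub
  rw [Subgroup.closure_le]
  rintro x ⟨hx, hx2⟩
  exact mem_regSub (mem_regSub hx hx2) hx2

/-- if all linear characters of a Sylow subgroup extend, there is a normal `p`-complement -/
theorem npc_of_extend (P : Sylow p G) (h : ∀ f : (P : Subgroup G) →* ℂˣ, ∃ g : G →* ℂˣ, ∀ x : (P : Subgroup G), g x = f x) :
    HasNormalPComplement p G := by
  have hcard : Nat.card G ≠ 0 := Nat.card_pos.ne'
  obtain ⟨m, hm⟩ : ∃ m, m = ordCompl[p] (Nat.card G) := ⟨_, rfl⟩
  have hmc : p ^ (Nat.card G).factorization p * m = Nat.card G := by rw [hm]; exact Nat.ordProj_mul_ordCompl_eq_self _ _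
  have hpm : ¬ p ∣ m := by rw [hm]; exact Nat.not_dvd_ordCompl hp.out hcard
  have key := tate P (regSub p (⊤ : Subgroup G)) (fun f x hx => by
    obtain ⟨g, hg⟩ := h f
    have h1 := regSub_hom (p := p) (⊤ : Subgroup G) ((powMonoidHom m).comp (g.comp (regSub p (⊤ : Subgroup G)).subtype))
      ⟨(Nat.card G).factorization p, fun y => by
        show (g y ^ m) ^ p ^ (Nat.card G).factorization p = 1
        rw [← pow_mul, mul_comm, hmc, ← map_pow, pow_card_eq_one', map_one]⟩
    have h2 : g x ^ m = 1 := DFunLike.congr_fun h1 ⟨x, hx⟩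
    rw [hg] at h2
    obtain ⟨k, hk⟩ := IsPGroup.iff_orderOf.1 P.2 x
    have h3 : f x ^ p ^ k = 1 := by rw [← map_pow, ← hk, pow_orderOf_eq_one, map_one]
    have h4 := Nat.dvd_gcd (orderOf_dvd_of_pow_eq_one h3) (orderOf_dvd_of_pow_eq_one h2)
    have h5 : Nat.gcd (p ^ k) m = 1 := Nat.Coprime.pow_left _ ((Nat.Prime.coprime_iff_not_dvd hp.out).2 hpm)
    rw [h5, Nat.dvd_one, orderOf_eq_one_iff] at h4
    exact h4)
  rw [regSub_top_eq] at key
  rw [CfsgH1.hasNPC_iff]
  obtain ⟨k, hk⟩ := regSub_pgroup (p := p) (⊤ : Subgroup G)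
  rw [Subgroup.relIndex_top_right] at hk
  exact ⟨_, inferInstance, key, k, hk⟩

end Ext

section Blk

variable {G : Type*} [Group G] [Fintype G] {p : ℕ} [hp : Fact p.Prime] {M : Ideal AlgInt}

theorem blockCoeff_one (hM : IsPModular p M) : ¬ MemLocalIdeal M (blockCoeff (principalBlock M G) 1) := by
  haveI := IsPModular.isPrime hM
  have h1 := kulshammer (G := G) hM (g := 1) (by rw [orderOf_one]; exact hp.out.not_dvd_one)
  have h2 : Nat.card {xy : G × G // (∃ k : ℕ, orderOf xy.1 = p ^ k) ∧ ¬ p ∣ orderOf xy.2 ∧ xy.1 * xy.2 = 1} = 1 := by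
    rw [Nat.card_eq_one_iff_unique]
    have key : ∀ x y : G, (∃ k : ℕ, orderOf x = p ^ k) → ¬ p ∣ orderOf y → x * y = 1 → x = 1 ∧ y = 1 := by
      rintro x y ⟨k, hk⟩ hy hxy
      have h3 : y = x⁻¹ := (inv_eq_of_mul_eq_one_right hxy).symm
      rw [h3, orderOf_inv, hk] at hy
      have hk0 : k = 0 := by
        by_contra hc; exact hy (dvd_pow_self p hc)
      rw [hk0, pow_zero, orderOf_eq_one_iff] at hk
      exact ⟨hk, by rw [h3, hk, inv_one]⟩
    refine ⟨⟨fun a b => ?_⟩, ⟨⟨(1, 1), ⟨0, by simp⟩, by rw [orderOf_one]; exact hp.out.not_dvd_one, by simp⟩⟩⟩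
    obtain ⟨e1, e2⟩ := key _ _ a.2.1 a.2.2.1 a.2.2.2
    obtain ⟨e3, e4⟩ := key _ _ b.2.1 b.2.2.1 b.2.2.2
    exact Subtype.ext (Prod.ext (e1.trans e3.symm) (e2.trans e4.symm))
  rw [h2] at h1
  obtain ⟨R, hR⟩ : ∃ R, R = Nat.card {y : G // ¬ p ∣ orderOf y} := ⟨_, rfl⟩
  have hpR : ¬ p ∣ R := by rw [hR]; exact not_dvd_card_regular hM
  have hR0 : R ≠ 0 := by rintro h; exact hpR (h ▸ dvd_zero p)
  rw [← hR] at h1
  refine not_memLocalIdeal_of_sub h1 ?_
  exact not_memLocalIdeal_div hM one_ne_zero hR0 (by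
    rw [Nat.factorization_one]; simp)

open Classical in
theorem exists_over_lin (hM : IsPModular p M) (P : Sylow p G) (f : (P : Subgroup G) →* ℂˣ) :
    ∃ χ ∈ principalBlock M G, ¬ p ∣ charDegree (χ : G → ℂ) ∧ ∀ [Fintype (P : Subgroup G)],
      classInner (fun x : (P : Subgroup G) => (χ : G → ℂ) x) (lch f) ≠ 0 := by
  haveI := IsPModular.isPrime hM
  haveI hFP : Fintype (P : Subgroup G) := Fintype.ofFinite (P : Subgroup G)
  by_contra hcon
  push Not at hcon
  have ha : ∀ χ : IrrCharacter G, ∃ n : ℕ, classInner (fun x : (P : Subgroup G) => (χ : G → ℂ) x) (lch f) = n := fun χ =>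
    IsCharacter.inner_irr_nat (isCharacter_restrict (P : Subgroup G) (IsIrr.isCharacter χ.2)) (isCharacter_one_dim f)
  choose a ha using ha
  have hdiv : ∀ χ ∈ principalBlock M G, p ∣ a χ * charDegree (χ : G → ℂ) := by
    intro χ hχ
    by_cases hd : p ∣ charDegree (χ : G → ℂ)
    · exact hd.mul_left _
    · obtain ⟨inst, h2⟩ := hcon χ hχ hd
      have e : inst = hFP := Subsingleton.elim _ _
      subst e
      rw [ha] at h2
      have h3 : a χ = 0 := by exact_mod_cast h2
      rw [h3, zero_mul]; exact dvd_zero p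
  -- the sum
  have hsum : ∑ χ : IrrCharacter G, (if χ ∈ principalBlock M G then ((a χ * charDegree (χ : G → ℂ) : ℕ) : ℂ) else 0) =
      ((P : Subgroup G).index : ℂ) * blockCoeff (principalBlock M G) 1 := by
    have h1 : ∀ χ : IrrCharacter G, (if χ ∈ principalBlock M G then ((a χ * charDegree (χ : G → ℂ) : ℕ) : ℂ) else 0) =
        (Nat.card (P : Subgroup G) : ℂ)⁻¹ * ∑ x : (P : Subgroup G), conj (lch f x) *
          (if χ ∈ principalBlock M G then (χ : G → ℂ) 1 * (χ : G → ℂ) x else 0) := by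
      intro χ
      split_ifs
      · push_cast
        rw [← ha, classInner_def, (IsIrr.one_eq χ.2).1, mul_assoc, Finset.sum_mul]
        congr 1
        exact Finset.sum_congr rfl fun x _ => by ring
      · simp
    rw [Finset.sum_congr rfl fun χ _ => h1 χ, ← Finset.mul_sum, Finset.sum_comm]
    have h2 : ∀ x : (P : Subgroup G), ∑ χ : IrrCharacter G, conj (lch f x) *
        (if χ ∈ principalBlock M G then (χ : G → ℂ) 1 * (χ : G → ℂ) x else 0) =
        if x = 1 then (Nat.card G : ℂ) * blockCoeff (principalBlock M G) 1 else 0 := by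
      intro x
      rw [← Finset.mul_sum]
      split_ifs with hx
      · subst hx
        have : lch f 1 = 1 := by unfold lch; rw [map_one, Units.val_one]
        rw [this, map_one, one_mul]
        unfold blockCoeff
        rw [finsum_mem_def, finsum_eq_sum_of_fintype, ← mul_assoc, mul_inv_cancel₀ (card_ne_zero G), one_mul]
        refine Finset.sum_congr rfl fun χ _ => ?_
        rw [Set.indicator_apply]
        split_ifs
        · rw [OneMemClass.coe_one, (IsIrr.one_eq χ.2).1, Complex.conj_natCast]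
        · rfl
      · have hwo : p ∣ orderOf ((x : G)⁻¹) := by
          rw [orderOf_inv, Subgroup.orderOf_coe]
          obtain ⟨k, hk⟩ := IsPGroup.iff_orderOf.1 P.2 x
          rw [hk]
          apply dvd_pow_self
          rintro rfl
          rw [pow_zero, orderOf_eq_one_iff] at hk
          exact hx hk
        have h3 := weak_orth hM (inS_eSet (isPBlock_principal (M := M) (G := G))) (x := 1)
          (by rw [orderOf_one]; exact hp.out.not_dvd_one) hwo
        rw [inv_inv] at h3
        rw [h3, mul_zero]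
    rw [Finset.sum_congr rfl fun x _ => h2 x, Finset.sum_ite_eq' Finset.univ (1 : (P : Subgroup G)),
      if_pos (Finset.mem_univ _)]
    have h4 : (Nat.card G : ℂ) = Nat.card (P : Subgroup G) * (P : Subgroup G).index := by
      rw [← Subgroup.card_mul_index (P : Subgroup G)]; push_cast; rfl
    have h5 : (Nat.card (P : Subgroup G) : ℂ) ≠ 0 := card_ne_zero _
    rw [h4]
    field_simp
  have h1 : MemLocalIdeal M (((P : Subgroup G).index : ℂ) * blockCoeff (principalBlock M G) 1) := by
    rw [← hsum]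
    apply memLocalIdeal_sum
    intro χ _
    split_ifs with hχ
    · rw [memLocalIdeal_natCast_iff hM]; exact hdiv χ hχ
    · exact memLocalIdeal_zero
  rw [memLocalIdeal_mul_iff (memLocalRing_natCast _)] at h1
  · rcases h1 with h1 | h1
    · rw [memLocalIdeal_natCast_iff hM] at h1
      exact P.not_dvd_index h1
    · exact blockCoeff_one hM h1
  · have h2 := inS_eSet (isPBlock_principal (M := M) (G := G)) 1
    exact h2

theorem s4888 (hM : IsPModular p M) :
    (∃ d : ℕ, ∀ χ : IrrCharacter G, χ ∈ (principalBlock M G) → blockHeight p (principalBlock M G) (χ : G → ℂ) = 0 →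
      charDegree (χ : G → ℂ) = d) ↔ HasNormalPComplement p G := by
  classical
  haveI := IsPModular.isPrime hM
  constructor
  · rintro ⟨d, hd⟩
    obtain ⟨P⟩ := (inferInstance : Nonempty (Sylow p G))
    have hd1 : d = 1 := by
      rw [← hd (irrOne G) irrOne_mem (height_principal _)]
      exact charDegree_one
    apply npc_of_extend P
    intro f
    obtain ⟨χ, hχ, hχ2, hχ3⟩ := exists_over_lin hM P f
    haveI := Fintype.ofFinite (P : Subgroup G)
    have h1 := hd χ hχ ((height_principal_iff hM χ).2 hχ2)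
    rw [hd1] at h1
    obtain ⟨g, hg⟩ := exists_hom_of_degree_one h1
    refine ⟨g, ?_⟩
    by_contra hne
    apply @hχ3 _
    have h2 : (fun x : (P : Subgroup G) => (χ : G → ℂ) x) = lch (g.comp (P : Subgroup G).subtype) := by
      rw [hg]; rfl
    rw [h2, lch_inner, if_neg]
    intro h3
    apply hne
    intro x
    rw [← h3]; rfl
  · intro h
    refine ⟨1, fun χ hχ h0 => ?_⟩
    rw [height_principal_iff hM] at h0
    have hidx := pPrimeCore_index_of_npc (CfsgH3.hasNPC_iff.1 h)
    have hker := (mem_principal_iff hM hidx).1 hχ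
    obtain ⟨χ', rfl⟩ := exists_defl (pPrimeCore p G) hker
    obtain ⟨k, hk⟩ := hidx
    have h1 : charDegree (χ' : G ⧸ pPrimeCore p G → ℂ) ∣ Nat.card (G ⧸ pPrimeCore p G) :=
      degree_dvd_card χ'.2 (IsIrr.one_eq χ'.2).1
    have h2 : charDegree (inflI (pPrimeCore p G) χ' : G → ℂ) = charDegree (χ' : G ⧸ pPrimeCore p G → ℂ) := by
      have h3 : (inflI (pPrimeCore p G) χ' : G → ℂ) 1 = (χ' : G ⧸ pPrimeCore p G → ℂ) 1 := rfl
      rw [(IsIrr.one_eq (inflI (pPrimeCore p G) χ').2).1, (IsIrr.one_eq χ'.2).1] at h3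
      exact_mod_cast h3
    rw [h2] at h0 ⊢
    have h4 : Nat.card (G ⧸ pPrimeCore p G) = p ^ k := hk
    rw [h4] at h1
    obtain ⟨i, -, hi⟩ := (Nat.dvd_prime_pow hp.out).1 h1
    have hi0 : i = 0 := by
      by_contra hc
      apply h0
      rw [hi]; exact dvd_pow_self p hc
    rw [hi, hi0, pow_zero]

end Blk

end CfsgH5
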