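import Cfsg.Agent.H5.BSe
import Cfsg.Agent.H3.Invol2
import Cfsg.Agent.H2.PLayer

/-!
# Glauberman's Z*-theorem
-/

set_option autoImplicit false
open scoped ComplexConjugate commutatorElement
open Cfsg MonoidAlgebra
open CfsgH4 hiding centralChar sum_conj

universe u

namespace CfsgH5

/-- an involution `x` such that all commutators `[x, g]` have odd order -/
structure OddC {G : Type*} [Group G] (x : G) : Prop where
  ne : x ≠ 1
  sq : x * x = 1
  odd : ∀ g : G, Odd (orderOf (x * (g * x * g⁻¹)))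

section Basic

variable {G : Type*} [Group G] [Finite G] {x u : G}

theorem sq_conj {x : G} (hx : x * x = 1) (g : G) : g * x * g⁻¹ * (g * x * g⁻¹) = 1 := by
  calc g * x * g⁻¹ * (g * x * g⁻¹) = g * (x * x) * g⁻¹ := by group
    _ = 1 := by rw [hx]; group

omit [Finite G] in
theorem inv_of_sq (hx : x * x = 1) : x⁻¹ = x := by rw [inv_eq_iff_mul_eq_one]; exact hx

theorem oddC_of_isolated (P : Sylow 2 G) (hu : orderOf u = 2) (huP : u ∈ P)
    (hiso : ∀ g : G, g * u * g⁻¹ ∈ P → g * u * g⁻¹ = u) : OddC u := by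
  have hu2 := CfsgH3.mul_self_of_orderOf_two hu
  refine ⟨CfsgH3.ne_one_of_orderOf_two hu, hu2, fun g => ?_⟩
  have hy : orderOf (g * u * g⁻¹) = 2 := by rw [CfsgH3.orderOf_conj, hu]
  rw [← Nat.not_even_iff_odd]
  intro heven
  obtain ⟨hz1, hz2, hz3⟩ := CfsgH3.half_props hu hy heven
  set z := (u * (g * u * g⁻¹)) ^ (orderOf (u * (g * u * g⁻¹)) / 2) with hz
  have hconj : IsConj u (u * z) := by
    rcases CfsgH3.conj_half hu hy with h | h
    · exact h
    · exact (isConj_iff.2 ⟨g, rfl⟩).trans h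
  obtain ⟨d, hd⟩ := isConj_iff.1 hconj
  have hcomm : Commute u (d * u * d⁻¹) := by
    rw [hd]; exact (Commute.refl u).mul_right hz2.symm
  have h1 := CfsgH3.isolated_commute P hu hiso d hcomm
  rw [hd] at h1
  exact CfsgH3.ne_one_of_orderOf_two hz1 (by simpa using h1)

theorem OddC.conj (h : OddC x) (g : G) : OddC (g * x * g⁻¹) := by
  refine ⟨fun h1 => h.ne (conj_eq_one h1), sq_conj h.sq g, fun k => ?_⟩
  have h1 := h.odd (g⁻¹ * k * g)
  have h2 : g * x * g⁻¹ * (k * (g * x * g⁻¹) * k⁻¹) = g * (x * (g⁻¹ * k * g * x * (g⁻¹ * k * g)⁻¹)) * g⁻¹ := by group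
  rw [h2, CfsgH3.orderOf_conj]; exact h1

theorem OddC.eq_of_comm (h : OddC x) {g : G} (hc : x * (g * x * g⁻¹) = g * x * g⁻¹ * x) : g * x * g⁻¹ = x := by
  have h1 := h.odd g
  have h2 : (x * (g * x * g⁻¹)) * (x * (g * x * g⁻¹)) = 1 := by
    calc (x * (g * x * g⁻¹)) * (x * (g * x * g⁻¹)) = x * (g * x * g⁻¹) * (g * x * g⁻¹ * x) := by rw [hc]
      _ = x * (g * x * g⁻¹ * (g * x * g⁻¹)) * x := by group
      _ = 1 := by rw [sq_conj h.sq, mul_one, h.sq]
  have h3 : orderOf (x * (g * x * g⁻¹)) ∣ 2 := orderOf_dvd_of_pow_eq_one (by rw [pow_two]; exact h2)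
  have h4 : orderOf (x * (g * x * g⁻¹)) = 1 := by
    rcases (Nat.dvd_prime Nat.prime_two).1 h3 with h5 | h5
    · exact h5
    · rw [h5] at h1; exact absurd h1 (by decide)
  rw [orderOf_eq_one_iff] at h4
  exact (inv_eq_of_mul_eq_one_right h4).symm.trans (inv_of_sq h.sq)

theorem OddC.comm_invol (h : OddC x) {P : Subgroup G} (hP : IsPGroup 2 P) (hx : x ∈ P) {s : G} (hs : s ∈ P) : s * x * s⁻¹ = x := by
  have h1 := h.odd s
  have h2 : x * (s * x * s⁻¹) ∈ P := mul_mem hx (mul_mem (mul_mem hs hx) (inv_mem hs))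
  obtain ⟨k, hk⟩ := hP ⟨_, h2⟩
  have hk' : (x * (s * x * s⁻¹)) ^ 2 ^ k = 1 := by
    have := congrArg Subtype.val hk
    simpa using this
  have h4 := CfsgH3.eq_one_of_coprime_of_pow (p := 2) (Nat.Coprime.symm (Nat.coprime_two_left.2 h1)) hk'
  exact (inv_eq_of_mul_eq_one_right h4).symm.trans (inv_of_sq h.sq)

/-- fusion in the centralizer of `x` -/
theorem OddC.fusion (h : OddC x) {u u' : G} (hu : x * u = u * x) (hu' : x * u' = u' * x) {k : G} (hk : k * u * k⁻¹ = u') :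
    ∃ c : G, c * x = x * c ∧ c * u * c⁻¹ = u' := by
  -- x and x' = k x k⁻¹ centralize u'
  have h1 : (k * x * k⁻¹) * u' = u' * (k * x * k⁻¹) := by
    rw [← hk]
    calc k * x * k⁻¹ * (k * u * k⁻¹) = k * (x * u) * k⁻¹ := by group
      _ = k * (u * x) * k⁻¹ := by rw [hu]
      _ = k * u * k⁻¹ * (k * x * k⁻¹) := by group
  have h2 : Odd (orderOf (k * x * k⁻¹ * x)) := by
    have := h.odd k
    have h3 : k * x * k⁻¹ * x = x * (x * (k * x * k⁻¹)) * x⁻¹ := by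
      rw [inv_of_sq h.sq, ← mul_assoc, ← mul_assoc, h.sq, one_mul]
    rw [h3, CfsgH3.orderOf_conj]; exact this
  obtain ⟨d, hd, hdx⟩ := CfsgH3.exists_conj_of_odd (sq_conj h.sq k) h.sq h2
  have hdu : Commute d u' := by
    obtain ⟨i, rfl⟩ := Subgroup.mem_zpowers_iff.1 hd
    exact (Commute.mul_left (show Commute (k * x * k⁻¹) u' from h1) (show Commute x u' from hu')).zpow_left i
  refine ⟨d * k, ?_, ?_⟩
  · have h4 : d * k * x * (d * k)⁻¹ = x := by
      calc d * k * x * (d * k)⁻¹ = d * (k * x * k⁻¹) * d⁻¹ := by group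
        _ = x := hdx
    exact mul_inv_eq_iff_eq_mul.1 h4
  · calc d * k * u * (d * k)⁻¹ = d * (k * u * k⁻¹) * d⁻¹ := by group
      _ = u' := by rw [hk, hdu.eq, mul_inv_cancel_right]

/-- the 2-part of `x' * u` -/
theorem OddC.part (h : OddC x) {u : G} (hu : x * u = u * x) (huu : u * u = 1) (hux : u ≠ x) (hu1 : u ≠ 1) (g : G) :
    ∃ w v : G, g * x * g⁻¹ * u = w * v ∧ w * w = 1 ∧ IsConj w (x * u) ∧ w ≠ 1 ∧
      (g * x * g⁻¹) * w = w * (g * x * g⁻¹) ∧ u * w = w * u ∧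
      v ∈ Subgroup.zpowers ((g * x * g⁻¹) * (u * (g * x * g⁻¹) * u⁻¹)) := by
  obtain ⟨x', hx'⟩ : ∃ x', x' = g * x * g⁻¹ := ⟨_, rfl⟩
  rw [← hx']
  have hxo : OddC x' := by rw [hx']; exact h.conj g
  have hui := inv_of_sq huu
  obtain ⟨y, hy⟩ : ∃ y, y = x' * u := ⟨_, rfl⟩
  have hyy : y * y = x' * (u * x' * u⁻¹) := by rw [hy, hui]; group
  obtain ⟨m, hm⟩ : ∃ m, m = orderOf (y * y) := ⟨_, rfl⟩
  have hmo : Odd m := by rw [hm, hyy]; exact hxo.odd u
  obtain ⟨j, hj⟩ := hmo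
  have hxinv : x' * y * x'⁻¹ = y⁻¹ := by rw [hy]; exact CfsgH3.conj_mul_eq_inv hxo.sq huu
  have huinv : u * y * u⁻¹ = y⁻¹ := by rw [hy]; exact CfsgH3.conj_mul_eq_inv' hxo.sq huu
  obtain ⟨w, hw⟩ : ∃ w, w = y ^ m := ⟨_, rfl⟩
  have hww : w * w = 1 := by
    rw [hw, ← pow_add, ← two_mul, pow_mul, pow_two, hm, pow_orderOf_eq_one]
  have hwi := inv_of_sq hww
  have hxw : x' * w * x'⁻¹ = w := by
    rw [hw, ← conj_pow, hxinv, inv_pow, ← hw, hwi]
  have huw : u * w * u⁻¹ = w := by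
    rw [hw, ← conj_pow, huinv, inv_pow, ← hw, hwi]
  have hxw' : x' * w = w * x' := mul_inv_eq_iff_eq_mul.1 hxw
  have huw' : u * w = w * u := mul_inv_eq_iff_eq_mul.1 huw
  -- x' w = y^{-j} u y^j
  have hkey : x' * w = (y ^ j)⁻¹ * u * (y ^ j)⁻¹⁻¹ := by
    have h1 : x' * y ^ j * x'⁻¹ = (y ^ j)⁻¹ := by rw [← conj_pow, hxinv, inv_pow]
    have h2 : x' * y = u := by rw [hy, ← mul_assoc, hxo.sq, one_mul]
    calc x' * w = x' * (y ^ j * (y * y ^ j)) := by
          rw [hw, hj, ← pow_succ', ← pow_add]; congr 2; omega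
      _ = x' * y ^ j * x'⁻¹ * (x' * y) * y ^ j := by group
      _ = (y ^ j)⁻¹ * u * (y ^ j)⁻¹⁻¹ := by rw [h1, h2, inv_inv]
  -- the conjugate of u
  have hconj : IsConj w (x * u) := by
    obtain ⟨u', hu'⟩ : ∃ u', u' = g⁻¹ * (y ^ j)⁻¹ * u * (g⁻¹ * (y ^ j)⁻¹)⁻¹ := ⟨_, rfl⟩
    have hgw : g⁻¹ * w * g = x * u' := by
      have h1 : w = x' * ((y ^ j)⁻¹ * u * (y ^ j)⁻¹⁻¹) := by
        rw [← hkey, ← mul_assoc, hxo.sq, one_mul]
      calc g⁻¹ * w * g = g⁻¹ * (x' * ((y ^ j)⁻¹ * u * (y ^ j)⁻¹⁻¹)) * g := by rw [← h1]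
        _ = x * u' := by rw [hx', hu']; group
    have hxu' : x * u' = u' * x := by
      have h1 : x * (x * u') = x * u' * x := by
        rw [← hgw]
        calc x * (g⁻¹ * w * g) = g⁻¹ * (x' * w) * g := by rw [hx']; group
          _ = g⁻¹ * (w * x') * g := by rw [hxw']
          _ = g⁻¹ * w * g * x := by rw [hx']; group
      have h2 := congrArg (fun t => x * t) h1
      simp only [← mul_assoc, h.sq, one_mul] at h2
      exact h2
    obtain ⟨c, hc, hcu⟩ := h.fusion hu hxu' (k := g⁻¹ * (y ^ j)⁻¹) hu'.symm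
    have h3 : c * (x * u) * c⁻¹ = g⁻¹ * w * g := by
      rw [hgw, ← hcu]
      calc c * (x * u) * c⁻¹ = (c * x) * u * c⁻¹ := by group
        _ = x * (c * u * c⁻¹) := by rw [hc]; group
    have h4 : IsConj (x * u) (g⁻¹ * w * g) := isConj_iff.2 ⟨c, h3⟩
    have h5 : IsConj w (g⁻¹ * w * g) := isConj_iff.2 ⟨g⁻¹, by rw [inv_inv]⟩
    exact h5.trans h4.symm
  have hw1 : w ≠ 1 := by
    intro h1
    rw [h1, isConj_one_right] at hconj
    apply hux
    have := eq_inv_of_mul_eq_one_right hconj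
    rw [this, inv_of_sq h.sq]
  refine ⟨w, w * y, ?_, hww, hconj, hw1, hxw', huw', ?_⟩
  · rw [← mul_assoc, hww, one_mul, hy]
  · rw [← hyy, hw, ← pow_succ, hj]
    have : 2 * j + 1 + 1 = 2 * (j + 1) := by ring
    rw [this, pow_mul, pow_two]
    exact Subgroup.npow_mem_zpowers _ _

theorem OddC.subgroup (h : OddC x) {H : Subgroup G} (hx : x ∈ H) : OddC (⟨x, hx⟩ : H) := by
  refine ⟨fun h1 => h.ne (congrArg Subtype.val h1), Subtype.ext h.sq, fun g => ?_⟩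
  have := h.odd g
  rw [← orderOf_submonoid]
  exact this

theorem OddC.quotient (h : OddC x) {N : Subgroup G} [N.Normal] (hx : x ∉ N) : OddC (x : G ⧸ N) := by
  refine ⟨fun h1 => hx ((QuotientGroup.eq_one_iff x).1 h1), ?_, fun g => ?_⟩
  · rw [← QuotientGroup.mk_mul, h.sq, QuotientGroup.mk_one]
  · obtain ⟨g, rfl⟩ := QuotientGroup.mk_surjective g
    have h1 : orderOf (QuotientGroup.mk' N (x * (g * x * g⁻¹))) ∣ orderOf (x * (g * x * g⁻¹)) := orderOf_map_dvd _ _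
    exact Odd.of_dvd_nat (h.odd g) h1

end Basic

end CfsgH5
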