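import Cfsg.Agent.H5.ZStar

/-!
# Glauberman's Z*-theorem: the proof
-/

set_option autoImplicit false
open scoped ComplexConjugate commutatorElement
open Cfsg MonoidAlgebra
open CfsgH4 hiding centralChar sum_conj

universe u

namespace CfsgH5

section Char

variable {G : Type*} [Group G] [Fintype G] {x : G} {M : Ideal AlgInt}

/-- the conclusion of the theorem for a given element -/
def ZConc {G : Type*} [Group G] (x : G) : Prop := ∀ g : G, x * (g * x * g⁻¹) ∈ pPrimeCore 2 G

theorem OddC.char_mul (hM : IsPModular 2 M) (h : OddC x)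
    (ih : ∀ w : G, w ≠ 1 → ∀ x' : Subgroup.centralizer ({w} : Set G), OddC x' → ZConc x')
    {u : G} (hu : x * u = u * x) (huu : u * u = 1) (hux : u ≠ x) (hu1 : u ≠ 1)
    {χ : IrrCharacter G} (hχ : χ ∈ principalBlock M G) :
    (χ : G → ℂ) x * (χ : G → ℂ) u = (χ : G → ℂ) 1 * (χ : G → ℂ) (x * u) := by
  have hcf := IsIrr.isClassFunction χ.2
  have hconj : ∀ {a b : G}, IsConj a b → (χ : G → ℂ) a = (χ : G → ℂ) b := by
    intro a b hab
    obtain ⟨c, rfl⟩ := isConj_iff.1 hab
    exact (hcf a c).symm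
  have key : ∀ g : G, (χ : G → ℂ) (u * (g * x * g⁻¹)) = (χ : G → ℂ) (x * u) := by
    intro g
    obtain ⟨w, v, hwv, hww, hwc, hw1, hxw, huw, hv⟩ := h.part hu huu hux hu1 g
    have h1 : (χ : G → ℂ) (u * (g * x * g⁻¹)) = (χ : G → ℂ) (g * x * g⁻¹ * u) := by
      apply hconj
      exact isConj_iff.2 ⟨u⁻¹, by group⟩
    have hxC : g * x * g⁻¹ ∈ Subgroup.centralizer ({w} : Set G) := Subgroup.mem_centralizer_singleton_iff.2 hxw
    have huC : u ∈ Subgroup.centralizer ({w} : Set G) := Subgroup.mem_centralizer_singleton_iff.2 huw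
    have hz := ih w hw1 ⟨g * x * g⁻¹, hxC⟩ ((h.conj g).subgroup hxC) ⟨u, huC⟩
    have hvc : v ∈ centralizerPPrimeCore 2 w := by
      have h2 : (g * x * g⁻¹) * (u * (g * x * g⁻¹) * u⁻¹) ∈ centralizerPPrimeCore 2 w := ⟨_, hz, rfl⟩
      exact (Subgroup.zpowers_le.2 h2) hv
    have hwo : ∃ k, orderOf w = 2 ^ k := ⟨1, by rw [pow_one]; exact orderOf_eq_prime (by rw [pow_two]; exact hww) hw1⟩
    rw [h1, hwv, principal_mul_core hM hwo hvc hχ, hconj hwc]
  have h1 := irr_mul χ.2 u x
  rw [Finset.sum_congr rfl (fun g _ => key g), Finset.sum_const, nsmul_eq_mul] at h1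
  have h2 := card_ne_zero G
  have h3 : ((Finset.univ : Finset G).card : ℂ) = Nat.card G := by
    rw [Nat.card_eq_fintype_card]; rfl
  rw [h3] at h1
  apply mul_left_cancel₀ h2
  linear_combination -h1

theorem ker_of_sq (hsq : x * x = 1) {χ : G → ℂ} (hχ : IsIrrCharacter G χ) (h : χ x ^ 2 = χ 1 ^ 2) (g : G) :
    χ (x * (g * x * g⁻¹)) = χ 1 := by
  have h1 := irr_mul hχ x x
  have h2 := card_ne_zero G
  have h3 : ((Finset.univ : Finset G).card : ℂ) = Nat.card G := by
    rw [Nat.card_eq_fintype_card]; rfl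
  have h0 := IsIrr.one_ne_zero hχ
  have h4 : ∑ g : G, χ (x * (g * x * g⁻¹)) = ∑ g : G, χ 1 := by
    rw [Finset.sum_const, nsmul_eq_mul, h3]
    apply mul_left_cancel₀ h0
    rw [h1, ← pow_two, h]; ring
  obtain ⟨n, hn⟩ := IsCharacter.one_nat (IsIrr.isCharacter hχ)
  have h5 : ∀ g : G, (χ (x * (g * x * g⁻¹))).re ≤ (χ 1).re := by
    intro g
    refine (Complex.re_le_norm _).trans ((IsCharacter.norm_le (IsIrr.isCharacter hχ) _).trans ?_)
    rw [hn]; simp
  have h6 : ∑ g : G, (χ (x * (g * x * g⁻¹))).re = ∑ g : G, (χ 1).re := by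
    have := congrArg Complex.re h4
    simpa only [Complex.re_sum] using this
  have h7 := (Finset.sum_eq_sum_iff_of_le (fun g _ => h5 g)).1 h6 g (Finset.mem_univ g)
  have h8 : ‖χ (x * (g * x * g⁻¹))‖ ≤ (χ 1).re := by
    refine (IsCharacter.norm_le (IsIrr.isCharacter hχ) _).trans ?_
    rw [hn]; simp
  apply Complex.ext
  · exact h7
  · have h9 : (χ (x * (g * x * g⁻¹))).im = 0 := by
      have h10 := Complex.sq_norm_sub_sq_re (χ (x * (g * x * g⁻¹)))
      have h11 : ‖χ (x * (g * x * g⁻¹))‖ ^ 2 ≤ (χ (x * (g * x * g⁻¹))).re ^ 2 := by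
        rw [h7]
        exact pow_le_pow_left₀ (norm_nonneg _) h8 2
      have h12 : (χ (x * (g * x * g⁻¹))).im ^ 2 ≤ 0 := by linarith
      exact pow_eq_zero_iff two_ne_zero |>.1 (le_antisymm h12 (sq_nonneg _))
    rw [h9, hn]; simp

/-- the contradiction from an involution `u ≠ x` in the normal closure -/
theorem OddC.contra (hM : IsPModular 2 M) (h : OddC x)
    (ih : ∀ w : G, w ≠ 1 → ∀ x' : Subgroup.centralizer ({w} : Set G), OddC x' → ZConc x')
    {u : G} (hu : x * u = u * x) (huu : u * u = 1) (hux : u ≠ x) (hu1 : u ≠ 1)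
    (huN : u ∈ Subgroup.normalClosure {y : G | ∃ g : G, y = x * (g * x * g⁻¹)}) : False := by
  classical
  haveI := IsPModular.isPrime hM
  have hxu : x * (x * u) = x * u * x := by
    rw [mul_assoc x u x, ← hu]
  have hxuu : x * u * (x * u) = 1 := by
    calc x * u * (x * u) = x * (u * x) * u := by group
      _ = x * (x * u) * u := by rw [hu]
      _ = (x * x) * (u * u) := by group
      _ = 1 := by rw [h.sq, huu, mul_one]
  have hxux : x * u ≠ x := fun h1 => hu1 (by simpa using h1)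
  have hxu1 : x * u ≠ 1 := by
    intro h1
    apply hux
    have := eq_inv_of_mul_eq_one_right h1
    rw [this, inv_of_sq h.sq]
  have hval : ∀ χ : IrrCharacter G, χ ∈ principalBlock M G → (χ : G → ℂ) u = 0 ∨ (χ : G → ℂ) u = (χ : G → ℂ) 1 := by
    intro χ hχ
    by_cases h0 : (χ : G → ℂ) u = 0
    · exact Or.inl h0
    right
    have e1 := h.char_mul hM ih hu huu hux hu1 hχ
    have e2 := h.char_mul hM ih hxu hxuu hxux hxu1 hχ
    rw [← mul_assoc, h.sq, one_mul] at e2
    have e3 : (χ : G → ℂ) x ^ 2 = (χ : G → ℂ) 1 ^ 2 := by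
      apply mul_right_cancel₀ h0
      linear_combination (χ : G → ℂ) x * e1 + (χ : G → ℂ) 1 * e2
    have hle : Subgroup.normalClosure {y : G | ∃ g : G, y = x * (g * x * g⁻¹)} ≤ charKerSub (IsIrr.isCharacter χ.2) := by
      haveI := charKerSub_normal (IsIrr.isCharacter χ.2)
      apply Subgroup.normalClosure_le_normal
      rintro y ⟨g, rfl⟩
      exact ker_of_sq h.sq χ.2 e3 g
    exact hle huN
  have huo : ∃ k, orderOf u = 2 ^ k := ⟨1, by rw [pow_one]; exact orderOf_eq_prime (by rw [pow_two]; exact huu) hu1⟩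
  have hupart : IsPPart 2 u u := ⟨1, mul_one u, Commute.one_right u, huo, by rw [orderOf_one]; norm_num⟩
  have h1part : IsPPart 2 (1 : G) 1 := ppart_of_regular (by rw [orderOf_one]; norm_num)
  have horth := block_orth hM (g := 1) (h := u) h1part hupart (fun h1 => hu1 (isConj_one_right.1 h1)) (isPBlock_principal (M := M) (G := G))
  have hsum : ∑ χ : IrrCharacter G, (if χ ∈ principalBlock M G then ‖(χ : G → ℂ) u‖ ^ 2 else 0) = (0 : ℝ) := by
    apply Complex.ofReal_injective
    rw [Complex.ofReal_sum, Complex.ofReal_zero]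
    refine (Finset.sum_congr rfl fun χ _ => ?_).trans horth
    split_ifs with hχ
    · rw [IsCharacter.inv_eq (IsIrr.isCharacter χ.2)]
      push_cast
      rw [← Complex.mul_conj']
      rcases hval χ hχ with h0 | h0
      · rw [h0]; simp
      · rw [h0]
    · simp
  have h2 := (Finset.sum_eq_zero_iff_of_nonneg (fun χ _ => by split_ifs <;> positivity)).1 hsum (irrOne G) (Finset.mem_univ _)
  rw [if_pos irrOne_mem] at h2
  have h3 : ((irrOne G : IrrCharacter G) : G → ℂ) u = 1 := rfl
  rw [h3] at h2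
  norm_num at h2

end Char

/-- central extensions by 2-groups of odd order groups -/
theorem npc_of_central {R : Type*} [Group R] [Finite R] (K : Subgroup R) (hK : K ≤ Subgroup.center R) (hKp : IsPGroup 2 K)
    (hodd : ¬ 2 ∣ K.index) : CfsgH3.HasNPC 2 R := by
  obtain ⟨T, hT⟩ : ∃ T : Sylow 2 R, (T : Subgroup R) = K := ⟨hKp.toSylow hodd, rfl⟩
  apply CfsgH3.hasNPC_burnside T
  intro g _
  rw [Subgroup.mem_centralizer_iff]
  intro t ht
  have ht' : t ∈ (T : Subgroup R) := ht
  rw [hT] at ht'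
  exact (Subgroup.mem_center_iff.1 (hK ht') g).symm

theorem zstar_aux (n : ℕ) : ∀ (G : Type u) [Group G] [Finite G], Nat.card G = n → ∀ x : G, OddC x → ZConc x := by
  induction n using Nat.strong_induction_on with
  | _ n ih =>
  intro G _ _ hn x h
  by_contra hcon
  haveI := Fintype.ofFinite G
  -- odd order elements
  have hodd_mem : ∀ {N : Subgroup G} (_ : N.Normal), (Nat.card N).Coprime 2 → N ≤ pPrimeCore 2 G := fun hN hc => CfsgH2.le_pPrimeCore hN hc
  have hxO : ∀ N : Subgroup G, (Nat.card N).Coprime 2 → x ∉ N := by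
    intro N hN hx
    have h1 : orderOf x ∣ Nat.card N := by
      have := orderOf_dvd_natCard (⟨x, hx⟩ : N)
      rwa [Subgroup.orderOf_mk] at this
    rw [orderOf_eq_prime (by rw [pow_two]; exact h.sq) h.ne] at h1
    exact (Nat.Prime.coprime_iff_not_dvd Nat.prime_two).1 hN.symm h1
  have hquot : ∀ (N : Subgroup G) [N.Normal], N ≠ ⊥ → Nat.card (G ⧸ N) < n := by
    intro N _ hN
    rw [← hn, Subgroup.card_eq_card_quotient_mul_card_subgroup N]
    have h1 : 1 < Nat.card N := by
      by_contra h2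
      exact hN ((Subgroup.card_eq_one).1 (by have := Nat.card_pos (α := N); omega))
    have h2 : 0 < Nat.card (G ⧸ N) := Nat.card_pos
    nlinarith
  -- O(G) = 1
  have hO : pPrimeCore 2 G = ⊥ := by
    by_contra hne
    apply hcon
    intro g
    have h1 := ih _ (hquot _ hne) (G ⧸ pPrimeCore 2 G) rfl _ (h.quotient (hxO _ (CfsgH2.coprime_card_pPrimeCore 2))) (g : G ⧸ pPrimeCore 2 G)
    rw [CfsgH2.pPrimeCore_quotient_pPrimeCore, Subgroup.mem_bot] at h1
    exact (QuotientGroup.eq_one_iff _).1 h1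
  have hxc : x ∉ Subgroup.center G := by
    intro hx
    apply hcon
    intro g
    rw [Subgroup.mem_center_iff.1 hx g, mul_inv_cancel_right, h.sq]
    exact one_mem _
  -- no central elements
  have hcen : ∀ z0 ∈ Subgroup.center G, z0 = 1 := by
    intro z0 hz0
    by_contra hne
    obtain ⟨p, hp, hpd⟩ := Nat.exists_prime_and_dvd (n := orderOf z0) (fun h1 => hne (orderOf_eq_one_iff.1 h1))
    obtain ⟨y, hy, hyo⟩ : ∃ y ∈ Subgroup.center G, orderOf y = p := by
      obtain ⟨m, hm⟩ := hpd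
      refine ⟨z0 ^ m, pow_mem hz0 m, ?_⟩
      have hm0 : m ≠ 0 := by
        rintro rfl
        have := orderOf_pos z0
        omega
      rw [orderOf_pow, hm, Nat.gcd_eq_right (dvd_mul_left m p), Nat.mul_div_cancel _ (Nat.pos_of_ne_zero hm0)]
    haveI hKn : (Subgroup.zpowers y).Normal := by
      refine ⟨fun w hw g => ?_⟩
      have h2 : w ∈ Subgroup.center G := (Subgroup.zpowers_le.2 hy) hw
      rw [Subgroup.mem_center_iff.1 h2 g, mul_inv_cancel_right]
      exact hw
    have hy1 : y ≠ 1 := by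
      rintro rfl
      rw [orderOf_one] at hyo
      exact hp.ne_one hyo.symm
    have hKb : Subgroup.zpowers y ≠ ⊥ := fun h1 => hy1 (Subgroup.zpowers_eq_bot.1 h1)
    by_cases hp2 : p = 2
    swap
    · have h1 := hodd_mem hKn (by
        rw [Nat.card_zpowers, hyo]
        exact (Nat.coprime_primes hp Nat.prime_two).2 hp2)
      rw [hO, le_bot_iff] at h1
      exact hKb h1
    subst hp2
    have hKp : IsPGroup 2 (Subgroup.zpowers y) := isPGroup_zpowers ⟨1, by rw [hyo, pow_one]⟩
    have hxK : x ∉ Subgroup.zpowers y := fun h1 => hxc ((Subgroup.zpowers_le.2 hy) h1)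
    have hz := ih _ (hquot _ hKb) (G ⧸ Subgroup.zpowers y) rfl _ (h.quotient hxK)
    obtain ⟨R, hR⟩ : ∃ R : Subgroup G, R = (pPrimeCore 2 (G ⧸ Subgroup.zpowers y)).comap (QuotientGroup.mk' (Subgroup.zpowers y)) := ⟨_, rfl⟩
    haveI hRn : R.Normal := by rw [hR]; infer_instance
    have hKR : Subgroup.zpowers y ≤ R := by
      intro w hw
      rw [hR, Subgroup.mem_comap, (show QuotientGroup.mk' (Subgroup.zpowers y) w = 1 from (QuotientGroup.eq_one_iff w).2 hw)]
      exact one_mem _
    have hRnpc : CfsgH3.HasNPC 2 R := by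
      apply npc_of_central ((Subgroup.zpowers y).subgroupOf R)
      · intro w hw
        rw [Subgroup.mem_subgroupOf] at hw
        have h2 : (w : G) ∈ Subgroup.center G := (Subgroup.zpowers_le.2 hy) hw
        rw [Subgroup.mem_center_iff]
        intro g
        exact Subtype.ext (Subgroup.mem_center_iff.1 h2 g)
      · exact hKp.of_equiv (Subgroup.subgroupOfEquivOfLe hKR).symm
      · have h1 : ((Subgroup.zpowers y).subgroupOf R).index = Nat.card (pPrimeCore 2 (G ⧸ Subgroup.zpowers y)) := by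
          show (Subgroup.zpowers y).relIndex R = _
          have h2 : Subgroup.zpowers y = (⊥ : Subgroup (G ⧸ Subgroup.zpowers y)).comap (QuotientGroup.mk' (Subgroup.zpowers y)) := by
            rw [MonoidHom.comap_bot, QuotientGroup.ker_mk']
          conv_lhs => rw [h2]
          rw [Subgroup.relIndex_comap, hR, Subgroup.map_comap_eq_self_of_surjective (QuotientGroup.mk'_surjective _), Subgroup.relIndex_bot_left]
        rw [h1]
        exact (Nat.Prime.coprime_iff_not_dvd Nat.prime_two).1 (CfsgH2.coprime_card_pPrimeCore 2).symm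
    apply hcon
    intro g
    have h1 : x * (g * x * g⁻¹) ∈ R := by
      rw [hR]
      exact hz (g : G ⧸ Subgroup.zpowers y)
    have h2 : (⟨_, h1⟩ : R) ∈ Cfsg.pResidual 2 R := by
      apply CfsgH3.mem_pResidual
      rw [Subgroup.orderOf_mk]
      exact Nat.coprime_two_right.2 (h.odd g)
    haveI := CfsgH3.pResidual_normal' 2 R
    have h3 : Cfsg.pResidual 2 R ≤ pPrimeCore 2 R := CfsgH2.le_pPrimeCore inferInstance ((CfsgH3.hasNPC_iff_card (p := 2)).1 hRnpc)
    have h4 : (pPrimeCore 2 R).map R.subtype ≤ pPrimeCore 2 G := CfsgH2.IsSubnormal.pPrimeCore_le hRn.isSubnormal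
    exact h4 ⟨_, h3 h2, rfl⟩
  -- centralizers
  have ihc : ∀ w : G, w ≠ 1 → ∀ x' : Subgroup.centralizer ({w} : Set G), OddC x' → ZConc x' := by
    intro w hw x' hx'
    have hlt : Nat.card (Subgroup.centralizer ({w} : Set G)) < n := by
      rw [← hn]
      refine lt_of_le_of_ne (Nat.le_of_dvd Nat.card_pos (Subgroup.card_subgroup_dvd_card _)) fun h1 => hw ?_
      apply hcen
      have h2 := Subgroup.eq_top_of_card_eq _ h1
      rw [Subgroup.mem_center_iff]
      intro g
      have : g ∈ Subgroup.centralizer ({w} : Set G) := by rw [h2]; exact Subgroup.mem_top g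
      exact Subgroup.mem_centralizer_singleton_iff.1 this
    exact ih _ hlt _ rfl x' hx'
  -- a Sylow 2-subgroup containing x
  have hxp : IsPGroup 2 (Subgroup.zpowers x) := isPGroup_invol h.sq
  obtain ⟨S, hS⟩ := hxp.exists_le_sylow
  have hxS : x ∈ (S : Subgroup G) := hS (Subgroup.mem_zpowers x)
  obtain ⟨N, hN⟩ : ∃ N : Subgroup G, N = Subgroup.normalClosure {y : G | ∃ g : G, y = x * (g * x * g⁻¹)} := ⟨_, rfl⟩
  haveI hNn : N.Normal := by rw [hN]; infer_instance
  have hgen : ∀ g : G, x * (g * x * g⁻¹) ∈ N := by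
    intro g; rw [hN]; exact Subgroup.subset_normalClosure ⟨g, rfl⟩
  have hNodd : 2 ∣ Nat.card N := by
    by_contra h1
    apply hcon
    intro g
    exact hodd_mem hNn ((Nat.Prime.coprime_iff_not_dvd Nat.prime_two).2 h1).symm (hgen g)
  have hT : CfsgH7.IsSyl 2 ((S : Subgroup G) ⊓ N) N :=
    (CfsgH7.isSyl_of_sylow S).inf le_top (by rw [Subgroup.normalizer_eq_top])
  by_cases hex : ∃ u ∈ (S : Subgroup G) ⊓ N, u * u = 1 ∧ u ≠ 1 ∧ u ≠ x
  · obtain ⟨u, ⟨huS, huN⟩, huu, hu1, hux⟩ := hex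
    obtain ⟨M, hM⟩ := exists_isPModular 2
    have hcomm := h.comm_invol S.2 hxS huS
    refine h.contra hM ihc (u := u) ?_ huu hux hu1 (by rw [← hN]; exact huN)
    exact (mul_inv_eq_iff_eq_mul.1 hcomm).symm
  · push Not at hex
    -- there is an involution in S ⊓ N
    have hne : 2 ∣ Nat.card ((S : Subgroup G) ⊓ N : Subgroup G) := by
      by_contra h1
      apply hT.not_dvd
      have h2 : Nat.card N = Nat.card ((S : Subgroup G) ⊓ N : Subgroup G) * ((S : Subgroup G) ⊓ N).relIndex N := by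
        rw [Subgroup.relIndex, ← Subgroup.card_mul_index (((S : Subgroup G) ⊓ N).subgroupOf N),
          Nat.card_congr (Subgroup.subgroupOfEquivOfLe (inf_le_right : (S : Subgroup G) ⊓ N ≤ N)).toEquiv]
      rw [h2] at hNodd
      exact (Nat.Prime.dvd_mul Nat.prime_two).1 hNodd |>.resolve_left h1
    haveI : Fact (Nat.Prime 2) := ⟨Nat.prime_two⟩
    obtain ⟨t, ht⟩ := exists_prime_orderOf_dvd_card' (G := ((S : Subgroup G) ⊓ N : Subgroup G)) 2 hne
    have htt : (t : G) * t = 1 := by
      have := pow_orderOf_eq_one t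
      rw [ht, pow_two] at this
      exact congrArg Subtype.val this
    have ht1 : (t : G) ≠ 1 := by
      intro h1
      have : t = 1 := Subtype.ext h1
      rw [this, orderOf_one] at ht
      norm_num at ht
    have htx : (t : G) = x := hex t t.2 htt ht1
    have hxN : x ∈ N := by rw [← htx]; exact t.2.2
    have hU : UI (((S : Subgroup G) ⊓ N).subgroupOf N) (⟨x, hxN⟩ : N) := by
      refine ⟨⟨hxS, hxN⟩, fun h1 => h.ne (congrArg Subtype.val h1), Subtype.ext h.sq, ?_⟩
      intro w hw hww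
      rw [Subgroup.mem_subgroupOf] at hw
      by_cases hw1 : w = 1
      · exact Or.inl hw1
      · right
        apply Subtype.ext
        exact hex w hw (congrArg Subtype.val hww) (fun h1 => hw1 (Subtype.ext h1))
    have hbs := brauer_suzuki (isSyl_subgroupOf hT) hU
    have h4 : (pPrimeCore 2 N).map N.subtype ≤ pPrimeCore 2 G := CfsgH2.IsSubnormal.pPrimeCore_le hNn.isSubnormal
    have hcomm : ∀ m ∈ N, x * m = m * x := by
      intro m hm
      have h5 := h4 ⟨_, hbs ⟨m, hm⟩, rfl⟩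
      rw [hO, Subgroup.mem_bot] at h5
      have h6 : x * m * x⁻¹ * m⁻¹ = 1 := h5
      rw [mul_inv_eq_one, mul_inv_eq_iff_eq_mul] at h6
      exact h6
    apply hcon
    intro g
    have h7 : g * x * g⁻¹ ∈ N := hNn.conj_mem _ hxN g
    rw [h.eq_of_comm (hcomm _ h7), h.sq]
    exact one_mem _

/-- **Glauberman's Z*-theorem** -/
theorem zstar_odd {G : Type u} [Group G] [Finite G] {x : G} (h : OddC x) (g : G) : x * (g * x * g⁻¹) ∈ pPrimeCore 2 G :=
  zstar_aux _ G rfl x h g

/-- **Glauberman's Z*-theorem** -/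
theorem zstar {G : Type u} [Group G] [Finite G] (P : Sylow 2 G) {u : G} (hu : orderOf u = 2) (huP : u ∈ P)
    (hiso : ∀ g : G, g * u * g⁻¹ ∈ P → g * u * g⁻¹ = u) (g : G) : u * g * u⁻¹ * g⁻¹ ∈ pPrimeCore 2 G := by
  have h := oddC_of_isolated P hu huP hiso
  have h1 := zstar_odd h g
  have h2 : u * g * u⁻¹ * g⁻¹ = u * (g * u * g⁻¹) := by rw [inv_of_sq h.sq]; group
  rw [h2]; exact h1

end CfsgH5
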